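import Cfsg.Agent.E63.Fr
import Cfsg.Agent.F22L.Mk
import Cfsg.Agent.Grp.ExtraspecialIso
import Cfsg.Agent.Grp.Card

/-! Coordinates for the `3`-centraliser `3^(1+6).Q₈³.Y`. -/

set_option autoImplicit false

namespace Cfsg.Agent.E63

open Subgroup Cfsg.Agent.F22L Cfsg.Agent.F22L.Wr

namespace Dc

open Cfsg.Agent.Grp.ES
open scoped commutatorElement

variable {K : Type*} [Group K] {z : K} {Q : Subgroup K}

local notation "π" => QuotientGroup.mk' (center K)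

/-- an extraspecial normal subgroup whose centre is the centre of the group -/
structure Ex (z : K) (Q : Subgroup K) : Prop extends IsES 3 z Q where
  hz : Subgroup.center K = zpowers z
  nrm : Q.Normal

theorem es_card [Finite K] {S : Subgroup K} (h : IsES 3 z S) :
    S = zpowers z ∨ ∃ n, Nat.card S = 3 ^ (2 * n + 3) := by
  have := Fact.mk Nat.prime_three
  obtain ⟨n, x, y, b⟩ := h.exists_sympBasis
  rcases n with _ | n
  · exact .inl (eq_of_le_of_card_ge h.zpowers_le (by rw [b.card, Nat.card_zpowers, h.ord]; norm_num)).symm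
  · exact .inr ⟨n, b.card⟩

theorem aux {A : Type*} [Group A] {g x y : A} (c : Commute x y) (h1 : g * x * g⁻¹ = y) (h2 : g * y * g⁻¹ = x)
    (h3 : (x * y) ^ 3 = 1) :
    g * (x * y) ^ 2 * g⁻¹ = (x * y) ^ 2 ∧ g * (((x * y) ^ 2)⁻¹ * x) * g⁻¹ = (((x * y) ^ 2)⁻¹ * x)⁻¹ := by
  have e : g * (x * y) * g⁻¹ = x * y := by rw [← conj_mul, h1, h2, c.eq]
  refine ⟨by rw [← conj_pow, e], ?_⟩
  rw [show ((x * y) ^ 2)⁻¹ = x * y from inv_eq_of_mul_eq_one_right (by rw [← pow_succ, h3]), ← conj_mul, e, h1,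
    eq_inv_iff_mul_eq_one, ← h3, pow_three, mul_assoc, ← mul_assoc y, ← ((c.symm.mul_right (.refl y)).symm).eq,
    mul_assoc (x * y), c.eq]

namespace Ex

variable (h : Ex z Q)
include h

theorem pi_one {a : K} : π a = 1 ↔ a ∈ zpowers z := by
  rw [← h.hz]; exact QuotientGroup.eq_one_iff a

theorem pc {a b : K} (ha : a ∈ Q) (hb : b ∈ Q) : Commute (π a) (π b) := by
  rw [← commutatorElement_eq_one_iff_commute, ← map_commutatorElement, h.pi_one]
  exact h.comm a ha b hb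

theorem p3 {a : K} (ha : a ∈ Q) : π a ^ 3 = 1 := by
  rw [← map_pow, h.pi_one]; exact h.toIsES.pow_mem ha

/-- the elements on which `c` acts as the `e`-th power modulo the centre -/
def T (c : K) (e : ℤ) : Subgroup K where
  carrier := {q | q ∈ Q ∧ π c * π q * (π c)⁻¹ = π q ^ e}
  one_mem' := ⟨one_mem _, by simp⟩
  mul_mem' := fun {a b} ha hb => ⟨mul_mem ha.1 hb.1, by
    rw [map_mul, ← conj_mul, ha.2, hb.2, (h.pc ha.1 hb.1).mul_zpow]⟩
  inv_mem' := fun {a} ha => ⟨inv_mem ha.1, by rw [map_inv, ← conj_inv, ha.2, inv_zpow]⟩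

theorem T_pos {c q : K} (hq : q ∈ Q) : q ∈ h.T c 1 ↔ c * q * c⁻¹ * q⁻¹ ∈ center K := by
  rw [h.hz, ← h.pi_one, map_mul, map_mul, map_mul, map_inv, map_inv, mul_inv_eq_one]
  exact ⟨fun a => by simpa using a.2, fun a => ⟨hq, by simpa using a⟩⟩

theorem T_neg {c q : K} (hq : q ∈ Q) : q ∈ h.T c (-1) ↔ c * q * c⁻¹ * q ∈ center K := by
  rw [h.hz, ← h.pi_one, map_mul, map_mul, map_mul, map_inv, mul_eq_one_iff_eq_inv]
  exact ⟨fun a => by simpa using a.2, fun a => ⟨hq, by simpa using a⟩⟩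

theorem z_mem (c : K) (e : ℤ) : z ∈ h.T c e := ⟨h.mem, by rw [h.pi_one.2 (mem_zpowers z)]; simp⟩

theorem le_T {u : K} (hu : u ∈ Q) : Q ≤ h.T u 1 := fun q hq => ⟨hq, by rw [(h.pc hu hq).eq]; simp⟩

theorem T_conj {c x q : K} {e : ℤ} (hx : x⁻¹ * c * x * c⁻¹ ∈ Q) (hq : q ∈ h.T c e) : x * q * x⁻¹ ∈ h.T c e := by
  refine ⟨h.nrm.conj_mem _ hq.1 x, ?_⟩
  have h1 := (h.le_T hx (zpow_mem hq.1 e)).2
  rw [map_zpow, zpow_one] at h1
  rw [map_mul, map_mul, map_inv, conj_zpow, ← h1, ← hq.2]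
  simp only [map_mul, map_inv]; group

theorem T_div {a b q : K} {e : ℤ} (ha : q ∈ h.T a e) (hb : q ∈ h.T b e) : q ∈ h.T (b⁻¹ * a) 1 :=
  ⟨ha.1, by
    have := ha.2.trans hb.2.symm
    rw [zpow_one, map_mul, map_inv, mul_inv_rev, inv_inv, mul_assoc, mul_assoc, ← mul_assoc _ (π a)⁻¹,
      ← mul_assoc (π a), ← mul_assoc (π a), this]; group⟩

theorem comm_T {c a b : K} (ha : a ∈ h.T c 1) (hb : b ∈ h.T c (-1)) : Commute a b := by
  have zc : ∀ w ∈ zpowers z, ∀ g, Commute g w := fun w hw g => mem_center_iff.1 (h.hz ▸ hw) g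
  have h1 := h.hz ▸ (h.T_pos ha.1).1 ha
  have h2 := h.hz ▸ (h.T_neg hb.1).1 hb
  have h3 := h.comm a ha.1 b hb.1
  have h4 : ⁅a, b⁆ = ⁅c * a * c⁻¹ * a⁻¹ * a, c * b * c⁻¹ * b * b⁻¹⁆ := by
    rw [inv_mul_cancel_right, mul_inv_cancel_right, ← conjugate_commutatorElement, (zc _ h3 c).eq,
      mul_inv_cancel_right]
  have m1 := h.zpowers_le h1
  have m2 := h.zpowers_le h2
  rw [h.mul_left m1 ha.1 (mul_mem m2 (inv_mem hb.1)), commutatorElement_eq_one_iff_commute.2 (zc _ h1 _).symm,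
    one_mul, h.mul_right ha.1 m2 (inv_mem hb.1), commutatorElement_eq_one_iff_commute.2 (zc _ h2 _), one_mul,
    ← zpow_neg_one, h.zpow_right ha.1 hb.1, zpow_neg_one, eq_inv_iff_mul_eq_one] at h4
  have h5 := h.toIsES.pow_eq_one h3
  rwa [pow_three', h4, one_mul, commutatorElement_eq_one_iff_commute] at h5

variable {S : Subgroup K} (es : IsES 3 z S) (le : S ≤ Q) {c : K} (n : ∀ q ∈ S, c * q * c⁻¹ ∈ S)
  (c2 : S ≤ h.T (c * c) 1)
include le n c2

theorem dec {q : K} (hq : q ∈ S) : ∃ a ∈ S ⊓ h.T c 1, ∃ b ∈ S ⊓ h.T c (-1), q = a * b := by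
  have m : _ ∈ S := pow_mem (mul_mem hq (n q hq)) 2
  have e := aux (g := π c) (h.pc (le hq) (le (n q hq))) (by simp) (by
    have := (c2 hq).2
    rw [zpow_one] at this
    rw [← this]; simp only [map_mul, map_inv]; rw [← this]; group)
    (by rw [← map_mul]; exact h.p3 (le (mul_mem hq (n q hq))))
  have m' : _ ∈ S := mul_mem (inv_mem m) hq
  exact ⟨_, ⟨m, le m, by simpa only [map_mul, map_pow, zpow_one] using e.1⟩, _, ⟨m', le m', by
      simpa only [map_mul, map_pow, map_inv, zpow_neg_one] using e.2⟩, (mul_inv_cancel_left _ _).symm⟩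

include es

theorem sup_eq : (S ⊓ h.T c 1) ⊔ (S ⊓ h.T c (-1)) = S :=
  le_antisymm (sup_le inf_le_left inf_le_left) fun q hq => by
    obtain ⟨a, ha, b, hb, rfl⟩ := h.dec le n c2 hq
    exact mul_mem_sup ha hb

theorem es_T {e : ℤ} (he : e = 1 ∨ e = -1) : IsES 3 z (S ⊓ h.T c e) :=
  ⟨es.ord, ⟨es.mem, h.z_mem c e⟩, fun s hs => es.central s hs.1, fun a ha b hb => es.comm a ha.1 b hb.1,
    fun a ha hc => es.center a ha.1 fun q hq => by
      obtain ⟨u, hu, v, hv, rfl⟩ := h.dec le n c2 hq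
      rcases he with rfl | rfl
      exacts [(hc u hu).mul_right (h.comm_T ha.2 hv.2), (h.comm_T hu.2 ha.2).symm.mul_right (hc v hv)]⟩

theorem card_T : Nat.card ↥(S ⊓ h.T c 1) * Nat.card ↥(S ⊓ h.T c (-1)) = Nat.card S * 3 := by
  rw [← Grp.card_sup_mul_card_inf_of_le_normalizer (H := S ⊓ h.T c 1) (N := S ⊓ h.T c (-1)) (fun a ha => centralizer_le_normalizer _ fun b hb =>
    (h.comm_T ha.2 hb.2).symm), h.sup_eq es le n c2, ← es.ord, ← Nat.card_zpowers]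
  congr 3
  exact le_antisymm (fun a ha => (h.es_T es le n c2 (.inl rfl)).center a ha.1 fun b hb =>
    (h.comm_T hb.2 ha.2.2).symm) (zpowers_le.2 ⟨⟨es.mem, h.z_mem _ _⟩, es.mem, h.z_mem _ _⟩)

theorem dich [Finite K] : (S ≤ h.T c 1 ∨ S ≤ h.T c (-1)) ∨ ∃ k m, Nat.card ↥(S ⊓ h.T c 1) = 3 ^ (2 * k + 3) ∧
    Nat.card ↥(S ⊓ h.T c (-1)) = 3 ^ (2 * m + 3) ∧ Nat.card S = 3 ^ (2 * (k + m) + 5) := by
  have e := h.sup_eq es le n c2
  rcases es_card (h.es_T es le n c2 (.inl rfl)) with h1 | ⟨k, h1⟩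
  · exact .inl (.inr (e.ge.trans (sup_le (h1.le.trans (zpowers_le.2 (h.z_mem _ _))) inf_le_right)))
  rcases es_card (h.es_T es le n c2 (.inr rfl)) with h2 | ⟨m, h2⟩
  · exact .inl (.inl (e.ge.trans (sup_le inf_le_right (h2.le.trans (zpowers_le.2 (h.z_mem _ _))))))
  refine .inr ⟨k, m, h1, h2, Nat.eq_of_mul_eq_mul_right (m := 3) (by norm_num) ?_⟩
  rw [← h.card_T es le n c2, h1, h2]; ring

theorem pm27 [Finite K] (hc : Nat.card S = 27) : S ≤ h.T c 1 ∨ S ≤ h.T c (-1) :=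
  (h.dich es le n c2).resolve_right fun ⟨k, m, _, _, e⟩ => by
    have := Nat.pow_right_injective (a := 3) (by norm_num) ((show 3 ^ 3 = 27 from rfl).trans (hc.symm.trans e))
    omega

end Ex

/-- an invariant extraspecial subgroup -/
structure Gd (z : K) (Q P S : Subgroup K) : Prop extends IsES 3 z S where
  le : S ≤ Q
  nrm : ∀ x ∈ P, ∀ q ∈ S, x * q * x⁻¹ ∈ S

theorem decomp [Finite K] (h : Ex z Q) (hc : Nat.card Q = 3 ^ 7) {P : Subgroup K} (c : (Fin 3 → Bool) → K)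
    (cP : ∀ e, c e ∈ P) (c2 : ∀ e, c e * c e ∈ Q) (cc : ∀ e, ∀ x ∈ P, x⁻¹ * c e * x * (c e)⁻¹ ∈ Q)
    (ci : ∀ a b, Q ≤ h.T ((c b)⁻¹ * c a) 1 → a = b) :
    ∃ R : Fin 3 → Subgroup K, (∀ i, Gd z Q P (R i)) ∧ (∀ i, Nat.card (R i) = 27) ∧
      (∀ i j, i < j → ∀ a ∈ R i, ∀ b ∈ R j, Commute a b) ∧ R 0 ⊔ R 1 ⊔ R 2 = Q ∧
      ∀ i, ∃ e, R i ≤ h.T (c e) (-1) ∧ ∀ j, j ≠ i → R j ≤ h.T (c e) 1 := by
  have sgn : ∀ {k} (S : Fin k → Subgroup K), Q ≤ ⨆ i, S i →
      (∀ e i, S i ≤ h.T (c e) 1 ∨ S i ≤ h.T (c e) (-1)) → ∃ s : (Fin 3 → Bool) → Fin k → Bool,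
        Function.Injective s ∧ ∀ e i, S i ≤ h.T (c e) (if s e i then -1 else 1) := fun S hS pm => by
    have : ∀ e i, ∃ b : Bool, S i ≤ h.T (c e) (if b then -1 else 1) := fun e i =>
      (pm e i).elim (fun a => ⟨false, a⟩) fun a => ⟨true, a⟩
    choose s hs using this
    exact ⟨s, fun a b e => ci a b (hS.trans (iSup_le fun i q hq => h.T_div (hs a i hq) (e ▸ hs b i hq))), hs⟩
  have sp : ∀ {S}, Gd z Q P S → ∀ e, (S ≤ h.T (c e) 1 ∨ S ≤ h.T (c e) (-1)) ∨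
      ∃ U W k m, Gd z Q P U ∧ Gd z Q P W ∧ Nat.card U = 3 ^ (2 * k + 3) ∧ Nat.card W = 3 ^ (2 * m + 3) ∧
        Nat.card S = 3 ^ (2 * (k + m) + 5) ∧ k ≤ m ∧ (∀ a ∈ U, ∀ b ∈ W, Commute a b) ∧ U ⊔ W = S := by
    intro S g e
    have n := g.nrm _ (cP e)
    have s2 := g.le.trans (h.le_T (c2 e))
    have gd : ∀ {t : ℤ}, t = 1 ∨ t = -1 → Gd z Q P (S ⊓ h.T (c e) t) := fun ht =>
      ⟨h.es_T g.toIsES g.le n s2 ht, inf_le_left.trans g.le,
        fun x hx q hq => ⟨g.nrm x hx q hq.1, h.T_conj (cc e x hx) hq.2⟩⟩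
    refine (h.dich g.toIsES g.le n s2).imp_right fun ⟨k, m, h1, h2, h3⟩ => ?_
    rcases le_total k m with l | l
    · exact ⟨_, _, k, m, gd (.inl rfl), gd (.inr rfl), h1, h2, h3, l, fun a ha b hb => h.comm_T ha.2 hb.2,
        h.sup_eq g.toIsES g.le n s2⟩
    · exact ⟨_, _, m, k, gd (.inr rfl), gd (.inl rfl), h2, h1, add_comm k m ▸ h3, l,
        fun a ha b hb => (h.comm_T hb.2 ha.2).symm, (sup_comm _ _).trans (h.sup_eq g.toIsES g.le n s2)⟩
  have pm : ∀ {S}, Gd z Q P S → Nat.card S = 27 → ∀ e, S ≤ h.T (c e) 1 ∨ S ≤ h.T (c e) (-1) := fun g hS e =>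
    h.pm27 g.toIsES g.le (g.nrm _ (cP e)) (g.le.trans (h.le_T (c2 e))) hS
  have pw : ∀ {a b : ℕ}, 3 ^ a = 3 ^ b → a = b := fun e => Nat.pow_right_injective (a := 3) (by norm_num) e
  obtain ⟨e, he⟩ : ∃ e, ¬ (Q ≤ h.T (c e) 1 ∨ Q ≤ h.T (c e) (-1)) := by
    by_contra! a
    obtain ⟨s, hs, -⟩ := sgn ![Q] (le_iSup ![Q] 0) fun e i => by fin_cases i; exact a e
    exact absurd (Fintype.card_le_of_injective s hs) (by simp)
  obtain ⟨U, W, k, m, gU, gW, cU, cW, h1, h2, cm, sup⟩ :=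
    (sp ⟨h.toIsES, le_rfl, fun x _ q hq => h.nrm.conj_mem q hq x⟩ e).resolve_left he
  obtain ⟨rfl, rfl⟩ : k = 0 ∧ m = 1 := by have := pw (hc.symm.trans h1); omega
  obtain ⟨e, he⟩ : ∃ e, ¬ (W ≤ h.T (c e) 1 ∨ W ≤ h.T (c e) (-1)) := by
    by_contra! a
    obtain ⟨s, hs, -⟩ := sgn ![U, W] (sup.ge.trans (sup_le (le_iSup ![U, W] 0) (le_iSup ![U, W] 1)))
      fun e i => by fin_cases i; exacts [pm gU cU e, a e]
    exact absurd (Fintype.card_le_of_injective s hs) (by simp)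
  obtain ⟨A, B, k, m, gA, gB, cA, cB, h1, -, cm', sup'⟩ := (sp gW e).resolve_left he
  obtain ⟨rfl, rfl⟩ : k = 0 ∧ m = 0 := by have := pw (cW.symm.trans h1); omega
  have g : ∀ i, Gd z Q P (![U, A, B] i) := fun i => by fin_cases i; exacts [gU, gA, gB]
  have cd : ∀ i, Nat.card (![U, A, B] i) = 27 := fun i => by fin_cases i; exacts [cU, cA, cB]
  have su : U ⊔ A ⊔ B = Q := by rw [sup_assoc, sup', sup]
  obtain ⟨s, hs, hs'⟩ := sgn ![U, A, B] (su.ge.trans (sup_le (sup_le (le_iSup ![U, A, B] 0)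
    (le_iSup ![U, A, B] 1)) (le_iSup ![U, A, B] 2))) fun e i => pm (g i) (cd i) e
  refine ⟨![U, A, B], g, cd, fun i j l a ha b hb => ?_, su, fun i => ?_⟩
  · fin_cases i <;> fin_cases j <;> simp at l
    exacts [cm a ha b (sup'.le (mem_sup_left hb)), cm a ha b (sup'.le (mem_sup_right hb)), cm' a ha b hb]
  · obtain ⟨e, he⟩ := Finite.injective_iff_surjective.1 hs fun j => decide (j = i)
    exact ⟨e, by simpa [he] using hs' e i, fun j hj => by simpa [he, hj] using hs' e j⟩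

/-- the central elements of `Q₈` -/
def tb (b : Bool) : QuaternionGroup 2 := if b then .a 2 else 1

theorem card_B8 : Nat.card B8 = 512 := by
  rw [Nat.card_congr (⟨fun x i => ⟨x.1.m i, x.2.2 i⟩, fun m => ⟨bs fun i => m i, rfl, fun i => (m i).2⟩,
    fun x => Subtype.ext (eq_bs x.2.1).symm, fun _ => rfl⟩ : B8 ≃ (Fin 3 → SL.Q8)), Nat.card_pi]
  simp only [SL.card_Q8]; rfl

end Dc

/-- Proof. Feed `F22L.exists_HS` (see `F22L/Mk`), then `|X ⊓ B8| = |O₂(H/Q)| = 512 = |B8|` gives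
`B8 ≤ X`, and `exists_bs` gives `κ`. Let `P` be the preimage of `O₂(H/Q) ≅ Q₈³`, `z` the generator of
`center H` (`Grp.ES.isES_of_isExtraspecial`, as in the first lines of `exists_HS`), and `c 0, c 1, c 2 ∈ P`
lifts of the three central involutions of the factors (their images are central in `P/Q`, of order 2).
An element of `H` acting trivially on `Q/Z` lies in `Q`: these elements form a normal subgroup `M`
in which every cube centralises `Q` (`Z` is central in `H`, of order 3), `C_H(Q) ≤ Q`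
(`PLocal.centralizer_fstar_le`), so `M` is a normal 3-subgroup, `M ≤ pCore 3 H ≤ F* = Q`.
For a sign vector `ε : Fin 3 → Bool` let `Q ε = {q ∈ Q | ∀ i, c i * q * (c i)⁻¹ * q^(∓1) ∈ Z}` (a
subgroup containing `Z`, normalised by `P`, as `Q/Z` is elementary abelian and elements of `Q` act
trivially on it). Every `q` is a product of elements of the `Q ε` modulo `Z` (for one involution `c`:
`q ≡ (q·q^c)² · (q·(q^c)⁻¹)²` mod `Z`; iterate). `Q ε` and `Q ε'` commute for `ε ≠ ε'`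
(`[a,b] = [a,b]^c = [a,b⁻¹] = [a,b]⁻¹`). So the centre of `Q ε` is central in `Q`, i.e. is `Z`; hence
`Q ε = Z` or `Q ε` is extraspecial of order `≥ 27`, and the product of the orders `|Q ε / Z|` is `3⁶`
(central product). The group `⟨c i⟩Q/Q ≅ 2³` acts faithfully on `Q/Z`, so the `ε` with `Q ε ≠ Z` span the
dual of `2³`: there are exactly three of them, independent, each of order `27`. These are `Q₁ Q₂ Q₃`.
`hexp4`: `x⁴ ∈ Q`. `hinv`: if `x²` is trivial on `Qᵢ/Z`, split `Qᵢ` by the same argument into the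
commuting parts `±`; if both are `≠ Z` both have order 9 and `Qᵢ` is abelian. `hcent`: dual basis
(products of the `c i`). -/
theorem exists_Bs {G : Type*} [Group G] [Finite G]
    (H : Subgroup G) (Q : Subgroup H) (hQF : Q = Cfsg.generalizedFittingSubgroup H) [hQn : Q.Normal]
    (hQex : Cfsg.IsExtraspecial 3 Q) (hQcard : Nat.card Q = 3 ^ 7)
    (hZZ : (Subgroup.center Q).map Q.subtype = Subgroup.center H)
    (eO : Cfsg.pCore 2 (H ⧸ Q) ≃* QuaternionGroup 2 × QuaternionGroup 2 × QuaternionGroup 2)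
    (Z : Subgroup G) (hZ : Z = (Subgroup.center H).map H.subtype)
    (hHC : H = Subgroup.centralizer (Z : Set G)) :
    ∃ (z : G) (ψ : Hs →* G) (ρ : G → Wr) (l : G → V →+ F3) (X : Subgroup Wr) (κ : B8 →* G),
      Bs z ψ ρ l X κ ∧ Z = zpowers z ∧ (pCore 3 H).map H.subtype = ψ.range := by
  have := Fact.mk Nat.prime_three
  obtain ⟨z, es, ne, hz⟩ := Grp.ES.isES_of_isExtraspecial hQex
  replace hz : center H = zpowers z := by
    rw [← hZZ, ← hz]
    ext x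
    exact ⟨by rintro ⟨y, hy, rfl⟩; exact ⟨y.2, fun q hq =>
      congrArg Subtype.val (mem_center_iff.1 hy ⟨q, hq⟩)⟩, fun h => ⟨⟨x, h.1⟩,
      mem_center_iff.2 fun q => Subtype.ext (h.2 q q.2), rfl⟩⟩
  have h : Dc.Ex z Q := ⟨es, hz, hQn⟩
  have fa : ∀ g, Q ≤ h.T g 1 → g ∈ Q := fun g hg => by
    obtain ⟨e, he, h1⟩ := es.exists_conj_eq ne (g := g) fun s hs => hz ▸ (h.T_pos hs).1 (hg hs)
    exact (Q.mul_mem_cancel_left (inv_mem he)).1 (hQF ▸ PLocal.centralizer_fstar_le H (hQF ▸ h1))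
  have t2 : ∀ b, Dc.tb b * Dc.tb b = 1 := by decide
  have tc : ∀ b x, x⁻¹ * Dc.tb b * x * (Dc.tb b)⁻¹ = 1 := by decide
  have ti : ∀ a b, (Dc.tb b)⁻¹ * Dc.tb a = 1 → a = b := by decide
  have t4 : ∀ x : QuaternionGroup 2, x ^ 4 = 1 := by decide
  choose c hc using fun e : Fin 3 → Bool =>
    QuotientGroup.mk'_surjective Q (eO.symm (Dc.tb (e 0), Dc.tb (e 1), Dc.tb (e 2))).1
  have k : ∀ (x : H) (y : pCore 2 (H ⧸ Q)), QuotientGroup.mk' Q x = y → (x ∈ Q ↔ eO y = 1) := fun x y e => by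
    rw [map_eq_one_iff _ eO.injective, Subtype.ext_iff, ← e]; exact (QuotientGroup.eq_one_iff x).symm
  obtain ⟨R, g, cd, cm, su, ct⟩ := Dc.decomp h hQcard
    (P := (pCore 2 (H ⧸ Q)).comap (QuotientGroup.mk' Q)) c (fun e => by rw [mem_comap, hc]; exact SetLike.coe_mem _)
    (fun e => (k _ (_ * _) (by rw [map_mul, hc]; rfl)).2 (by simp [t2]))
    (fun e x hx => (k _ ((⟨_, hx⟩ : pCore 2 (H ⧸ Q))⁻¹ * _ * ⟨_, hx⟩ * _⁻¹) (by
      rw [map_mul, map_mul, map_mul, map_inv, map_inv, hc]; rfl)).2 (by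
      simp only [map_mul, map_inv, MulEquiv.apply_symm_apply]
      exact Prod.ext (tc _ _) (Prod.ext (tc _ _) (tc _ _))))
    fun a b e => by
      have := (k _ (_⁻¹ * _) (by rw [map_mul, map_inv, hc, hc]; rfl)).1 (fa _ e)
      simp only [map_mul, map_inv, MulEquiv.apply_symm_apply] at this
      funext i
      fin_cases i
      exacts [ti _ _ (congrArg (·.1) this), ti _ _ (congrArg (·.2.1) this), ti _ _ (congrArg (·.2.2) this)]
  have mR : ∀ {S}, S ∈ [R 0, R 1, R 2] → ∃ i, S = R i := fun hS => by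
    simp only [List.mem_cons, List.not_mem_nil, or_false] at hS
    rcases hS with e | e | e <;> exact ⟨_, e⟩
  have ex : ∀ i, IsExtraspecial 3 (R i) := fun i => (g i).toIsES.isExtraspecial fun e => by
    have := cd i
    rw [e, Nat.card_zpowers, es.ord] at this
    omega
  have zl : ∀ i, center H ≤ R i := fun i => hz ▸ (g i).zpowers_le
  obtain ⟨y, ψ, ρ, l, X, hs, h1, h2, -, h3, -⟩ := exists_HS H Q hQF hQex hQcard hZZ _ rfl (R 0) (R 1) (R 2)
    ⟨(g 0).le, (g 1).le, (g 2).le⟩ ⟨zl 0, zl 1, zl 2⟩ ⟨ex 0, ex 1, ex 2⟩ ⟨cd 0, cd 1, cd 2⟩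
    ⟨cm 0 1 (by decide), cm 0 2 (by decide), cm 1 2 (by decide)⟩ su
    (fun x hx S hS => by obtain ⟨i, rfl⟩ := mR hS; exact (g i).nrm x hx)
    (fun x hx S hS q hq => by
      obtain ⟨i, rfl⟩ := mR hS
      refine (h.T_pos ((g i).le hq)).1 (h.le_T ((k _ (⟨_, hx⟩ ^ 4) (by rw [map_pow]; rfl)).2 ?_) ((g i).le hq))
      rw [map_pow]
      exact Prod.ext (t4 _) (Prod.ext (t4 _) (t4 _)))
    (fun x hx S hS a => by
      obtain ⟨i, rfl⟩ := mR hS
      exact (h.pm27 (g i).toIsES (g i).le ((g i).nrm x hx) (fun q hq => (h.T_pos ((g i).le hq)).2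
        (pow_two x ▸ a q hq)) (cd i)).imp (fun b q hq => (h.T_pos ((g i).le hq)).1 (b hq))
        fun b q hq => (h.T_neg ((g i).le hq)).1 (b hq))
    (fun S hS => by
      obtain ⟨i, rfl⟩ := mR hS
      obtain ⟨e, a, b⟩ := ct i
      refine ⟨c e, by rw [mem_comap, hc]; exact SetLike.coe_mem _, fun q hq => (h.T_neg ((g i).le hq)).1 (a hq),
        fun S hS n q hq => ?_⟩
      obtain ⟨j, rfl⟩ := mR hS
      exact (h.T_pos ((g j).le hq)).1 (b j (fun e => n (e ▸ rfl)) hq)) Z hZ hHC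
  have : Finite B8 := Nat.finite_of_card_ne_zero (by rw [Dc.card_B8]; norm_num)
  obtain ⟨κ, hκ⟩ := exists_bs hs (inf_eq_right.1 (eq_of_le_of_card_ge inf_le_right (by
    rw [Dc.card_B8, h3, Nat.card_congr eO.toEquiv]; simp [QuaternionGroup.card])))
  exact ⟨y, ψ, ρ, l, X, κ, hκ, h1, h2⟩

end Cfsg.Agent.E63
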