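import Cfsg.Agent.E63.B3b2

/-! From two frames to the frame `3^5`. -/

set_option autoImplicit false

namespace Cfsg.Agent.E63

open Subgroup Cfsg.Agent.F22L Cfsg.Agent.F22L.Wr Cfsg.Agent.Loc3

variable {G : Type*} [Group G] {z : G} {ψ : Hs →* G} {ρ : G → Wr} {l : G → V →+ F3}
  {X : Subgroup Wr} {κ : B8 →* G} {j z' : G} {ψ' : Hs →* G} {ρ' : G → Wr} {l' : G → V →+ F3}
  {κ' : B8 →* G} {v : V} {y : Fin 3 → F5}

namespace B3

theorem uu_q8 : ∀ k : F3, uu ^ k.val ∈ SL.Q8 ↔ k = 0 := by decide +kernel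

theorem uu_one : ∀ k : F3, uu ^ k.val = 1 ↔ k = 0 := by decide +kernel

theorem uu_add : ∀ k n : F3, uu ^ k.val * uu ^ n.val = uu ^ (k + n).val := by decide +kernel

theorem uu_a : ∀ k s : F3, uu ^ k.val • (s • a0) = s • a0 := by decide +kernel

theorem uu_sub : ∀ (k : F3) (a : W2), k ≠ 0 → a.2 = 0 → ∃ b : W2, a + (b - uu ^ k.val • b) = 0 := by
  decide +kernel

theorem q8_tr : ∀ a : W2, a ≠ 0 → ∃ q ∈ SL.Q8, q • a = a0 := by decide +kernel

theorem rf_calc : ∀ (i : Fin 3) (t : F3),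
    rf (nf 1 1) (er i + (1 - t) • ez) + t • nf 1 1 = er i + -t • ez + ej := by decide +kernel

/-- the base element with exponents `k` -/
def bu (k : Fin 3 → F3) : Wr := bs fun i => uu ^ (k i).val

theorem bu_add (k n : Fin 3 → F3) : bu k * bu n = bu (k + n) := by
  rw [bu, bu, ← map_mul]; exact congrArg _ (funext fun i => uu_add _ _)

theorem dl0_pow (n : F3) : dl0 ^ n.val = bu fun _ => n := by rw [dl0, ← map_pow]; rfl

theorem sg_fix {i : Fin 3} (q : SL) {u : V} (e : u i = 0) : sg i q • u = u := funext fun m => by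
  rw [base_smul rfl, sg_m]
  by_cases c : m = i
  · subst c; simp [e]
  · simp [c]

theorem κ_comm (h : Bs z ψ ρ l X κ) {b : G} (hb : b ∈ h.H0) {k : Fin 3 → F3} (e : ρ b = bu k) {i : Fin 3}
    (ki : k i = 0) (q : SL.Q8) : Commute b (κ (sgQ i q)) :=
  comm_of_conj (h.conj_κ hb (by rw [sgQ_coe, conj_sg, e]; simp [bu, ki]))

theorem ψ_comm (h : Bs z ψ ρ l X κ) {b : G} (hb : b ∈ h.H0) {k : Fin 3 → F3} (e : ρ b = bu k) {i : Fin 3}
    (ki : k i = 0) (a : W2) (c : F3) : Commute b (ψ ⟨Pi.single i a, c⟩) :=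
  (h.commute_iff hb.1).2 ⟨by rw [smul_single, e]; simp [bu, ki], by simp [hb.2]⟩

theorem bad (h : Bs z ψ ρ l X κ) {b : G} (hb : b ∈ h.H0) {k : Fin 3 → F3} (e : ρ b = bu k) {i m : Fin 3}
    (ki : k i = 0) (km : k m ≠ 0) {u : Hs} (ui : u.v i = 0) : ¬ IsConj z (ψ u * b) := fun c => by
  have h1 := h.key c (i := i) (fun a => Commute.mul_left (Commute.map (Hs.commute_iff.2 (by
    simp [om_single_right, ui])) ψ) (ψ_comm h hb e ki a 0)) (by
      rintro _ ⟨q, rfl⟩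
      refine Commute.mul_left (comm_of_conj ?_).symm (κ_comm h hb e ki q)
      exact (h.κ_act _ _).trans (by rw [sgQ_coe, sg_fix _ ui]))
  obtain ⟨a, ha⟩ := h.of_zp h1
  have h2 := congrArg ρ ha
  rw [h.ρ_mul (h.cψ _) hb.1, h.ρ_ψ, h.ρ_ψ, one_mul, e] at h2
  exact km ((uu_one _).1 (congrFun (congrArg Wr.m h2) m))

theorem conj_of {x x' : G} (c : IsConj z x) (g : G) (e : g * x * g⁻¹ = x') : IsConj z x' :=
  c.trans (isConj_iff.2 ⟨g, e⟩)

theorem move (h : Bs z ψ ρ l X κ) {b : G} (hb : b ∈ h.H0) {u : Hs} (c : IsConj z (ψ u * b)) (p : V) :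
    ∃ a, IsConj z (ψ ⟨u.v + (p - ρ b • p), a⟩ * b) := by
  have e : ψ ⟨p, 0⟩ * (ψ u * b) * (ψ ⟨p, 0⟩)⁻¹ = ψ (⟨p, 0⟩ * u * (⟨p, 0⟩ : Hs)⁻¹ *
      ⟨p - ρ b • p, -l b p - om p (ρ b • p)⟩) * b := by
    rw [← conj_mul, h.conj_eq hb.1, map_mul, map_mul, map_mul, map_inv, mul_assoc _ _ b]
  refine ⟨_, conj_of c _ (e.trans (congrArg (ψ · * b) (Hs.ext ?_ rfl)))⟩
  simp

variable (h : Fq z ψ ρ l X κ j z' ψ' ρ' l' κ' v y)
include h

theorem io_c {b : G} (hb : b ∈ h.H0) {k : Fin 3 → F3} (e : ρ b = bu k) (x : F5) :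
    Commute b (io ψ j x) := by
  have a : ∀ (s : Fin 3 → F3) (c : F3), Commute b (ψ ⟨fun i => s i • a0, c⟩) := fun s c =>
    (h.commute_iff hb.1).2 ⟨funext fun i => by rw [e, base_smul rfl]; exact uu_a _ _, by simp [hb.2]⟩
  refine (a _ _).mul_right ((h.JJ b hb.1 fun i => ?_).pow_right _)
  rw [← Bj.io_er (j := j), io, show bc (er i) = 0 by revert i; decide, ZMod.val_zero, pow_zero, mul_one]
  exact a _ _

theorem b_cube {b : G} (hb : b ∈ h.H0) {k : Fin 3 → F3} (e : ρ b = bu k) : b ^ 3 = 1 := by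
  have h1 := h.toBs.cube_mem (v := fun _ => a0) (fun _ => a0_ne) hb.1 fun i => by
    have := io_c h hb e (er i)
    rwa [Bj.io_er] at this
  have h2 := h.h'.cube_mem h.hv (h.e1 ▸ io_c h hb e _) fun i => h.hy i ▸ io_c h hb e _
  have h3 : z' ∉ zpowers z := fun c => by
    rw [h.e1, io, show bc (0, 1, 1, 1, 0) = 0 from rfl, ZMod.val_zero, pow_zero, mul_one,
      h.mem_zp] at c
    exact absurd (congrFun c 0) (by decide)
  rcases (mem_zpowers_three h.h'.z3).1 h2 with c | c | c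
  · exact c
  · exact absurd (c ▸ h1) h3
  · exact absurd (inv_mem_iff.1 (c ▸ h1)) h3

theorem nonconst {b : G} (hb : b ∈ h.H0) {k : Fin 3 → F3} (e : ρ b = bu k) {i m : Fin 3}
    (ki : k i = 0) (km : k m = 2) (kn : ∀ m, m ≠ i → k m ≠ 0) {u : Hs} (u0 : u.v 0 = 0) :
    ¬ IsConj z (ψ u * b) := fun c => by
  have mi : m ≠ i := fun c => absurd (ki.symm.trans (c ▸ km)) (by decide)
  have bd := fun u => bad h.toBs hb e ki (kn m mi) (u := u)
  have i0 : i ≠ 0 := fun e => bd u (e ▸ u0) c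
  obtain ⟨n, n0, ni, hn⟩ := (by decide : ∀ i : Fin 3, i ≠ 0 → ∃ n, n ≠ 0 ∧ n ≠ i ∧
    ∀ m, m = 0 ∨ m = i ∨ m = n) i i0
  have x3 : (ψ u * b) ^ 3 = 1 := by
    obtain ⟨g, hg⟩ := isConj_iff.1 c
    rw [← hg, conj_pow, h.z3]; simp
  rw [h.toBs.cube hb e, b_cube h hb e, one_mul, ← map_one ψ, h.inj.eq_iff] at x3
  have h1 : (u.v n).2 = 0 := by
    have := neg_eq_zero.1 (congrArg Hs.c x3)
    rw [Finset.sum_eq_single n (fun a _ ha => by
      rcases hn a with rfl | rfl | rfl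
      exacts [by simp [u0], by simp [ki], absurd rfl ha]) (by simp)] at this
    simpa [kn n ni] using this
  obtain ⟨p, hp⟩ := uu_sub _ _ (kn n ni) h1
  obtain ⟨a, c1⟩ := move h.toBs hb c (Pi.single n p)
  rw [show u.v + (Pi.single n p - ρ b • (Pi.single n p : V)) = Pi.single i (u.v i) from funext fun a => by
    rw [smul_single, e]
    rcases hn a with rfl | rfl | rfl
    · simp [u0, n0.symm, i0.symm, bu]
    · simp [ni.symm, bu]
    · simpa [ni, bu] using hp] at c1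
  obtain ⟨q, hq, eq⟩ := q8_tr (u.v i) fun e => bd u e c
  have c2 : IsConj z (ψ ⟨Pi.single i a0, a⟩ * b) := conj_of c1 (κ (sgQ i ⟨q, hq⟩)) (by
    rw [← conj_mul, conj_of_comm (κ_comm h.toBs hb e ki _).symm, h.toBs.κ_act, sgQ_coe, smul_single]
    simp [sg_m, eq])
  obtain ⟨N, aN, hN⟩ := exists_n h
  obtain ⟨t, ht⟩ := hN b (io_c h hb e)
  have c3 : IsConj z (io ψ j (er i + (1 - t) • ez) * b) :=
    conj_of c2 (ψ ⟨Pi.single i (0, 1 - t - a), 0⟩) (by
      rw [← conj_mul, conj_of_comm (ψ_comm h.toBs hb e ki _ _).symm, h.io_add, h.io_smul, h.io_ez,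
        Bj.io_er, rho, ← h.cen, ← map_inv, ← map_mul, ← map_mul, ← map_mul,
        ← inv_mul_cancel_right (_ * _ * _⁻¹ : Hs) ⟨Pi.single i a0, a⟩, Hs.comm]
      congr 2
      ext1 <;> simp [om_single_left, o2, a0])
  have c4 := conj_of c3 N (x' := ψ ⟨Pi.single i a0, -t⟩ * (j * b)) (by
    rw [← conj_mul, aN, ht, ← mul_assoc, ← h.io_add, ← mul_assoc,
      rf_calc, h.io_add, h.io_add, h.io_smul, h.io_ez, h.io_ej, Bj.io_er, rho,
      ← h.cen, ← map_mul, Hs.mk_mul]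
    simp)
  refine bad h.toBs (mul_mem h.j0 hb) (k := (fun _ => 1) + k) (i := m) (m := i) ?_ ?_ ?_ ?_ c4
  · rw [h.ρ_mul h.jz hb.1, h.jρ, e, ← bu_add, ← dl0_pow, ZMod.val_one, pow_one]
  · rw [Pi.add_apply, km]; decide
  · rw [Pi.add_apply, ki]; decide
  · exact Pi.single_eq_of_ne mi _

theorem zP (x : G) (c : IsConj z x) (xz : Commute x z) (xr : Commute x (rr κ 0)) (xs : (ρ x).s = 1)
    (xm : ∀ i, (ρ x).m i • a0 = a0) : x ∈ TT ψ j := by
  obtain ⟨u, b, hb, rfl, e⟩ := h.toBs.dec xz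
  choose k hk using fun i => (fix_a0 _).1 (xm i)
  replace e : ρ b = bu k := e.trans (Wr.ext xs (funext hk))
  have br : Commute b (rr κ 0) := comm_of_conj (by rw [h.toBs.conj_rr hb, e]; rfl)
  have u0 : u.v 0 = 0 := h.toBs.ψ_rr.1 (by simpa using xr.mul_left br.inv_left)
  have hj : ∀ n : F3, ρ (b * j ^ n.val) = bu (k + fun _ => n) := fun n => by
    rw [h.ρ_mul hb.1 (h.jz.pow_left _), h.ρ_pow h.jz, h.jρ, e, dl0_pow, bu_add]
  rcases fin_k k with k0 | ⟨i, n, h1, h2⟩ | ⟨i, m, h1, h2, h3⟩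
  · obtain ⟨a, ha⟩ := h.of_zp (h.zp_of (mul_mem hb (inv_mem (pow_mem h.j0 (k 0).val))) (by
      rw [h.ρ_mul hb.1 (h.jz.pow_left _).inv_left, h.ρ_inv (h.jz.pow_left _), h.ρ_pow h.jz, h.jρ, e,
        dl0_pow, show k = fun _ => k 0 from funext k0, mul_inv_cancel]))
    rw [mul_inv_eq_iff_eq_mul] at ha
    have h1 : ∀ i, (u.v i).2 = 0 := by
      by_cases c0 : k 0 = 0
      · rw [ha, c0, ZMod.val_zero, pow_zero, mul_one, ← map_mul] at c
        have := h.toBs.supp c (i := 0) (by simpa using u0)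
        intro i
        rw [show u.v = 0 by simpa using this]; rfl
      · have x3 : (ψ u * b) ^ 3 = 1 := by
          obtain ⟨g, hg⟩ := isConj_iff.1 c
          rw [← hg, conj_pow, h.z3]; simp
        rw [h.toBs.cube hb e, b_cube h hb e, one_mul, ← map_one ψ, h.inj.eq_iff] at x3
        have := neg_eq_zero.1 (congrArg Hs.c x3)
        rw [Fin.sum_univ_three, k0 1, k0 2, u0] at this
        have e3 := (by decide : ∀ k a b : F3, k ≠ 0 → k * 0 ^ 2 + k * a ^ 2 + k * b ^ 2 = 0 →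
          a = 0 ∧ b = 0) _ _ _ c0 this
        intro i
        fin_cases i
        exacts [congrArg Prod.snd u0, e3.1, e3.2]
    refine h.mem_TT.2 ⟨(u.c + a, (u.v 0).1, (u.v 1).1, (u.v 2).1, k 0), congrArg Prod.fst u0, ?_⟩
    rw [ha, ← mul_assoc, ← map_mul, io]
    congr 2
    ext1
    · funext i
      fin_cases i <;> ext <;> simp [sc, a0, h1]
    · simp
  · refine absurd ((uu_q8 _).1 ?_) h1
    have := h.s1 _ (hb.1.mul_left (h.jz.pow_left n.val)) (by rw [hj]; rfl) i fun m hm => by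
      rw [hj]; exact (uu_q8 _).2 (h2 m hm)
    rwa [hj] at this
  · exact absurd c (nonconst h hb e h1 h2 h3 u0)

end B3

variable [Finite G]

set_option linter.unusedSectionVars false in
theorem Fq.fr (h : Fq z ψ ρ l X κ j z' ψ' ρ' l' κ' v y) : Fr z ψ ρ l X κ j :=
  ⟨h.toBj, h.s1, h.cyc, B3.zt h, B3.refl h, B3.zP h⟩

end Cfsg.Agent.E63
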