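import Cfsg.Agent.F22L.Cen1
import Cfsg.Agent.F22L.Weak
import Cfsg.Agent.Loc3.Tools5
import Cfsg.Agent.TT.XS
import Cfsg.Agent.Class.FieldTransport

/-! The frame `3^5` in a group with a `3`-centraliser `3^(1+6).Q₈³.Y`. -/

set_option autoImplicit false

namespace Cfsg.Agent.E63

open Subgroup Cfsg.Agent.F22L Cfsg.Agent.F22L.Wr Cfsg.Agent.PLocal.Amb Cfsg.Agent.Loc3

def a0 : W2 := (1, 0)
def uu : SL := ⟨⟨1, 1, 0, 1⟩, by decide⟩
/-- the diagonal element of order three -/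
def dl0 : Wr := bs fun _ => uu

/-- coordinates `(α, s₀, s₁, s₂, β)` of `z^α ρ₀^s₀ ρ₁^s₁ ρ₂^s₂ j^β` -/
abbrev F5 := F3 × F3 × F3 × F3 × F3
def sc (x : F5) : Fin 3 → F3 := ![x.2.1, x.2.2.1, x.2.2.2.1]
def bc (x : F5) : F3 := x.2.2.2.2
def bb (x y : F5) : F3 :=
  x.2.1 * y.2.1 + x.2.2.1 * y.2.2.1 + x.2.2.2.1 * y.2.2.2.1 + x.1 * y.2.2.2.2 + x.2.2.2.2 * y.1
/-- the quadratic form `s₀² + s₁² + s₂² - αβ` -/
def qq (x : F5) : F3 := bb x x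
/-- the reflection in a root (`qq y = 1`) -/
def rf (y x : F5) : F5 := x + bb x y • y
def ez : F5 := (1, 0, 0, 0, 0)
def ej : F5 := (0, 0, 0, 0, 1)
def er : Fin 3 → F5 := ![(0, 1, 0, 0, 0), (0, 0, 1, 0, 0), (0, 0, 0, 1, 0)]
/-- the action of conjugation by an element of `Q` with second coordinates `y` -/
def sieg (y : Fin 3 → F3) (x : F5) : F5 :=
  (x.1 + y 0 * x.2.1 + y 1 * x.2.2.1 + y 2 * x.2.2.2.1 + x.2.2.2.2 * (y 0 * y 0 + y 1 * y 1 + y 2 * y 2),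
    x.2.1 - x.2.2.2.2 * y 0, x.2.2.1 - x.2.2.2.2 * y 1, x.2.2.2.1 - x.2.2.2.2 * y 2, x.2.2.2.2)
/-- singular vectors orthogonal to `ρ₀` -/
def Sing (y : F5) : Prop := y ≠ 0 ∧ qq y = 0 ∧ sc y 0 = 0

instance (y : F5) : Decidable (Sing y) := inferInstanceAs (Decidable (_ ∧ _ ∧ _))

/-- one quaternion factor -/
def sgQ (i : Fin 3) : SL.Q8 →* B8 := ((sg i).comp SL.Q8.subtype).codRestrict B8 fun u => sg_mem u.2

variable {G : Type*} [Group G]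

def io (ψ : Hs →* G) (j : G) (x : F5) : G := ψ ⟨fun i => sc x i • a0, x.1⟩ * j ^ (bc x).val
def rho (ψ : Hs →* G) (i : Fin 3) : G := ψ ⟨Pi.single i a0, 0⟩
def rr (κ : B8 →* G) (i : Fin 3) : G := κ ⟨r i, r_mem i⟩
def RQ (κ : B8 →* G) (i : Fin 3) : Subgroup G := (κ.comp (sgQ i)).range
def Act (ψ : Hs →* G) (j n : G) (w : F5 → F5) : Prop := ∀ x, n * io ψ j x * n⁻¹ = io ψ j (w x)
/-- the group `T = ⟨z, ρ₁, ρ₂, j⟩` of order `81` -/
def TT (ψ : Hs →* G) (j : G) : Subgroup G := closure {g | ∃ x, sc x 0 = 0 ∧ io ψ j x = g}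
/-- the quaternion group belonging to a singular vector -/
def RY (ψ : Hs →* G) (κ : B8 →* G) (j : G) (y : F5) : Subgroup G :=
  Op' 3 (centralizer {rr κ 0} ⊓ centralizer {io ψ j y})
/-- the extraspecial group of order `2^21` -/
def Sig (ψ : Hs →* G) (κ : B8 →* G) (j : G) : Subgroup G := ⨆ (y : F5) (_ : Sing y), RY ψ κ j y

/-- the hypothesis in coordinates -/
structure Bs (z : G) (ψ : Hs →* G) (ρ : G → Wr) (l : G → V →+ F3) (X : Subgroup Wr)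
    (κ : B8 →* G) : Prop extends HS z ψ ρ l X where
  b8 : B8 ≤ X
  κz : ∀ x, Commute (κ x) z
  κl : ∀ x, l (κ x) = 0
  κρ : ∀ x, ρ (κ x) = x

/-- an element inducing the diagonal element of order three -/
structure Bj (z : G) (ψ : Hs →* G) (ρ : G → Wr) (l : G → V →+ F3) (X : Subgroup Wr)
    (κ : B8 →* G) (j : G) : Prop extends Bs z ψ ρ l X κ where
  jz : Commute j z
  jl : l j = 0
  jρ : ρ j = dl0
  j3 : j ^ 3 = 1

/-- the frame -/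
structure Fr (z : G) (ψ : Hs →* G) (ρ : G → Wr) (l : G → V →+ F3) (X : Subgroup Wr)
    (κ : B8 →* G) (j : G) : Prop extends Bj z ψ ρ l X κ j where
  s1 : ∀ a, Commute a z → (ρ a).s = 1 → ∀ i, (∀ k, k ≠ i → (ρ a).m k ∈ SL.Q8) → (ρ a).m i ∈ SL.Q8
  cyc : ∃ p, Commute p z ∧ l p = 0 ∧ (∀ i, (ρ p).s i = i + 1) ∧ ∀ i, (ρ p).m i • a0 = a0
  zt : ∀ x, x ≠ 0 → (IsConj z (io ψ j x) ↔ qq x = 0)
  rfl : ∀ y, qq y = 1 → ∃ n, Act ψ j n (rf y)
  zP : ∀ x, IsConj z x → Commute x z → Commute x (rr κ 0) → (ρ x).s = 1 →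
    (∀ i, (ρ x).m i • a0 = a0) → x ∈ TT ψ j

/-- two frames -/
structure Fq (z : G) (ψ : Hs →* G) (ρ : G → Wr) (l : G → V →+ F3) (X : Subgroup Wr)
    (κ : B8 →* G) (j : G) (z' : G) (ψ' : Hs →* G) (ρ' : G → Wr) (l' : G → V →+ F3)
    (κ' : B8 →* G) (v : V) (y : Fin 3 → F5) : Prop extends Bj z ψ ρ l X κ j where
  h' : Bs z' ψ' ρ' l' X κ'
  cj : IsConj z z'
  cjj : IsConj z j
  full : ∀ x : Hs, (∀ i, x.v i ≠ 0) → IsConj z (ψ x)
  full' : ∀ x : Hs, (∀ i, x.v i ≠ 0) → IsConj z (ψ' x)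
  e1 : z' = io ψ j (0, 1, 1, 1, 0)
  e2 : z = ψ' ⟨v, 0⟩
  hv : ∀ i, v i ≠ 0
  hy : ∀ i, ψ' ⟨Pi.single i (v i), 0⟩ = io ψ j (y i)
  by0 : ∀ i, bc (y i) ≠ 0
  JJ : ∀ e, Commute e z → (∀ i, Commute e (rho ψ i)) → Commute e j
  s1 : ∀ a, Commute a z → (ρ a).s = 1 → ∀ i, (∀ k, k ≠ i → (ρ a).m k ∈ SL.Q8) → (ρ a).m i ∈ SL.Q8
  cyc : ∃ p, Commute p z ∧ l p = 0 ∧ (∀ i, (ρ p).s i = i + 1) ∧ ∀ i, (ρ p).m i • a0 = a0

/-- the component `U₆(2)` of the centraliser of `ρ₀` -/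
structure Xs (z : G) (ψ : Hs →* G) (κ : B8 →* G) (j : G) (U : Subgroup G) : Prop where
  iso : Nonempty (U ≃* PSU 6 Class.GF4 2)
  cr : ∀ x ∈ U, Commute x (rr κ 0)
  cρ : ∀ x ∈ U, Commute x (rho ψ 0)
  nrm : 𝐍[zpowers (rho ψ 0)] ≤ 𝐍[U]
  mQ : ∀ x : Hs, x.v 0 = 0 → ψ x ∈ U
  mj : j ∈ U
  mR : ∀ i, i ≠ 0 → RQ κ i ≤ U
  gen : ∀ M : Subgroup G, U ⊓ 𝐍[TT ψ j] ≤ M →
    (∀ y, Sing y → U ⊓ centralizer {io ψ j y} ≤ M) → U ≤ M
  cen : ∀ x ∈ U, x ^ 3 = 1 → x ≠ 1 → 729 ∣ Nat.card ↥(U ⊓ centralizer {x}) →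
    ∃ g ∈ U, g * x * g⁻¹ = z ∨ g * x * g⁻¹ = z⁻¹
  e81 : ∀ E ≤ U, Nat.card E = 81 → (∀ x ∈ E, x ^ 3 = 1) → (∀ x ∈ E, ∀ y ∈ E, Commute x y) →
    ∃ g ∈ U, cj(g, E) = TT ψ j

/-- the normaliser of the extraspecial group `S` in the centraliser of `r` -/
structure Sg (r : G) (S U : Subgroup G) : Prop where
  xs : TT.XS S r
  card : Nat.card S = 2 ^ 21
  cent : 𝐂[S] ≤ S
  UN : U ≤ 𝐍[S]
  iso : Nonempty (U ≃* PSU 6 Class.GF4 2)
  nrm : 𝐍[S] ≤ 𝐍[S ⊔ U]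
  dec : ∀ n ∈ 𝐍[S], ∃ s ∈ S, ∃ y ∈ 𝐍[S] ⊓ 𝐍[U], n = s * y
  out : (∀ n ∈ 𝐍[S], ∃ k, n ^ 3 ^ k ∈ S ⊔ U) ∨ ∃ w ∈ 𝐍[S] ⊓ 𝐍[U], w * w = 1 ∧ w ∉ S ⊔ U
  uf : ∀ x ∈ U, x ^ 3 = 1 → x ≠ 1 → 729 ∣ Nat.card ↥(U ⊓ centralizer {x}) →
    ∀ g, Commute g r → g * x * g⁻¹ ∈ 𝐍[S] → g ∈ 𝐍[S]
  h3 : ∀ t ∈ 𝐍[S], t ^ 3 = 1 → 2 ^ 17 ≤ Nat.card ↥(S ⊓ centralizer {t}) → t = 1
  mx : ∀ M ≤ centralizer {r}, centralizer {r} ≤ 𝐍[M] → (Nat.card M).Coprime 3 → M ≤ 𝐍[S]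
  nw : ∃ g, g * r * g⁻¹ ∈ U ∧ ∃ M ≤ S, r ∈ M ∧ 2 ^ 7 ≤ Nat.card M ∧
    (∀ m ∈ M, Commute m (g * r * g⁻¹)) ∧ ∀ m ∈ M, (∀ m' ∈ M, Commute m m') → m = 1 ∨ m = r

theorem uu_smul (v : W2) : uu • v = (v.1 + v.2, v.2) := by revert v; decide +kernel

theorem uu_a0 : uu • a0 = a0 := by decide +kernel

theorem a0_ne : a0 ≠ 0 := by decide

theorem fix_a0 : ∀ m : SL, m • a0 = a0 ↔ ∃ k : F3, m = uu ^ k.val := by decide +kernel

theorem dl0_smul (v : V) (i : Fin 3) : (dl0 • v) i = uu • v i := base_smul rfl v i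

theorem dl0_fix (s : Fin 3 → F3) : dl0 • (fun i => s i • a0 : V) = fun i => s i • a0 := funext fun i => by
  rw [dl0_smul]; generalize s i = c; revert c; decide +kernel

theorem om_a0 (s t : Fin 3 → F3) : om (fun i => s i • a0) (fun i => t i • a0) = 0 := by
  simp [om, o2_smul_left, o2_smul_right]

theorem sc_add (x y : F5) (i : Fin 3) : sc (x + y) i = sc x i + sc y i := by fin_cases i <;> rfl

theorem sgQ_coe (i : Fin 3) (u : SL.Q8) : (sgQ i u : Wr) = sg i u := rfl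

theorem mem_RQ {κ : B8 →* G} {i : Fin 3} {g : G} : g ∈ RQ κ i ↔ ∃ u, κ (sgQ i u) = g := Iff.rfl

theorem rr_mem (κ : B8 →* G) (i : Fin 3) : rr κ i ∈ RQ κ i := ⟨⟨SL.ng, SL.ng_mem⟩, rfl⟩

theorem rr_sq (κ : B8 →* G) (i : Fin 3) : rr κ i * rr κ i = 1 := by
  rw [rr, ← map_mul, ← map_one κ]; exact congrArg κ (Subtype.ext (r_sq i))

theorem rr_comm (κ : B8 →* G) (x : B8) (i : Fin 3) : Commute (κ x) (rr κ i) :=
  Commute.map (Subtype.ext (r_comm (by rw [x.2.1]; rfl)).eq) κ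

theorem pw_add {x : G} (h : x ^ 3 = 1) (s t : F3) : x ^ (s + t).val = x ^ s.val * x ^ t.val := by
  rw [← pow_add, ZMod.val_add, ← pow_eq_pow_mod _ h]

variable {z : G} {ψ : Hs →* G} {ρ : G → Wr} {l : G → V →+ F3} {X : Subgroup Wr} {κ : B8 →* G} {j : G}

theorem exists_bs [Finite G] (h : HS z ψ ρ l X) (b : B8 ≤ X) : ∃ κ, Bs z ψ ρ l X κ :=
  let ⟨κ, hκ⟩ := h.exists_κ
  ⟨κ.comp (inclusion (le_inf b le_rfl)), h, b, fun _ => (hκ _).1.1, fun _ => (hκ _).1.2, fun _ => (hκ _).2⟩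

namespace Bs

variable (h : Bs z ψ ρ l X κ)
include h

theorem κ0 (x : B8) : κ x ∈ h.H0 := ⟨h.κz x, h.κl x⟩

theorem cj (g : G) : Bs (g * z * g⁻¹) ((MulAut.conj g).toMonoidHom.comp ψ) (fun a => ρ (g⁻¹ * a * g))
    (fun a => l (g⁻¹ * a * g)) X ((MulAut.conj g).toMonoidHom.comp κ) :=
  ⟨h.toHS.cj g, h.b8, fun x => Commute.cj (h.κz x) g, fun x => by simpa [mul_assoc] using h.κl x,
    fun x => by simpa [mul_assoc] using h.κρ x⟩

theorem κ_act (x : B8) (y : Hs) : κ x * ψ y * (κ x)⁻¹ = ψ ⟨x.1 • y.v, y.c⟩ := by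
  rw [h.act0 (h.κ0 x), h.κρ]

theorem κ_inj : Function.Injective κ := fun x y e =>
  Subtype.ext ((h.κρ x).symm.trans (e ▸ h.κρ y))

/-- an element of `H0` whose fourth power is trivial is determined by its action -/
theorem eq_κ {a : G} (ha : a ∈ h.H0) (a4 : a ^ 4 = 1) {x : B8} (e : ρ a = x) : a = κ x := by
  obtain ⟨k, hk⟩ := h.of_zp (h.zp_of (mul_mem (inv_mem (h.κ0 x)) ha) (by
    rw [h.ρ_mul (h.κz x).inv_left ha.1, h.ρ_inv (h.κz x), h.κρ, e, inv_mul_cancel]))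
  have c : Commute (κ x) (ψ ⟨0, k⟩) := HS.zp_comm (h.κz x) (h.mem_zp.2 rfl)
  rw [inv_mul_eq_iff_eq_mul] at hk
  rw [hk, c.mul_pow, ← map_pow, show x ^ 4 = 1 from Subtype.ext (pow_four x.2), map_one, one_mul, pow_succ,
    ← map_pow, Hs.cube, map_one, one_mul] at a4
  rw [hk, a4, mul_one]

theorem conj_κ {a : G} (ha : a ∈ h.H0) {x y : B8} (e : ρ a * x * (ρ a)⁻¹ = y) : a * κ x * a⁻¹ = κ y :=
  h.eq_κ (mul_mem (mul_mem ha (h.κ0 x)) (inv_mem ha))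
    (by rw [conj_pow, ← map_pow, show x ^ 4 = 1 from Subtype.ext (pow_four x.2)]; simp)
    (by rw [h.ρ_mul (ha.1.mul_left (h.κz x)) ha.1.inv_left, h.ρ_mul ha.1 (h.κz x), h.ρ_inv ha.1, h.κρ, e])

theorem conj_rr {a : G} (ha : a ∈ h.H0) (i : Fin 3) : a * rr κ i * a⁻¹ = rr κ ((ρ a).s i) :=
  h.conj_κ ha (conj_r _ i)

theorem ρ_rr (i : Fin 3) : ρ (rr κ i) = r i := h.κρ _

theorem rr_z (i : Fin 3) : Commute (rr κ i) z := h.κz _

theorem ψ_rr {x : Hs} {i : Fin 3} : Commute (ψ x) (rr κ i) ↔ x.v i = 0 := by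
  rw [Commute.symm_iff, h.commute_iff (h.rr_z i), h.ρ_rr, r_fix, rr, h.κl]; simp

theorem rr_ne (i : Fin 3) : rr κ i ≠ 1 := fun e => r_cube i (by rw [← h.ρ_rr, e, h.ρ_one, one_pow])

theorem s_rr {a : G} (ha : Commute a z) {i : Fin 3} (c : Commute a (rr κ i)) : (ρ a).s i = i :=
  s_fix (h.ρ_rr i ▸ h.ρ_comm ha (h.rr_z i) c)

theorem rr_rho (i : Fin 3) : rr κ i * rho ψ i * (rr κ i)⁻¹ = (rho ψ i)⁻¹ := by
  rw [rr, rho, h.κ_act, ← map_inv]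
  congr 2
  · funext k
    rw [r_smul]
    by_cases c : k = i <;> simp [c]
  · simp

/-- every element of `H` is a product of an element of `Q` and an element of `H0` -/
theorem dec {a : G} (ha : Commute a z) : ∃ x, ∃ b ∈ h.H0, a = ψ x * b ∧ ρ b = ρ a := by
  obtain ⟨b, hb, e⟩ := h.exists_lift (h.ρ_mem ha)
  obtain ⟨x, hx⟩ := h.ker _ (ha.mul_left hb.1.inv_left) (by
    rw [h.ρ_mul ha hb.1.inv_left, h.ρ_inv hb.1, e, mul_inv_cancel])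
  exact ⟨x, b, hb, by rw [hx, inv_mul_cancel_right], e⟩

end Bs

namespace Bj

variable (h : Bj z ψ ρ l X κ j)
include h

theorem j0 : j ∈ h.H0 := ⟨h.jz, h.jl⟩

theorem j_A (s : Fin 3 → F3) (c : F3) : Commute j (ψ ⟨fun i => s i • a0, c⟩) :=
  (h.commute_iff h.jz).2 ⟨h.jρ ▸ dl0_fix s, by simp [h.jl]⟩

theorem io_add (x y : F5) : io ψ j (x + y) = io ψ j x * io ψ j y := by
  rw [io, io, io, mul_assoc, ← mul_assoc (j ^ _), ((h.j_A _ _).pow_left _).eq, mul_assoc, ← pw_add h.j3,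
    ← mul_assoc, ← map_mul, Hs.mk_mul, om_a0, add_zero]
  congr 3
  funext i
  rw [sc_add, add_smul]; rfl

theorem io_zero : io ψ j 0 = 1 := by simpa using h.io_add 0 0

theorem io_neg (x : F5) : io ψ j (-x) = (io ψ j x)⁻¹ :=
  eq_inv_of_mul_eq_one_left (by rw [← h.io_add, neg_add_cancel, h.io_zero])

theorem io_comm (x y : F5) : Commute (io ψ j x) (io ψ j y) := by
  rw [Commute, SemiconjBy, ← h.io_add, add_comm, h.io_add]

theorem io_cube (x : F5) : io ψ j x ^ 3 = 1 := by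
  rw [pow_three, ← h.io_add, ← h.io_add, ← h.io_zero]
  congr 1; revert x; decide +kernel

theorem io_smul (k : F3) (x : F5) : io ψ j (k • x) = io ψ j x ^ k.val := by
  have e : ∀ k : F3, k = 0 ∨ k = 1 ∨ k = 2 := by decide
  rcases e k with rfl | rfl | rfl
  · simp [h.io_zero]
  · simp [ZMod.val_one]
  · rw [two_smul, h.io_add, show (2 : F3).val = 2 from rfl, pow_two]

theorem io_ez : io ψ j ez = z := by
  rw [← h.zz, io]
  simp only [bc, ez, ZMod.val_zero, pow_zero, mul_one]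
  congr 2; funext i; fin_cases i <;> simp [sc]

theorem io_ej : io ψ j ej = j := by
  rw [io, show (fun i => sc ej i • a0 : V) = 0 from funext fun i => by fin_cases i <;> simp [sc, ej]]
  simp [ej, bc, Hs.mk_one, ZMod.val_one]

omit h in
theorem io_er (i : Fin 3) : io ψ j (er i) = rho ψ i := by
  rw [io, show bc (er i) = 0 by revert i; decide, ZMod.val_zero, pow_zero, mul_one, rho]
  congr 2
  · revert i; decide +kernel
  · revert i; decide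

theorem io_z (x : F5) : Commute (io ψ j x) z := h.io_ez ▸ h.io_comm x ez

theorem ρ_io (x : F5) : ρ (io ψ j x) = dl0 ^ (bc x).val := by
  rw [io, h.ρ_mul (h.cψ _) (h.jz.pow_left _), h.ρ_ψ, one_mul, h.ρ_pow h.jz, h.jρ]

theorem io_eq_one {x : F5} (e : io ψ j x = 1) : x = 0 := by
  have h1 : bc x = 0 := by
    have := congrFun (congrArg Wr.m ((h.ρ_io x).symm.trans (e ▸ h.ρ_one))) 0
    rw [pow_m rfl] at this
    revert this
    change uu ^ (bc x).val = 1 → _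
    generalize bc x = c; revert c; decide +kernel
  rw [io, h1, ZMod.val_zero, pow_zero, mul_one, ← map_one ψ, h.inj.eq_iff, Hs.ext_iff] at e
  have h2 : ∀ i, sc x i = 0 := fun i => (smul_eq_zero.1 (congrFun e.1 i)).resolve_right a0_ne
  exact Prod.ext e.2 (Prod.ext (h2 0) (Prod.ext (h2 1) (Prod.ext (h2 2) h1)))

theorem io_inj : Function.Injective (io ψ j) := fun x y e =>
  sub_eq_zero.1 (h.io_eq_one (by rw [sub_eq_add_neg, h.io_add, h.io_neg, e, mul_inv_cancel]))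

theorem mem_TT {g : G} : g ∈ TT ψ j ↔ ∃ x, sc x 0 = 0 ∧ io ψ j x = g := by
  refine ⟨fun hg => ?_, fun hg => subset_closure hg⟩
  induction hg using closure_induction with
  | mem _ e => exact e
  | one => exact ⟨0, rfl, h.io_zero⟩
  | mul _ _ _ _ a b =>
    obtain ⟨x, h1, rfl⟩ := a
    obtain ⟨y, h2, rfl⟩ := b
    exact ⟨x + y, by rw [sc_add, h1, h2, add_zero], h.io_add x y⟩
  | inv _ _ a =>
    obtain ⟨x, h1, rfl⟩ := a
    exact ⟨-x, neg_eq_zero.2 h1, h.io_neg x⟩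

theorem j_rr (i : Fin 3) : Commute j (rr κ i) := comm_of_conj (by rw [h.conj_rr h.j0, h.jρ]; rfl)

theorem io_rr {x : F5} {i : Fin 3} : Commute (io ψ j x) (rr κ i) ↔ sc x i = 0 := by
  have e : Commute (ψ ⟨fun i => sc x i • a0, x.1⟩) (rr κ i) ↔ sc x i = 0 := by
    rw [h.toBs.ψ_rr]; simp [a0_ne]
  rw [← e, io]
  refine ⟨fun c => ?_, fun c => c.mul_left ((h.j_rr i).pow_left _)⟩
  simpa using c.mul_left ((h.j_rr i).pow_left (bc x).val).inv_left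

theorem act_rr (i : Fin 3) : Act ψ j (rr κ i) (rf (er i)) := fun x => by
  rw [io, ← conj_mul, conj_of_comm ((h.j_rr i).symm.pow_right _), rr, h.κ_act, io]
  congr 3
  · funext k
    rw [r_smul]
    revert x i k; decide +kernel
  · revert x i; decide +kernel
  · revert x i; decide +kernel

theorem act_ψ (u : Hs) : Act ψ j (ψ u) (sieg fun i => (u.v i).2) := fun x => by
  have e1 : ψ u * j * (ψ u)⁻¹ = io ψ j (sieg (fun i => (u.v i).2) ej) := by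
    rw [h.conj_eq h.jz, h.jρ, h.jl, io, show bc (sieg _ ej) = 1 from rfl, ZMod.val_one, pow_one]
    congr 3
    · funext i
      rw [Pi.sub_apply, dl0_smul, uu_smul]
      fin_cases i <;> ext <;> simp [sc, sieg, ej, a0]
    · simp [om, dl0_smul, uu_smul, o2, Fin.sum_univ_three, sieg, ej]; ring
  have e2 : ∀ y : F5, bc y = 0 → ψ u * io ψ j y * (ψ u)⁻¹ = io ψ j (sieg (fun i => (u.v i).2) y) := fun y hy => by
    rw [io, io, show bc (sieg _ y) = bc y from rfl, hy, ZMod.val_zero, pow_zero, mul_one, mul_one,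
      ← map_inv, ← map_mul, ← map_mul, ← inv_mul_cancel_right (u * _ * u⁻¹) ⟨_, y.1⟩, Hs.comm, Hs.mk_mul]
    replace hy : y.2.2.2.2 = 0 := hy
    congr 2
    · funext i; fin_cases i <;> simp [sc, sieg, hy]
    · simp [om, o2, Fin.sum_univ_three, sieg, hy, sc, a0]; ring
  rw [show x = (x - bc x • ej) + bc x • ej by abel, h.io_add, ← conj_mul, e2 _ (by simp [bc, ej]), h.io_smul,
    ← conj_pow, h.io_ej, e1, ← h.io_smul, ← h.io_add]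
  congr 1
  ext <;> simp [sieg, ej, bc] <;> ring

end Bj

end Cfsg.Agent.E63
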