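import Cfsg.Agent.E63.Fr

/-! First lemmas on the `3`-centraliser `3^(1+6).Q₈³.Y`. -/

set_option autoImplicit false

namespace Cfsg.Agent.E63

open Subgroup Cfsg.Agent.F22L Cfsg.Agent.F22L.Wr Cfsg.Agent.Loc3

theorem sq_s {t : Wr} (h : t * t * (t * t) = 1) : (t * t).s = 1 := by
  have : ∀ p : Equiv.Perm (Fin 3), p * p * (p * p) = 1 → p * p = 1 := by decide
  exact this _ (congrArg Wr.s h)

theorem lemI {x t : Wr} {k : ℕ} (x3 : x ^ 3 ^ k = 1) (t2 : t * t = 1) (ts : t.s = 1)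
    (e : t * x * t⁻¹ = x⁻¹) : x = 1 := by
  have p : ∀ s : Equiv.Perm (Fin 3), s = s⁻¹ → ¬ ∀ i, s i ≠ i := by decide
  have xs : x.s = 1 := (s_cube x3).resolve_right (p _ (by simpa [ts] using congrArg Wr.s e))
  have q : ∀ a b : SL, a * a = 1 → b ^ 3 = 1 → a * b * a⁻¹ = b⁻¹ → b = 1 := by decide +kernel
  refine Wr.ext xs (funext fun i => q (t.m i) _ ?_ (m_cube (base_cube x3 xs) xs i) ?_)
  · simpa [ts] using congrFun (congrArg Wr.m t2) i
  · simpa [ts, xs] using congrFun (congrArg Wr.m e) i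

theorem lemT {x₁ x₂ t₁ t₂ : Wr} {k : ℕ} (a1 : x₁ ^ 3 ^ k = 1) (a2 : x₂ ^ 3 ^ k = 1) (b1 : t₁ * t₁ = 1)
    (b2 : t₂ * t₂ = 1) (c : Commute t₁ t₂) (e1 : t₁ * x₁ * t₁⁻¹ = x₁⁻¹) (e : Commute t₂ x₁)
    (e2 : t₂ * x₂ * t₂⁻¹ = x₂⁻¹) : x₁ = 1 ∨ x₂ = 1 := by
  by_contra! n
  have p : ∀ a b : Equiv.Perm (Fin 3), a * a = 1 → b * b = 1 → a * b = b * a → a ≠ 1 → b ≠ 1 → a * b = 1 := by
    decide
  refine n.1 (lemI (t := t₁ * t₂) a1 (by rw [c.symm.mul_mul_mul_comm, b1, b2, one_mul]) (p _ _ (congrArg Wr.s b1) (congrArg Wr.s b2) (congrArg Wr.s c.eq)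
      (fun s => n.1 (lemI a1 b1 s e1)) fun s => n.2 (lemI a2 b2 s e2)) ?_)
  rw [← e1, ← conj_of_comm e]
  conv_lhs => rw [conj_of_comm e]
  group

theorem der_sg {g b : Wr} (hs : ∀ i, g.s i ≠ i) (g3 : g ^ 3 = 1) (bs : b.s = 1) (e : (b * g) ^ 3 = 1) {i : Fin 3}
    (h : ∀ k, k ≠ i → b.m k = 1) : b = 1 := by
  have n1 : g.s⁻¹ i ≠ i := fun c => hs i (by conv_lhs => rw [← c]; simp)
  have n2 : g.s⁻¹ (g.s⁻¹ i) ≠ i :=
    (by decide : ∀ s : Equiv.Perm (Fin 3), (∀ i, s i ≠ i) → ∀ i, s⁻¹ (s⁻¹ i) ≠ i) _ hs i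
  have e1 := congrFun (congrArg Wr.m g3) i
  have e2 := congrFun (congrArg Wr.m e) i
  simp only [pow_three, mul_m, mul_s, bs, one_mul, inv_one, Equiv.Perm.one_apply, h _ n1, h _ n2, one_m, mul_assoc] at e1 e2
  rw [e1, mul_one] at e2
  refine Wr.ext bs (funext fun k => ?_)
  by_cases c : k = i
  · exact c ▸ e2
  · exact h k c

theorem card_le27 {A : Type*} [Group A] [Finite A] (p : ∀ a : A, a ^ 3 = 1) (f : A →* Wr) :
    Nat.card A ≤ 27 * Nat.card f.ker := by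
  have hA : IsPGroup 3 A := fun a => ⟨1, by simpa using p a⟩
  let K := (sh.comp f).ker
  let e : Fin 3 → K →* SL := ev (f.comp K.subtype) fun a => a.2
  have h1 := three_le (hA.to_subgroup K) (e 1) card_sl3
  have h2 := three_le ((hA.to_subgroup K).to_subgroup (e 1).ker) ((e 2).comp (e 1).ker.subtype) card_sl3
  have h4 : ∀ x : ((e 2).comp (e 1).ker.subtype).ker, ∀ k, k ≠ 0 → (f x.1.1.1).m k = 1 := fun x k hk => by
    fin_cases k
    exacts [absurd rfl hk, x.1.2, x.2]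
  by_cases c : ∀ a, (f a).s = 1
  · have h0 : Nat.card A = Nat.card K := by rw [show K = ⊤ from eq_top_iff.2 fun a _ => c a, card_top]
    have h3 := three_le (((hA.to_subgroup K).to_subgroup (e 1).ker).to_subgroup ((e 2).comp (e 1).ker.subtype).ker)
      ((e 0).comp ((e 1).ker.subtype.comp (Subgroup.subtype _))) card_sl3
    have := Nat.card_le_card_of_injective
      (fun x : ((e 0).comp ((e 1).ker.subtype.comp ((e 2).comp (e 1).ker.subtype).ker.subtype)).ker =>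
        (⟨x.1.1.1.1, Wr.ext (c _) (funext fun k => by
          by_cases n : k = 0
          exacts [n ▸ x.2, h4 x.1 k n])⟩ : f.ker)) fun x y e => by ext; exact Subtype.mk.inj e
    omega
  · obtain ⟨t, ht⟩ := not_forall.1 c
    have h5 : ∀ a, f a ^ 3 = 1 := fun a => by rw [← map_pow, p, map_one]
    have hs := (s_cube (x := f t) (k := 1) (by simpa using h5 t)).resolve_left ht
    have h0 := three_le hA (sh.comp f) card_perm3
    have := Nat.card_le_card_of_injective (fun x : ((e 2).comp (e 1).ker.subtype).ker =>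
      (⟨x.1.1.1, der_sg hs (h5 t) x.1.1.2 (by rw [← map_mul, h5]) (h4 x)⟩ : f.ker))
        fun x y e => by ext; exact Subtype.mk.inj e
    change Nat.card A ≤ 3 * Nat.card K at h0
    omega

variable {G : Type*} [Group G] {z : G} {ψ : Hs →* G} {ρ : G → Wr} {l : G → V →+ F3}
  {X : Subgroup Wr} {κ : B8 →* G}

namespace Bs

variable (h : Bs z ψ ρ l X κ)
include h

theorem rr_cj (i : Fin 3) (x : Hs) : rr κ i * ψ x * (rr κ i)⁻¹ = ψ ⟨Pi.single i (x.v i), 0⟩ * ψ x := by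
  rw [rr, h.κ_act, ← map_mul]
  congr 1
  refine Hs.ext (funext fun k => ?_) ?_
  · change (r i • x.v) k = (Pi.single i (x.v i) : V) k + x.v k
    rw [r_smul]
    by_cases c : k = i
    · subst c; rw [if_pos rfl, Pi.single_eq_same]; generalize x.v k = a; revert a; decide
    · simp [c]
  · simp [om_single_left]

theorem rr_iv (i : Fin 3) (a : W2) :
    rr κ i * ψ ⟨Pi.single i a, 0⟩ * (rr κ i)⁻¹ = (ψ ⟨Pi.single i a, 0⟩)⁻¹ := by
  rw [h.rr_cj]
  simp only [Pi.single_eq_same]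
  rw [eq_inv_iff_mul_eq_one, ← pow_three', ← map_pow, Hs.cube, map_one]

omit h in
theorem rr_sq' (i : Fin 3) : ∃ u ∈ RQ κ i, u * u = rr κ i := by
  have e : (⟨qi, by decide +kernel⟩ * ⟨qi, by decide +kernel⟩ : SL.Q8) = ⟨SL.ng, SL.ng_mem⟩ :=
    Subtype.ext (show qi * qi = SL.ng by decide +kernel)
  exact ⟨_, ⟨⟨qi, by decide +kernel⟩, rfl⟩, by rw [← map_mul, e]; rfl⟩

theorem ρ_cj {a b : G} (ha : Commute a z) (hb : Commute b z) : ρ (a * b * a⁻¹) = ρ a * ρ b * (ρ a)⁻¹ := by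
  rw [h.ρ_mul (ha.mul_left hb) ha.inv_left, h.ρ_mul ha hb, h.ρ_inv ha]

/-- an element inverted by an involution which is a square lies in `Q` -/
theorem mem_of_inv {u a : G} (hu : Commute u z) (u4 : u * u * (u * u) = 1) (ha : Commute a z) (a3 : a ^ 3 = 1)
    (e : u * u * a * (u * u)⁻¹ = a⁻¹) : a ∈ ψ.range := by
  have h1 : ρ u * ρ u * (ρ u * ρ u) = 1 := by
    rw [← h.ρ_mul hu hu, ← h.ρ_mul (hu.mul_left hu) (hu.mul_left hu), u4, h.ρ_one]
  refine h.ker a ha (lemI (k := 1) (by rw [pow_one, ← h.ρ_pow ha, a3, h.ρ_one]) h1 (sq_s h1) ?_)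
  rw [← h.ρ_mul hu hu, ← h.ρ_cj (hu.mul_left hu) ha, e, h.ρ_inv ha]

theorem comm_zp {a b : G} (ha : a ∈ ψ.range) (hb : b ∈ ψ.range) : a * b * a⁻¹ * b⁻¹ ∈ zpowers z := by
  obtain ⟨a, rfl⟩ := ha
  obtain ⟨b, rfl⟩ := hb
  rw [← map_inv, ← map_inv, ← map_mul, ← map_mul, ← map_mul, Hs.comm]
  exact h.mem_zp.2 rfl

theorem key {x : G} (cj : IsConj z x) {i : Fin 3} (h1 : ∀ a, Commute x (ψ ⟨Pi.single i a, 0⟩))
    (h2 : ∀ u ∈ RQ κ i, Commute x u) : x ∈ zpowers z := by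
  obtain ⟨g, rfl⟩ := isConj_iff.1 cj
  have h' := h.cj g
  obtain ⟨u, hu, e⟩ := rr_sq' (κ := κ) i
  have m := fun a => h'.mem_of_inv (h2 u hu).symm (by rw [e, rr_sq]) (h1 a).symm
    (by rw [← map_pow, Hs.cube, map_one]) (by rw [e, h.rr_iv])
  have := h'.comm_zp (m (0, 1)) (m (1, 0))
  rw [← map_inv, ← map_inv, ← map_mul, ← map_mul, ← map_mul, Hs.comm, om_single_left] at this
  simp only [Pi.single_eq_same, show -o2 (0, 1) (1, 0) = 1 by decide, h.zz] at this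
  by_contra n
  exact h.z1 (h'.toHS.eq_one n this (mem_zpowers z))

theorem supp {x : Hs} (cj : IsConj z (ψ x)) {i : Fin 3} (e : x.v i = 0) : x.v = 0 := by
  refine h.mem_zp.1 (h.key cj (i := i) (fun a => Commute.map (Hs.commute_iff.2 ?_) ψ) ?_)
  · rw [om_single_right, e, o2_zero_left]
  · rintro _ ⟨u, rfl⟩
    refine ((h.commute_iff (h.κz _)).2 ⟨?_, by rw [h.κl]; rfl⟩).symm
    rw [h.κρ]
    funext k
    rw [base_smul rfl, sgQ_coe, sg_m]
    by_cases c : k = i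
    · rw [c, e, smul_zero]
    · rw [Pi.mulSingle_eq_of_ne c, one_smul]

omit h in
theorem ψ_cj (w x : Hs) : ψ w * ψ x * (ψ w)⁻¹ = ψ ⟨x.v, x.c - om w.v x.v⟩ := by
  rw [← map_inv, ← map_mul, ← map_mul, ← inv_mul_cancel_right (w * _ * w⁻¹) x, Hs.comm]
  congr 1
  ext1 <;> simp; ring

/-- all elements of full support are conjugate -/
theorem full_conj {x x' : Hs} (e : ∀ i, x.v i ≠ 0) (e' : ∀ i, x'.v i ≠ 0) :
    ∃ g, Commute g z ∧ g * ψ x * g⁻¹ = ψ x' := by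
  have q : ∀ a b : W2, a ≠ 0 → b ≠ 0 → ∃ u ∈ SL.Q8, u • a = b := by decide +kernel
  choose u hu hu' using fun i => q _ _ (e i) (e' i)
  obtain ⟨w, hw⟩ := exists_om (v := x'.v) fun c => e' 0 (congrFun c 0)
  refine ⟨ψ ⟨(x'.c - x.c) • w, 0⟩ * κ ⟨bs u, rfl, hu⟩, (h.cψ _).mul_left (h.κz _), ?_⟩
  rw [mul_inv_rev, mul_assoc, mul_assoc, ← mul_assoc (ψ x), ← mul_assoc (κ _), ← mul_assoc (κ _), h.κ_act, ← mul_assoc,
    ψ_cj]
  have : (bs u) • x.v = x'.v := funext fun i => (base_smul rfl _ i).trans (hu' i)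
  congr 1
  refine Hs.ext this ?_
  simp only [this, om_smul_left]
  rw [om_swap, hw]; ring

/-- the shape of an element centralising `z` and three vectors -/
theorem shape {v : V} (hv : ∀ i, v i ≠ 0) {e : G} (ez : Commute e z)
    (c : ∀ k, Commute e (ψ ⟨Pi.single k (v k), 0⟩)) : ∃ (t : Fin 3 → F3) (d : F3), ∃ b ∈ h.H0,
      e = ψ ⟨fun i => t i • v i, d⟩ * b ∧ (ρ b).s = 1 ∧ ∀ i, (ρ b).m i • v i = v i := by
  obtain ⟨w, b, hb, rfl, e'⟩ := h.dec ez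
  have h1 := fun k => (h.commute_iff ez).1 (c k)
  have h2 := fun k => s_eq_of_single (hv k) (h1 k).1
  rw [← e'] at h2
  have h3 : ∀ k, ∃ t : F3, w.v k = t • v k := fun k => o2_par _ _ (hv k) (by
    have := (h1 k).2
    rw [h.l_mul (h.cψ w) hb.1, show l b = 0 from hb.2, h.l_ψ, e', (h1 k).1, om_single_right, o2_swap] at this
    simpa using this)
  choose t ht using h3
  exact ⟨t, w.c, b, hb, by rw [← funext ht], Equiv.ext fun i => (h2 i).1, fun i => (h2 i).2⟩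

theorem tr {v : V} (hv : ∀ i, v i ≠ 0) {e : G} (ez : Commute e z)
    (c : ∀ k, Commute e (ψ ⟨Pi.single k (v k), 0⟩)) (i : Fin 3) :
    ∃ t : F3, rr κ i * e * (rr κ i)⁻¹ = ψ ⟨Pi.single i (v i), 0⟩ ^ t.val * e := by
  obtain ⟨t, d, b, hb, rfl, bs, -⟩ := h.shape hv ez c
  refine ⟨t i, ?_⟩
  rw [← conj_mul, h.rr_cj, conj_of_comm (comm_of_conj (show b * rr κ i * b⁻¹ = rr κ i by
    rw [h.conj_rr hb, bs]; rfl)).symm, ← map_pow, Hs.pow_val, mul_zero, ← Pi.single_smul, mul_assoc]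

theorem cube_mem {v : V} (hv : ∀ i, v i ≠ 0) {e : G} (ez : Commute e z)
    (c : ∀ k, Commute e (ψ ⟨Pi.single k (v k), 0⟩)) : e ^ 3 ∈ zpowers z := by
  obtain ⟨t, d, b, hb, rfl, bs, bm⟩ := h.shape hv ez c
  have c1 : Commute b (ψ ⟨fun i => t i • v i, d⟩) := (h.commute_iff hb.1).2 ⟨funext fun i => by
    rw [base_smul bs]
    exact (map_f3 (DistribSMul.toAddMonoidHom W2 ((ρ b).m i)) _ _).trans (congrArg _ (bm i)),
      by rw [show l b = 0 from hb.2]; rfl⟩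
  rw [c1.symm.mul_pow, ← map_pow, Hs.cube, map_one, one_mul]
  refine h.zp_of (pow_mem hb 3) ?_
  rw [h.ρ_pow hb.1]
  refine Wr.ext (by rw [pow_s, bs]; simp) (funext fun i => ?_)
  rw [pow_m bs]
  exact SL.cube_of_fix _ _ (hv i) (bm i)

theorem cube {a : G} (ha : a ∈ h.H0) {k : Fin 3 → F3} (e : ρ a = bs fun i => uu ^ (k i).val) (x : Hs) :
    (ψ x * a) ^ 3 = a ^ 3 * ψ ⟨0, -∑ i, k i * (x.v i).2 ^ 2⟩ := by
  have q : ∀ (k : F3) (v : W2), v + uu ^ k.val • v + uu ^ k.val • uu ^ k.val • v = 0 ∧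
      o2 v (uu ^ k.val • v) = -(k * v.2 ^ 2) ∧ o2 (v + uu ^ k.val • v) (uu ^ k.val • uu ^ k.val • v) = 0 := by
    decide +kernel
  have b : ∀ (v : V) i, (ρ a • v) i = uu ^ (k i).val • v i := fun v i => by rw [e, base_smul rfl]; rfl
  rw [(HS.zp_comm (ha.1.pow_left 3) (h.mem_zp.2 rfl)).eq,
    show (ψ x * a) ^ 3 = ψ x * (a * ψ x * a⁻¹) * (a * (a * ψ x * a⁻¹) * a⁻¹) * a ^ 3 by rw [pow_three, pow_three]; group,
    h.act0 ha, h.act0 ha, ← map_mul, ← map_mul]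
  congr 2
  refine Hs.ext (funext fun i => ?_) ?_
  · simpa [b] using (q (k i) (x.v i)).1
  · simp only [Hs.mul_c, Hs.mul_v, om, Pi.add_apply, b, (q _ _).2.1, (q _ _).2.2, Finset.sum_neg_distrib,
      Finset.sum_const_zero]
    linear_combination Hs.three x.c

end Bs

end Cfsg.Agent.E63
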