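import Cfsg.Agent.E63.Fr2
import Cfsg.Agent.E63.B1
import Cfsg.Agent.TT.R22Sub

import Cfsg.Agent.Grp.Card

/-! Sylow `3`-subgroups of the centraliser of `r₀`. -/

set_option autoImplicit false
set_option linter.unusedSectionVars false

namespace Cfsg.Agent.E63

open Subgroup Cfsg.Agent.F22L Cfsg.Agent.F22L.Wr Cfsg.Agent.PLocal.Amb Cfsg.Agent.Loc3

variable {G : Type*} [Group G] [Finite G] {z : G} {ψ : Hs →* G} {ρ : G → Wr} {l : G → V →+ F3}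
  {X : Subgroup Wr} {κ : B8 →* G} {j : G}

namespace Fr

variable (h : Fr z ψ ρ l X κ j)
include h

theorem normQ {a : G} (cz : Commute a z) (cr : Commute a (rr κ 0)) : a ∈ 𝐍[Q12 ψ] :=
  mem_normalizer_of_cj_le (cj_le_iff_forall.2 fun q ⟨x, hx, e⟩ => by
    have h1 := (cr.mul_left (h.toBs.ψ_rr.2 hx)).mul_left cr.inv_left
    rw [← e, h.act a cz]
    rw [h.act a cz] at h1
    exact ⟨_, h.toBs.ψ_rr.1 h1, Eq.refl _⟩)

theorem ρ_PP (x : Hs) (k : F3) (i : Fin 3) : (ρ (ψ x * j ^ k.val)).m i = uu ^ k.val := by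
  rw [h.ρ_mul (h.cψ _) (h.jz.pow_left _), h.ρ_ψ, one_mul, h.ρ_pow h.jz, h.jρ, pow_m (Eq.refl _)]; rfl

theorem ψ_TT {u : Hs} (h0 : u.v 0 = 0) (h2 : ∀ i, (u.v i).2 = 0) : ψ u ∈ TT ψ j := by
  refine h.mem_TT.2 ⟨(u.c, 0, (u.v 1).1, (u.v 2).1, 0), Eq.refl _, ?_⟩
  rw [io, show bc (u.c, 0, (u.v 1).1, (u.v 2).1, 0) = 0 from Eq.refl _, ZMod.val_zero, pow_zero, mul_one]
  congr 1
  refine Hs.ext (funext fun i => ?_) (Eq.refl _)
  fin_cases i <;> ext <;> simp [sc, a0, h0, h2]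

theorem j_TT : j ∈ TT ψ j := h.mem_TT.2 ⟨ej, Eq.refl _, h.io_ej⟩

theorem z_TT : z ∈ TT ψ j := h.mem_TT.2 ⟨ez, Eq.refl _, h.io_ez⟩

/-- `j` normalises `Q12`, `j³ = 1`. -/
theorem mem_PP {g : G} : g ∈ PP ψ j ↔ ∃ x : Hs, x.v 0 = 0 ∧ ∃ k : F3, g = ψ x * j ^ k.val := by
  rw [PP, mem_sup_of_le_normalizer_left (zpowers_le_of_mem (h.normQ h.jz (h.j_rr 0)))]
  constructor
  · rintro ⟨_, ⟨x, hx, rfl⟩, y, hy, rfl⟩
    refine ⟨x, hx, ?_⟩
    rcases (mem_zpowers_three h.j3).1 hy with rfl | rfl | rfl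
    · exact ⟨0, by simp⟩
    · exact ⟨1, by simp [ZMod.val_one]⟩
    · exact ⟨2, by rw [inv_eq_sq h.j3, show (2 : F3).val = 2 from Eq.refl _, pow_two]⟩
  · rintro ⟨x, hx, k, rfl⟩
    exact ⟨_, ⟨x, hx, Eq.refl _⟩, _, pow_mem (mem_zpowers j) _, Eq.refl _⟩

theorem card_PP : Nat.card (PP ψ j) = 729 := by
  have e : ∀ a b : F3, uu ^ a.val = uu ^ b.val → a = b := by decide +kernel
  rw [← Nat.card_eq_of_bijective (fun p : pre (Wi 0) × F3 =>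
    (⟨ψ p.1 * j ^ p.2.val, h.mem_PP.2 ⟨p.1, p.1.2, p.2, Eq.refl _⟩⟩ : PP ψ j)) ⟨fun p q e1 => ?_, fun g => ?_⟩,
    Nat.card_prod, card_pre, card_Wi, Nat.card_zmod]
  · have e2 : ψ p.1 * j ^ p.2.val = ψ q.1 * j ^ q.2.val := congrArg Subtype.val e1
    have e3 := e _ _ ((h.ρ_PP p.1 p.2 0).symm.trans (e2 ▸ h.ρ_PP q.1 q.2 0))
    rw [e3] at e2
    exact Prod.ext (Subtype.ext (h.inj (mul_right_cancel e2))) e3
  · obtain ⟨x, hx, k, e1⟩ := h.mem_PP.1 g.2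
    exact ⟨(⟨x, hx⟩, k), Subtype.ext e1.symm⟩

theorem card_TT : Nat.card (TT ψ j) = 81 := by
  rw [← Nat.card_eq_of_bijective (fun x : {x : F5 // sc x 0 = 0} =>
    (⟨io ψ j x, h.mem_TT.2 ⟨x, x.2, Eq.refl _⟩⟩ : TT ψ j))
    ⟨fun p q e => Subtype.ext (h.io_inj (congrArg Subtype.val e)), fun g => ?_⟩,
    Nat.card_eq_fintype_card, Fintype.card_subtype]
  · decide +kernel
  · obtain ⟨x, hx, e⟩ := h.mem_TT.1 g.2
    exact ⟨⟨x, hx⟩, Subtype.ext e⟩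

theorem TT_le : TT ψ j ≤ PP ψ j := by
  intro g hg
  obtain ⟨x, hx, rfl⟩ := h.mem_TT.1 hg
  exact h.mem_PP.2 ⟨⟨fun i => sc x i • a0, x.1⟩, by simp [hx], bc x, Eq.refl _⟩

theorem PP_le : PP ψ j ≤ h.toBs.P1 := by
  refine sup_le ?_ (zpowers_le_of_mem ⟨h.jz, h.j_rr 0, by rw [h.jρ]; rfl, fun i => by
    rw [h.jρ]; exact uu_a0⟩)
  rintro _ ⟨x, hx, rfl⟩
  exact ⟨h.cψ x, h.toBs.ψ_rr.2 hx, by rw [h.ρ_ψ]; rfl, fun i => by rw [h.ρ_ψ, one_m, one_smul]⟩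

/-- `(ρ a)³ = 1` (`fix_a0`), `HS.pow_nine`. -/
theorem P1_pgrp : IsPGroup 3 h.toBs.P1 := by
  refine isPGroup_iff.2 fun a ha => ⟨2, h.pow_nine ha.1 (Wr.ext ?_ (funext fun i => ?_))⟩
  · rw [pow_s, ha.2.2.1, one_pow]; rfl
  · rw [pow_m ha.2.2.1]
    exact SL.cube_of_fix _ _ a0_ne (ha.2.2.2 i)

/-- `a` commutes with `ψ⟨single i b,0⟩` for `i = 1,2`, so `m 1 = m 2 = 1`; `m 0 ∈ Q8` by `s1` and fixes `a0`, so
`ρ a = 1`, `a = ψ x`, `x.v 0 = 0` (`ψ_rr`), and `x.v 1 = x.v 2 = 0`. -/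
theorem cent12 {a : G} (ha : a ∈ h.toBs.P1) (c : ∀ q ∈ Q12 ψ, Commute a q) : a ∈ zpowers z := by
  have c' : ∀ i, i ≠ 0 → ∀ b : W2, Commute a (ψ ⟨Pi.single i b, 0⟩) := fun i hi b =>
    c _ ⟨_, Pi.single_eq_of_ne hi.symm _, Eq.refl _⟩
  have h1 : ∀ i, i ≠ 0 → (ρ a).m i = 1 := fun i hi => SL.ext_smul _ _ fun b => by
    simpa [base_smul ha.2.2.1] using congrFun ((h.commute_iff ha.1).1 (c' i hi b)).1 i
  have h2 := SL.q8_fix _ _ (h.s1 a ha.1 ha.2.2.1 0 fun k hk => h1 k hk ▸ one_mem _) a0_ne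
    (ha.2.2.2 0)
  obtain ⟨x, rfl⟩ := h.ker a ha.1 (Wr.ext ha.2.2.1 (funext fun i => by
    by_cases e : i = 0
    · rw [e, h2]; rfl
    · exact h1 i e))
  refine h.mem_zp.2 (funext fun i => ?_)
  by_cases e : i = 0
  · rw [e]; exact h.toBs.ψ_rr.1 ha.2.1
  by_contra h3
  obtain ⟨b, hb⟩ := o2_ex _ h3
  have h4 := Hs.commute_iff.1 (h.inj (by rw [map_mul, map_mul]; exact (c' i e b).eq) :
    Commute x ⟨Pi.single i b, 0⟩)
  rw [om_single_right, hb] at h4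
  exact absurd h4 (by decide)

/-- Sylow in `C(r₀) ⊓ C(z)`: an element `a` of a 3-subgroup `R ⊇ P1` has `s 0 = 0` (`s_rr`), so `s = 1`
(`s_cube`); `j ∈ R`, so `(ρ a).m i` and `uu` lie in a 3-subgroup of `SL` (image of `R` under `ev`, order `≤ 3`).
Then `isSyl_of_isSyl_normalizer` as in `F22L.Ct.not_dvd`: `N(P1)` normalises `Z(P1) = ⟨z⟩` (`cent12`), and
a 3-element normalising `⟨z⟩` centralises `z`. -/
theorem syl : IsSyl 3 h.toBs.P1 (centralizer {rr κ 0}) := by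
  have := Fact.mk Nat.prime_three
  have hj : j ∈ h.toBs.P1 := h.PP_le (h.TT_le h.j_TT)
  have hz : z ∈ h.toBs.P1 := h.PP_le (h.TT_le h.z_TT)
  have hT : ∀ R : Subgroup G, IsPGroup 3 R → h.toBs.P1 ≤ R → (∀ a ∈ R, Commute a (rr κ 0)) →
      (∀ a ∈ R, Commute a z) → R ≤ h.toBs.P1 := fun R hR h1 cr cz a ha => by
    have k : ∀ b ∈ R, (ρ b).s = 1 ∧ ∀ i, (ρ b).m i ^ 3 = 1 := fun b hb => by
      obtain ⟨k, hk⟩ := isPGroup_iff.1 hR b hb
      have e : ρ b ^ 3 ^ k = 1 := by rw [← h.ρ_pow (cz b hb), hk, h.ρ_one]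
      have as := (s_cube e).resolve_right fun c => c 0 (h.toBs.s_rr (cz b hb) (cr b hb))
      exact ⟨as, m_cube (base_cube e as) as⟩
    have e : ∀ m : SL, m ^ 3 = 1 → (m * uu) ^ 3 = 1 → (m * uu * uu) ^ 3 = 1 → m • a0 = a0 := by
      decide +kernel
    have h2 := mul_mem ha (h1 hj)
    refine ⟨cz a ha, cr a ha, (k a ha).1, fun i => e _ ((k a ha).2 i) ?_ ?_⟩
    · have := (k _ h2).2 i
      rwa [h.ρ_mul (cz a ha) h.jz, h.jρ] at this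
    · have := (k _ (mul_mem h2 (h1 hj))).2 i
      rwa [h.ρ_mul (cz _ h2) h.jz, h.ρ_mul (cz a ha) h.jz, h.jρ] at this
  refine isSyl_of_isSyl_normalizer ⟨le_inf (fun a ha => mem_cent.2 ha.2.1) le_normalizer, h.P1_pgrp,
    fun R hR h6 h7 => hT R hR h6 (fun a ha => mem_cent.1 (h7 ha).1) fun a ha => ?_⟩
  have hw := h.cent12 (conj_mem_of_mem_normalizer (h7 ha).2 hz) fun q hq => by
    simpa [mul_assoc] using Commute.cj (inv_conj_mem_of_mem_normalizer (h7 ha).2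
      (h.PP_le (le_sup_left (a := Q12 ψ) hq))).1.symm a
  have h9 : a ^ 2 ∈ centralizer {z} := by
    refine mem_cent.2 (comm_of_conj ?_)
    rw [show a ^ 2 * z * (a ^ 2)⁻¹ = a * (a * z * a⁻¹) * a⁻¹ by rw [pow_two]; group]
    rcases (mem_zpowers_three h.z3).1 hw with e | e | e
    · exact absurd (by simpa [mul_inv_eq_one] using e) h.z1
    · rw [e, e]
    · rw [e, ← conj_inv, e, inv_inv]
  obtain ⟨k, hk⟩ := isPGroup_iff.1 hR a ha
  exact mem_cent.1 (zpowers_le_of_mem h9 (mem_zpowers_pow_iff.2 (Nat.Coprime.coprime_dvd_right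
    (orderOf_dvd_of_pow_eq_one hk) (Nat.Coprime.pow_right k (by norm_num)))))

/-- `E ⊓ Q12` has index `≤ 3` in `E`. `E ≰ Q12` (an abelian subgroup of `pre (Wi 0)` has order `≤ 27`: add
`⟨single 0 a0, 0⟩` and use `Hs.card_comm`). Take `e = ψ x * j^k ∈ E`, `k ≠ 0`; `E ⊓ Q12 ≤ C(e)` consists of `ψ u`
with `dl0 • u.v = u.v`, so lies in `A₁₂ = {io (α,0,s₁,s₂,0)}` of order 27, so equals it; `ψ x` centralises `A₁₂`, so
lies in it; so `E ≤ TT`. -/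
theorem e81_PP {E : Subgroup G} (hE : E ≤ PP ψ j) (c : Nat.card E = 81)
    (cm : ∀ x ∈ E, ∀ y ∈ E, Commute x y) : E = TT ψ j := by
  have hQ : Q12 ψ ≤ PP ψ j := le_sup_left
  have cQ : Nat.card (Q12 ψ) = 243 := by rw [Q12, h.card_map, card_pre, card_Wi]
  have i3 : (Q12 ψ).relIndex (PP ψ j) = 3 := by
    have := Grp.card_mul_relIndex hQ
    rw [cQ, h.card_PP] at this
    omega
  have h1 := Grp.card_inf_mul_relIndex' (Q12 ψ) E
  have h2 := relIndex_le_of_le_right hE (i3 ▸ three_ne_zero)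
  have h3 : 27 ≤ Nat.card ↥(Q12 ψ ⊓ E) := by rw [c] at h1; rw [i3] at h2; nlinarith
  obtain ⟨e, he, eQ⟩ : ∃ e ∈ E, e ∉ Q12 ψ := by
    by_contra! hc
    have r0 : ∀ g ∈ E, Commute g (rho ψ 0) := fun g hg => by
      obtain ⟨x, hx, rfl⟩ := hc g hg
      exact (Hs.commute_iff.2 (by rw [om_single_right, show x.v 0 = 0 from hx, o2_zero_left])).map ψ
    have h4 : E ⊔ zpowers (rho ψ 0) ≤ 𝐂[E ⊔ zpowers (rho ψ 0)] := by
      rw [PLocal.Amb.centralizer_sup, PLocal.Amb.centralizer_zpowers]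
      refine sup_le (le_inf (fun g hg k hk => (cm k hk g hg).eq) fun g hg => mem_cent.2 (r0 g hg))
        (zpowers_le_of_mem ⟨fun k hk => (r0 k hk).eq, mem_cent.2 (Commute.refl _)⟩)
    have h5 := h.card_comm (E ⊔ zpowers (rho ψ 0))
      (sup_le (fun g hg => map_le_range _ _ (hc g hg)) (zpowers_le_of_mem ⟨_, Eq.refl _⟩))
      fun a ha b hb => h4 hb a ha
    obtain ⟨x, hx, e⟩ := hc _ ((eq_of_le_of_card_ge le_sup_left (h5.trans c.ge)).ge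
      (le_sup_right (a := E) (mem_zpowers _)))
    rw [h.inj e] at hx
    exact a0_ne hx
  obtain ⟨x, hx, k, rfl⟩ := h.mem_PP.1 (hE he)
  have k0 : k ≠ 0 := fun e => eQ ⟨x, hx, by simp [e]⟩
  have h4 : Q12 ψ ⊓ E ≤ Q12 ψ ⊓ TT ψ j := fun g hg => ⟨hg.1, by
    obtain ⟨u, hu, rfl⟩ := hg.1
    have h5 := h.PP_le (hE he)
    have h6 := ((h.commute_iff h5.1).1 (cm _ he _ hg.2)).1
    have e : ∀ (k : F3) (w : W2), k ≠ 0 → uu ^ k.val • w = w → w.2 = 0 := by decide +kernel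
    exact h.ψ_TT hu fun i => e k _ k0 (by rw [← h.ρ_PP x k i, ← base_smul h5.2.2.1, h6])⟩
  have h5 : Nat.card ↥(Q12 ψ ⊓ TT ψ j) ≤ 27 := by
    have h6 := Grp.card_inf_mul_relIndex' (Q12 ψ) (TT ψ j)
    have h7 : (Q12 ψ).relIndex (TT ψ j) ≠ 1 := fun e => by
      obtain ⟨u, -, hu⟩ := relIndex_eq_one.1 e h.j_TT
      have := h.ρ_PP 1 1 0
      rw [map_one, one_mul, ZMod.val_one, pow_one, pow_one, ← hu, h.ρ_ψ] at this
      exact absurd this (by decide +kernel)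
    rw [h.card_TT] at h6
    generalize (Q12 ψ).relIndex (TT ψ j) = n at h6 h7
    have : n ≠ 0 := by rintro rfl; omega
    have : n ≠ 2 := by rintro rfl; omega
    have : 3 ≤ n := by omega
    nlinarith
  have h6 := eq_of_le_of_card_ge h4 (h5.trans h3)
  refine eq_of_le_of_card_ge (fun g hg => ?_) (h.card_TT.trans c.symm).le
  obtain ⟨y, hy, t, rfl⟩ := h.mem_PP.1 (hE hg)
  refine mul_mem (h.ψ_TT hy fun i => ?_) (pow_mem h.j_TT _)
  by_cases e : i = 0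
  · rw [e, hy]; rfl
  have h7 : (Pi.single i a0 : V) 0 = 0 := Pi.single_eq_of_ne (Ne.symm e) _
  have h8 : rho ψ i ∈ E := (h6.ge ⟨⟨_, h7, Eq.refl _⟩, h.ψ_TT h7 fun k => by
    by_cases e' : k = i
    · rw [e']; simp [a0]
    · simp [e']⟩).2
  have h9 : Commute j (rho ψ i) := by
    simpa only [h.io_ej, Bj.io_er] using h.io_comm ej (er i)
  have h10 : Commute (ψ y) (rho ψ i) := by
    simpa using (cm _ hg _ h8).mul_left (h9.pow_left t.val).inv_left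
  have h11 := Hs.commute_iff.1 (h.inj (by rw [map_mul, map_mul]; exact h10.eq) :
    Commute y ⟨Pi.single i a0, 0⟩)
  simpa [om_single_right, o2, a0] using h11

/-- `a = ψ x * a₀`, `a₀ ∈ H0` (`Bs.dec`); `s 0 = 0`, so `a₀` commutes with `r₀` (`conj_rr`), `x.v 0 = 0`; `Q8` is
transitive on nonzero vectors: choose `b ∈ B8` with `(b.m i)⁻¹ • (ρ a₀).m i • a0 = a0`, `n = (κ b)⁻¹ * a₀`. -/
theorem decK {a : G} (cz : Commute a z) (cr : Commute a (rr κ 0)) :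
    ∃ q ∈ Q12 ψ, ∃ b : B8, ∃ n ∈ h.H0, Commute n (rr κ 0) ∧ (∀ i, (ρ n).m i • a0 = a0) ∧
      a = q * κ b * n := by
  obtain ⟨x, a₀, h0, e, e'⟩ := h.toBs.dec cz
  have c0 : Commute a₀ (rr κ 0) :=
    comm_of_conj (by rw [h.toBs.conj_rr h0, e', h.toBs.s_rr cz cr])
  have c1 : Commute (ψ x) (rr κ 0) := by simpa [e] using cr.mul_left c0.inv_left
  have t : ∀ m : SL, ∃ u : SL, u ∈ SL.Q8 ∧ (u⁻¹ * m) • a0 = a0 := by decide +kernel
  choose u hu hu' using fun i => t ((ρ a₀).m i)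
  let b : B8 := ⟨bs u, Eq.refl _, hu⟩
  refine ⟨ψ x, ⟨x, h.toBs.ψ_rr.1 c1, Eq.refl _⟩, b, (κ b)⁻¹ * a₀,
    mul_mem (inv_mem (h.toBs.κ0 b)) h0, (rr_comm κ b 0).inv_left.mul_left c0, fun i => ?_, ?_⟩
  · rw [h.ρ_mul (h.κz b).inv_left h0.1, h.ρ_inv (h.κz b), h.κρ]
    exact hu' i
  · rw [e]; group

/-- `n` permutes `ρ₁, ρ₂` and fixes `ρ₀` (`act0`, `smul_single`, `s 0 = 0`); `ρ n` commutes with `dl0`, so
`n j n⁻¹ j⁻¹ ∈ ⟨z⟩` (`zp_of`). -/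
theorem H0_norm {n : G} (hn : n ∈ h.H0) (cr : Commute n (rr κ 0)) (e : ∀ i, (ρ n).m i • a0 = a0) :
    n ∈ 𝐍[TT ψ j] ∧ Commute n (rho ψ 0) := by
  have s0 := h.toBs.s_rr hn.1 cr
  have e1 : ∀ m : SL, m • a0 = a0 → m * uu * m⁻¹ = uu := by decide +kernel
  have e2 : ∀ m : SL, m • a0 = a0 → ∀ c : F3, m • c • a0 = c • a0 := by decide +kernel
  have h1 : ρ n * dl0 * (ρ n)⁻¹ = dl0 := Wr.ext (conj_s _ (Eq.refl _)) (funext fun i => by
    obtain ⟨i, rfl⟩ := (ρ n).s.surjective i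
    rw [conj_m _ (Eq.refl _)]
    exact e1 _ (e _))
  have h2 : n * j * n⁻¹ * j⁻¹ ∈ zpowers z :=
    h.zp_of (mul_mem (mul_mem (mul_mem hn h.j0) (inv_mem hn)) (inv_mem h.j0)) (by
      rw [h.ρ_mul ((hn.1.mul_left h.jz).mul_left hn.1.inv_left) h.jz.inv_left,
        h.ρ_mul (hn.1.mul_left h.jz) hn.1.inv_left, h.ρ_mul hn.1 h.jz, h.ρ_inv hn.1, h.ρ_inv h.jz,
        h.jρ, h1, mul_inv_cancel])
  have h3 : n * j * n⁻¹ ∈ TT ψ j := by
    simpa using mul_mem (zpowers_le_of_mem h.z_TT h2) h.j_TT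
  refine ⟨mem_normalizer_of_cj_le (cj_le_iff_forall.2 fun g hg => ?_), comm_of_conj ?_⟩
  · obtain ⟨x, hx, rfl⟩ := h.mem_TT.1 hg
    rw [io, ← conj_mul, ← conj_pow, h.act0 hn]
    refine mul_mem (h.ψ_TT ?_ fun i => ?_) (pow_mem h3 _)
    · simp only [smul_apply]
      rw [show (ρ n).s⁻¹ 0 = 0 from Equiv.Perm.inv_eq_iff_eq.2 s0.symm, hx, zero_smul, smul_zero]
    · simp only [smul_apply]
      rw [e2 _ (e i)]; simp [a0]
  · rw [rho, h.act0 hn, smul_single, s0, e]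

/-- `t (ψ x) t⁻¹ (ψ x)⁻¹ = ψ⟨ρ t • v - v, _⟩` and `uu^k • a - a ∈ F3 • a0`. -/
theorem comm_P1 {t q : G} (ht : t ∈ h.toBs.P1) (hq : q ∈ Q12 ψ) : t * q * t⁻¹ * q⁻¹ ∈ TT ψ j := by
  obtain ⟨x, hx, rfl⟩ := hq
  have e : ∀ m : SL, m • a0 = a0 → ∀ w : W2, (m • w + -w).2 = 0 := by decide +kernel
  rw [h.act t ht.1, ← map_inv, ← map_mul]
  refine h.ψ_TT ?_ fun i => ?_
  · simp [base_smul ht.2.2.1, show x.v 0 = 0 from hx]
  · simpa only [Hs.mul_v, Hs.inv_v, Pi.add_apply, Pi.neg_apply, base_smul ht.2.2.1] using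
      e _ (ht.2.2.2 i) (x.v i)

omit h in
theorem φ_inj {U : Subgroup G} (hP : PP ψ j ≤ U) (f : U →* PSU 6 Class.GF4 2)
    (fi : ∀ a : U, a.1 ∈ PP ψ j → f a = 1 → a = 1) :
    Function.Injective (f.comp (inclusion hP)) := (injective_iff_map_eq_one _).2 fun a e =>
  Subtype.ext (congrArg (fun x : U => x.1) (fi _ a.2 e))

theorem sylU {φ : PP ψ j →* PSU 6 Class.GF4 2} (hφ : Function.Injective φ) :
    IsSyl 3 φ.range ⊤ ∧ Nat.card φ.range = 729 := by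
  have := Fact.mk Nat.prime_three
  have : Finite (PSU 6 Class.GF4 2) := Nat.finite_of_card_ne_zero (by rw [TT.card_psu6]; norm_num)
  have c : Nat.card φ.range = 729 := by
    rw [← Nat.card_congr (MonoidHom.ofInjective hφ).toEquiv, h.card_PP]
  refine ⟨isSyl_of_not_dvd_relIndex (.of_card (n := 6) c) le_top ?_, c⟩
  have := φ.range.card_mul_index
  rw [c, TT.card_psu6] at this
  rw [relIndex_top_right]
  omega

/-- Let `f : U → PSU` be onto, injective on `PP` (order `729 = |PSU|₃`, `TT.card_psu6`). -/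
theorem e81_of {U : Subgroup G} (hP : PP ψ j ≤ U) (f : U →* PSU 6 Class.GF4 2)
    (fs : Function.Surjective f) (fi : ∀ a : U, a.1 ∈ PP ψ j → f a = 1 → a = 1)
    {E : Subgroup (PSU 6 Class.GF4 2)} (c : Nat.card E = 81) (cm : ∀ x ∈ E, ∀ y ∈ E, Commute x y) :
    ∃ g : U, cj(f g, E) = ((TT ψ j).subgroupOf U).map f := by
  have := Fact.mk Nat.prime_three
  have := Finite.of_surjective f fs
  have hφ := φ_inj hP f fi
  obtain ⟨y, -, hy⟩ := (h.sylU hφ).1.exists_cj_le (.of_card (n := 4) c) le_top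
  obtain ⟨g, rfl⟩ := fs y
  have cm' : ∀ x ∈ cj(f g, E), ∀ y ∈ cj(f g, E), Commute x y := by
    rintro _ ⟨x, hx, rfl⟩ _ ⟨y, hy, rfl⟩
    exact (cm x hx y hy).map _
  have e := h.e81_PP (map_subtype_le (cj(f g, E).comap (f.comp (inclusion hP)))) (by
    rw [card_map_of_injective (subtype_injective _), ← card_map_of_injective hφ,
      map_comap_eq_self hy, card_cj, c]) (by
    rintro _ ⟨a, ha, rfl⟩ _ ⟨b, hb, rfl⟩
    exact Commute.map (hφ (by rw [map_mul, map_mul]; exact (cm' _ ha _ hb).eq)) _)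
  refine ⟨g, le_antisymm (fun w hw => ?_) ?_⟩
  · obtain ⟨p, rfl⟩ := hy hw
    exact ⟨inclusion hP p, e.le ⟨p, hw, Eq.refl _⟩, Eq.refl _⟩
  · rintro _ ⟨u, hu, rfl⟩
    obtain ⟨p, hp, e'⟩ := e.ge hu
    rwa [show u = inclusion hP p from Subtype.ext e'.symm]

/-- a Sylow 3-subgroup of `C(x)` containing `x` is Sylow in `PSU`, conjugate to `f PP`; `Z(PP) = ⟨z⟩`
(`cent12`, `PP_le`). -/
theorem cen_of {U : Subgroup G} (hP : PP ψ j ≤ U) (f : U →* PSU 6 Class.GF4 2)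
    (fs : Function.Surjective f) (fi : ∀ a : U, a.1 ∈ PP ψ j → f a = 1 → a = 1)
    {x : PSU 6 Class.GF4 2} (x3 : x ^ 3 = 1) (x1 : x ≠ 1)
    (c : 729 ∣ Nat.card (centralizer ({x} : Set (PSU 6 Class.GF4 2)))) :
    ∃ g w : U, (w.1 = z ∨ w.1 = z⁻¹) ∧ f g * x * (f g)⁻¹ = f w := by
  have := Fact.mk Nat.prime_three
  have := Finite.of_surjective f fs
  have hφ := φ_inj hP f fi
  obtain ⟨hS, cS⟩ := h.sylU hφ
  obtain ⟨T, hT, hx⟩ := exists_isSyl_ge (isPGroup_zpowers ⟨1, by simpa using x3⟩)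
    (zpowers_le_of_mem (mem_cent.2 (Commute.refl x)))
  have h6 := Nat.pow_le_pow_right (show 0 < 3 by norm_num)
    ((Nat.prime_three.pow_dvd_iff_le_factorization (k := 6) Nat.card_pos.ne').1 c)
  rw [← hT.card_eq_pow] at h6
  obtain ⟨y, -, hy⟩ := hS.exists_cj_eq (hS.of_card_ge hT.pgrp le_top (cS.le.trans h6))
  obtain ⟨g, rfl⟩ := fs y
  obtain ⟨p, hp⟩ := hy.le (conj_mem_cj _ (hx (mem_zpowers x)))
  have h1 := h.cent12 (h.PP_le p.2) fun q hq => by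
    let q' : PP ψ j := ⟨q, le_sup_left (a := Q12 ψ) hq⟩
    obtain ⟨t, ht, e⟩ := mem_cj_iff_exists.1 (hy.ge ⟨q', Eq.refl _⟩)
    have h2 : Commute p q' := hφ (by
      rw [map_mul, map_mul, hp, ← e]
      exact (Commute.cj (mem_cent.1 (hT.le ht)).symm (f g)).eq)
    exact h2.map (PP ψ j).subtype
  refine ⟨g, inclusion hP p, ((mem_zpowers_three h.z3).1 h1).resolve_left fun e => x1 ?_, hp.symm⟩
  rw [show p = 1 from Subtype.ext e, map_one] at hp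
  simpa [mul_inv_eq_one] using hp.symm

end Fr

end Cfsg.Agent.E63
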