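import Cfsg.Agent.Class.U.Simple
import Cfsg.Agent.Class.FieldTransport
import Cfsg.Agent.TT.R22Sub

/-! Generation of `U₆(2)` by centralisers of `3`-central elements of the diagonal torus. -/

set_option autoImplicit false

namespace Cfsg.Agent.E63

open Subgroup

namespace GenU

open Cfsg.Agent.Class Cfsg.Agent.Class.U Matrix Equiv

local instance instUF : UF GF4 2 := UF.of_card card_GF4

abbrev S6 := SU 6 GF4 2
abbrev V6 := Fin 6 → GF4
abbrev A6 := Fin 6 → ZMod 3

def w (k : ZMod 3) : GF4 := (⟨0, 1⟩ : GF4) ^ k.val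

theorem w_add : ∀ a b, w (a + b) = w a * w b := by decide
theorem w_norm : ∀ a, w a * w a ^ 2 = 1 := by decide
theorem w_inj : ∀ a b, w a = w b → a = b := by decide
theorem w_zero : w 0 = 1 := rfl

theorem w_sum (a : A6) : ∏ i, w (a i) = w (∑ i, a i) := by
  simp only [Fin.prod_univ_six, Fin.sum_univ_six, w_add]

def dg (a : A6) (h : ∑ i, a i = 0) : S6 :=
  mkSU (diagonal fun i => w (a i)) (fun u v => Finset.sum_congr rfl fun i _ => by
    rw [mulVec_diagonal, mulVec_diagonal, mul_pow, mul_mul_mul_comm, w_norm, one_mul])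
    (by rw [det_diagonal, w_sum, h, w_zero])

theorem dg_smul (a : A6) (h) (v : V6) (i : Fin 6) : (dg a h • v) i = w (a i) * v i :=
  mulVec_diagonal _ _ _

def pm (s : Perm (Fin 6)) : S6 :=
  mkSU (s.permMatrix GF4) (fun u v => by
    rw [permMatrix_mulVec, permMatrix_mulVec]
    exact Equiv.sum_comp s fun i => u i * v i ^ 2) (by
    rw [det_permutation]
    rcases Int.units_eq_one_or (Perm.sign s) with h | h <;> rw [h] <;> decide)

theorem pm_smul (s : Perm (Fin 6)) (v : V6) : pm s • v = v ∘ s := permMatrix_mulVec _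

theorem pm_mul (s t : Perm (Fin 6)) : pm s * pm t = pm (t * s) :=
  SU_ext fun v => by rw [mul_smul, pm_smul, pm_smul, pm_smul]; rfl

theorem pm_one : pm 1 = 1 := SU_ext fun v => by rw [pm_smul, one_smul]; rfl

theorem sum_s {a : A6} (h : ∑ i, a i = 0) (s : Perm (Fin 6)) : ∑ i, (a ∘ s) i = 0 :=
  (Equiv.sum_comp s a).trans h

theorem pm_dg (s : Perm (Fin 6)) (a : A6) (h) : pm s * dg a h * (pm s)⁻¹ = dg (a ∘ s) (sum_s h s) := by
  rw [mul_inv_eq_iff_eq_mul]
  refine SU_ext fun v => funext fun i => ?_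
  rw [mul_smul, mul_smul, pm_smul, pm_smul, dg_smul, Function.comp, dg_smul]; rfl

theorem dg_mul (a b : A6) (h h' h'') : dg a h * dg b h' = dg (a + b) h'' :=
  SU_ext fun v => funext fun i => by rw [mul_smul, dg_smul, dg_smul, dg_smul, Pi.add_apply, w_add, mul_assoc]

theorem sum_add {a b : A6} (h : ∑ i, a i = 0) (h' : ∑ i, b i = 0) : ∑ i, (a + b) i = 0 := by
  simp [Finset.sum_add_distrib, h, h']

theorem sum_sub {a b : A6} (h : ∑ i, a i = 0) (h' : ∑ i, b i = 0) : ∑ i, (a - b) i = 0 := by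
  simp [Finset.sum_sub_distrib, h, h']

abbrev π : S6 →* PSU 6 GF4 2 := QuotientGroup.mk' _

theorem pi_one {a : A6} {h} : π (dg a h) = 1 ↔ ∀ i, a i = a 5 := by
  rw [← MonoidHom.mem_ker, QuotientGroup.ker_mk', U.mem_center_iff (by norm_num)]
  refine ⟨fun ⟨e, he⟩ i => w_inj _ _ ?_, fun H => ⟨w (a 5), fun x => funext fun i => by rw [dg_smul, H]; rfl⟩⟩
  have h1 := congrFun (he 1) i
  have h2 := congrFun (he 1) 5
  rw [dg_smul] at h1 h2
  simpa using h1.trans h2.symm

theorem pi_eq {a b : A6} {h h'} : π (dg a h) = π (dg b h') ↔ ∀ i, a i - b i = a 5 - b 5 := by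
  have e : dg a h = dg (a - b) (sum_sub h h') * dg b h' := by
    rw [dg_mul _ _ _ _ (sum_add (sum_sub h h') h')]; congr 1; simp
  rw [e, map_mul, mul_eq_right, pi_one]; rfl

def ex (a : Fin 4 → ZMod 3) : A6 := ![a 0, a 1, a 2, a 3, -(a 0 + a 1 + a 2 + a 3), 0]

theorem ex_sum (a : Fin 4 → ZMod 3) : ∑ i, ex a i = 0 := by simp [Fin.sum_univ_six, ex]

def φ : Multiplicative (Fin 4 → ZMod 3) →* PSU 6 GF4 2 :=
  MonoidHom.mk' (fun a => π (dg (ex a.toAdd) (ex_sum _))) fun a b => by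
    rw [← map_mul, dg_mul _ _ _ _ (sum_add (ex_sum _) (ex_sum _))]
    congr 2; funext i; fin_cases i <;> simp [ex]; ring

theorem φ_inj : Function.Injective φ := (injective_iff_map_eq_one _).2 fun a ha => by
  have := pi_one.1 ha
  refine Multiplicative.toAdd.injective (funext fun i => ?_)
  fin_cases i
  exacts [this 0, this 1, this 2, this 3]

theorem mem_T {x : PSU 6 GF4 2} : x ∈ φ.range ↔ ∃ a h, π (dg a h) = x := by
  refine ⟨fun ⟨a, e⟩ => ⟨_, _, e⟩, ?_⟩
  rintro ⟨a, h, rfl⟩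
  refine ⟨.ofAdd ![a 0 - a 5, a 1 - a 5, a 2 - a 5, a 3 - a 5], pi_eq.2 fun i => ?_⟩
  rw [Fin.sum_univ_six] at h
  have h3 : (3 : ZMod 3) = 0 := rfl
  fin_cases i <;> simp [ex]
  linear_combination -h + (2 * a 5) * h3

theorem card_T : Nat.card φ.range = 81 := by
  rw [← Nat.card_congr (MonoidHom.ofInjective φ_inj).toEquiv]; simp

theorem pm_norm (s : Perm (Fin 6)) : π (pm s) ∈ normalizer (φ.range : Set (PSU 6 GF4 2)) :=
  mem_normalizer_fintype fun n hn => by
    obtain ⟨a, h, rfl⟩ := mem_T.1 hn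
    exact mem_T.2 ⟨_, _, by rw [← pm_dg, map_mul, map_mul, map_inv]⟩

theorem pm_comm {s : Perm (Fin 6)} {a : A6} {h} :
    π (pm s) ∈ centralizer {π (dg a h)} ↔ ∀ i, a (s i) - a i = a (s 5) - a 5 := by
  rw [mem_centralizer_singleton_iff, ← mul_inv_eq_iff_eq_mul, ← map_inv, ← map_mul, ← map_mul, pm_dg, pi_eq]
  rfl

theorem T_le (a : A6) (h) : φ.range ≤ centralizer {π (dg a h)} := by
  obtain ⟨b, hb⟩ := mem_T.2 ⟨a, h, rfl⟩
  rintro _ ⟨c, rfl⟩
  rw [mem_centralizer_singleton_iff, ← hb, ← map_mul, mul_comm, map_mul]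

theorem step {G : Type*} [Group G] [Finite G] {H K : Subgroup G} (h : H < K) (hK : IsPGroup 3 K) :
    3 * Nat.card H ∣ Nat.card K := by
  obtain ⟨k, hk⟩ := hK.index (H.subgroupOf K)
  rw [← (H.subgroupOf K).index_mul_card, Nat.card_congr (subgroupOfEquivOfLe h.le).toEquiv, hk]
  refine mul_dvd_mul_right (dvd_pow_self 3 ?_) _
  rintro rfl
  exact h.not_ge (subgroupOf_eq_top.1 (index_eq_one.1 hk))

def ind : A6 := ![1, 1, 1, 0, 0, 0]

theorem ind_sum : ∑ i, ind i = 0 := by decide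

theorem p3 {s : Perm (Fin 6)} (h : s * (s * s) = 1) : IsPGroup 3 (zpowers (π (pm s))) := by
  rintro ⟨_, k, rfl⟩
  refine ⟨1, Subtype.ext ?_⟩
  change (π (pm s) ^ k) ^ 3 ^ 1 = 1
  rw [pow_one, ← zpow_natCast, zpow_comm, zpow_natCast, ← map_pow, pow_three', pm_mul,
    pm_mul, h, pm_one, map_one, _root_.one_zpow]

theorem card_C : 729 ∣ Nat.card (centralizer {π (dg ind ind_sum)}) := by
  let c := swap (0 : Fin 6) 1 * swap 1 2
  let d := swap (3 : Fin 6) 4 * swap 4 5
  have t3 : IsPGroup 3 φ.range := IsPGroup.of_card (n := 4) card_T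
  have a3 : IsPGroup 3 ↥(φ.range ⊔ zpowers (π (pm c))) :=
    t3.to_sup_of_normal_left' (p3 (by decide)) (zpowers_le.2 (pm_norm c))
  have b3 : IsPGroup 3 ↥(φ.range ⊔ zpowers (π (pm c)) ⊔ zpowers (π (pm d))) :=
    a3.to_sup_of_normal_left' (p3 (by decide)) (zpowers_le.2 (normalizer_inf_normalizer_le_normalizer_sup _ _
      ⟨pm_norm d, centralizer_le_normalizer _ (by
        rintro _ ⟨k, rfl⟩
        refine (Commute.zpow_left ?_ k).eq
        rw [Commute, SemiconjBy, ← map_mul, ← map_mul, pm_mul, pm_mul, show d * c = c * d by decide])⟩))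
  have h1 := step (lt_of_le_of_ne le_sup_left fun e => by
    have := (le_sup_right.trans e.ge).trans (T_le ![1, 2, 0, 0, 0, 0] (by decide))
    rw [zpowers_le, pm_comm] at this
    revert this; decide) a3
  have h2 := step (lt_of_le_of_ne le_sup_left fun e => by
    have := (le_sup_right.trans e.ge).trans (sup_le (T_le ![0, 0, 0, 1, 2, 0] (by decide))
      (zpowers_le.2 (pm_comm.2 (by decide))))
    rw [zpowers_le, pm_comm] at this
    revert this; decide) b3
  rw [card_T] at h1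
  exact ((mul_dvd_mul_left 3 h1).trans h2).trans (card_dvd_of_le (sup_le (sup_le (T_le _ _)
    (zpowers_le.2 (pm_comm.2 (by decide)))) (zpowers_le.2 (pm_comm.2 (by decide)))))

theorem card_cj {G : Type*} [Group G] (g x : G) :
    Nat.card (centralizer {g * x * g⁻¹}) = Nat.card (centralizer {x}) :=
  (Nat.card_congr ((MulAut.conj g).toEquiv.subtypeEquiv fun c => by
    simp only [mem_centralizer_singleton_iff, MulEquiv.toEquiv_eq_coe, MulEquiv.coe_toEquiv,
      ← MulAut.conj_apply, ← map_mul, EmbeddingLike.apply_eq_iff_eq])).symm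

variable {M : Subgroup (PSU 6 GF4 2)}
  (hM : ∀ s : Perm (Fin 6), centralizer {π (dg (ind ∘ s) (sum_s ind_sum s))} ≤ M)
include hM

theorem swap_mem (i j : Fin 6) : π (pm (swap i j)) ∈ M := by
  obtain ⟨k, l, h⟩ : ∃ k l, ∀ m, (ind ∘ swap k l) (swap i j m) - (ind ∘ swap k l) m =
      (ind ∘ swap k l) (swap i j 5) - (ind ∘ swap k l) 5 := by revert i j; decide +kernel
  exact hM _ (pm_comm.2 h)

theorem siegel_mem {z y : V6} {a : GF4} {g : S6} (hg : IsSiegel z y a g) (hz : ∀ i, 3 ≤ i → z i = 0)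
    (hy : ∀ i, 3 ≤ i → y i = 0) : π g ∈ M := by
  refine hM 1 (mem_centralizer_singleton_iff.2 ?_)
  have e : ∀ v : V6, (∀ i, 3 ≤ i → v i = 0) → dg (ind ∘ (1 : Perm (Fin 6))) (sum_s ind_sum 1) • v = w 1 • v :=
    fun v hv => funext fun i => by
      rw [dg_smul, Pi.smul_apply, smul_eq_mul]
      by_cases c : 3 ≤ i
      · rw [hv i c, mul_zero, mul_zero]
      · congr 2; revert i; decide
  have h1 := hg.conj (dg (ind ∘ (1 : Perm (Fin 6))) (sum_s ind_sum 1))
  rw [e z hz, e y hy] at h1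
  have h2 := h1.of_smul
  rw [smul_smul, U.conj_apply, mul_comm (w 1 ^ 2), w_norm, one_smul, one_mul] at h2
  have h3 := h2.unique hg
  rw [mul_inv_eq_iff_eq_mul] at h3
  rw [← map_mul, ← map_mul, h3]

theorem move0 (u : V6) : ∃ k : S6, π k ∈ M ∧ (k • u) 0 = 0 ∧ ∀ i, 3 ≤ i → (k • u) i = u i := by
  have sw : ∀ j : Fin 6, j < 3 → u j = 0 → ∃ k : S6, π k ∈ M ∧ (k • u) 0 = 0 ∧ ∀ i, 3 ≤ i → (k • u) i = u i :=
    fun j hj h => ⟨pm (swap 0 j), swap_mem hM _ _, by rw [pm_smul]; simpa using h, fun i hi => by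
      rw [pm_smul, Function.comp, swap_apply_of_ne_of_ne] <;> omega⟩
  by_cases h0 : u 0 = 0
  · exact sw 0 (by decide) h0
  by_cases h1 : u 1 = 0
  · exact sw 1 (by decide) h1
  by_cases h2 : u 2 = 0
  · exact sw 2 (by decide) h2
  obtain ⟨c, e, c1, c2, c3, c4⟩ : ∃ c e : GF4, c * c ^ 2 + 1 = 0 ∧ u 1 * c ^ 2 + u 2 = e ∧ e ≠ 0 ∧
      u 0 * u 0 ^ 2 + u 1 * u 1 ^ 2 + u 2 * u 2 ^ 2 = e * e ^ 2 := by
    revert h0 h1 h2; generalize u 0 = x, u 1 = y, u 2 = z; revert x y z; decide +kernel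
  have q : hermForm 6 GF4 2 u ![0, c, 1, 0, 0, 0] = e := by simpa [hermForm, Fin.sum_univ_six] using c2
  obtain ⟨a, g, hg, e1, -⟩ := exists_siegel_move (n := 6) (q := 2) (z := ![0, c, 1, 0, 0, 0]) (x := u)
    (y := ![0, 0, e, u 3, u 4, u 5]) (by simpa [hermForm, Fin.sum_univ_six] using c1)
    (by rw [q]; simp [hermForm, Fin.sum_univ_six]) (q ▸ c3)
    (by simp only [hermForm, Fin.sum_univ_six, c4]; simp)
  refine ⟨g, siegel_mem hM hg ?_ ?_, by rw [e1]; rfl, ?_⟩ <;> intro i hi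
  · fin_cases i <;> simp at hi ⊢
  · rw [Pi.smul_apply, Pi.sub_apply, sub_eq_zero.2, smul_zero]; fin_cases i <;> simp at hi ⊢
  · rw [e1]; fin_cases i <;> simp at hi ⊢

theorem move (j : Fin 6) (hj : 3 ≤ j) (u : V6) :
    ∃ k : S6, π k ∈ M ∧ (k • u) j = 0 ∧ ∀ i, j < i → (k • u) i = u i := by
  obtain ⟨k, h1, h2, h3⟩ := move0 hM u
  refine ⟨pm (swap 0 j) * k, by rw [map_mul]; exact mul_mem (swap_mem hM _ _) h1, ?_, fun i hi => ?_⟩
  · rw [mul_smul, pm_smul]; simpa using h2
  · rw [mul_smul, pm_smul, Function.comp, swap_apply_of_ne_of_ne (by omega) (by omega), h3 i (by omega)]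

theorem eq_top : M = ⊤ := by
  have : M.comap π = ⊤ := by
    rw [eq_top_iff, ← closure_transvections (by norm_num) (by norm_num), closure_le]
    rintro g ⟨u, a, -, hg⟩
    obtain ⟨k5, m5, a5, -⟩ := move hM 5 (by decide) u
    obtain ⟨k4, m4, a4, b4⟩ := move hM 4 (by decide) (k5 • u)
    obtain ⟨k3, m3, a3, b3⟩ := move hM 3 (by decide) (k4 • k5 • u)
    have h1 := ((hg.conj k5).conj k4).conj k3
    have h2 := siegel_mem hM h1 (fun i hi => by
      obtain rfl | rfl | rfl : i = 3 ∨ i = 4 ∨ i = 5 := by omega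
      · exact a3
      · rw [b3 4 (by decide), a4]
      · rw [b3 5 (by decide), b4 5 (by decide), a5]) (fun i _ => by simp)
    simp only [map_mul, map_inv] at h2
    rwa [mul_mem_cancel_right (inv_mem m3), mul_mem_cancel_left m3, mul_mem_cancel_right (inv_mem m4),
      mul_mem_cancel_left m4, mul_mem_cancel_right (inv_mem m5), mul_mem_cancel_left m5] at h2
  rw [← map_comap_eq_self_of_surjective (QuotientGroup.mk'_surjective _) M, this,
    map_top_of_surjective _ (QuotientGroup.mk'_surjective _)]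

end GenU

/-- Proof. Transport along `e`; work in `SU 6 GF4 2` (orthonormal form `hermForm`, API in `Class/U/Basic`,
`Siegel`, `Simple`), `ω` a primitive cube root of unity in `GF4`. `T` = image of the diagonal matrices of
determinant one (`3⁵ / 3 = 81`; the centre of `SU` is the group of scalars `ω^k`; e.g. `T` = range of an
injective hom from `Multiplicative (Fin 4 → ZMod 3)`). For a 3-subset `I` let `x_I = diag (ω on I, 1 off I)`;
its image is `≠ 1`, and its centraliser in `PSU` contains the group of order `729` generated by `T`, a 3-cycle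
on `I` and a 3-cycle on the complement (or: `|PSU|₃ = 3⁶` by `TT.card_psu6`, and `x_I` is central in that
3-subgroup). Let `M̂` be the preimage of `M`; it contains every `g ∈ SU` commuting with some `x_I`.
Transvections `t_v : x ↦ x + h(x,v) v`, `v ≠ 0` isotropic, satisfy `g t_v g⁻¹ = t_(g v)`, `t_(ω v) = t_v`; the weight
(number of nonzero coordinates) of an isotropic `v` is even. Weight 2: `t_v` commutes with `x_I` for `I ⊇` support.
Weight `≥ 4`: take `I` inside the support; some `g ∈ SU` acting only on the coordinates in `I` (so commuting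
with `x_I`) maps `v|I = (a,b,c)` to `(*,0,0)` (diagonal matrix times `[[1,1,1],[1,ω,ω²],[1,ω²,ω]]`, determinant
corrected on the second row), lowering the weight by 2. So all `t_v ∈ M̂`; their images generate a
nontrivial normal subgroup of the simple group `PSU` (`Class.U.isSimpleGroup_PSU`). -/
theorem gen_U {U : Type*} [Group U] (e : U ≃* PSU 6 Class.GF4 2) :
    ∃ T : Subgroup U, Nat.card T = 81 ∧ (∀ x ∈ T, x ^ 3 = 1) ∧ (∀ x ∈ T, ∀ y ∈ T, Commute x y) ∧
      ∀ M : Subgroup U, (∀ x ∈ T, x ≠ 1 → 729 ∣ Nat.card (centralizer ({x} : Set U)) →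
        centralizer {x} ≤ M) → M = ⊤ := by
  refine ⟨GenU.φ.range.map (e.symm : _ →* U), ?_, ?_, ?_, fun M hM => ?_⟩
  · rw [card_map_of_injective e.symm.injective, GenU.card_T]
  · rintro _ ⟨_, ⟨a, rfl⟩, rfl⟩
    rw [← map_pow, ← map_pow, show a ^ 3 = 1 from ?_, map_one, map_one]
    refine Multiplicative.toAdd.injective (funext fun i => ?_)
    change 3 • a.toAdd i = 0
    generalize a.toAdd i = c; revert c; decide
  · rintro _ ⟨_, ⟨a, rfl⟩, rfl⟩ _ ⟨_, ⟨b, rfl⟩, rfl⟩
    exact ((Commute.all a b).map _).map _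
  have key : ∀ x c, c ∈ centralizer {e.symm x} ↔ e c ∈ centralizer {x} := fun x c => by
    rw [mem_centralizer_singleton_iff, mem_centralizer_singleton_iff, ← e.apply_eq_iff_eq]; simp
  have := GenU.eq_top (M := M.map (e : U →* _)) fun s c hc =>
    ⟨e.symm c, hM _ ⟨_, GenU.mem_T.2 ⟨_, GenU.sum_s GenU.ind_sum s, rfl⟩, rfl⟩ ?_ ?_
      ((key _ _).2 (by simpa using hc)), by simp⟩
  · rw [← comap_map_eq_self_of_injective (f := (e : U →* PSU 6 Class.GF4 2)) e.injective M, this, comap_top]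
  · intro h
    have h1 := GenU.pi_one.1 ((map_eq_one_iff _ e.symm.injective).1 h)
    have h2 := (h1 (s.symm 0)).trans (h1 (s.symm 3)).symm
    simp only [Function.comp, Equiv.apply_symm_apply] at h2
    revert h2; decide
  · refine Dvd.dvd.trans ?_ (Nat.card_congr (e.toEquiv.subtypeEquiv (key _))).symm.dvd
    rw [← GenU.pm_dg, map_mul, map_mul, map_inv, GenU.card_cj]
    exact GenU.card_C

end Cfsg.Agent.E63
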