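import Cfsg.Agent.E63.Out6
import Cfsg.Agent.E63.Fr
import Cfsg.Agent.PLocal.FFFixed

/-! Coordinates on the normaliser of the extraspecial group. -/

set_option autoImplicit false

namespace Cfsg.Agent.E63

open Cfsg.Agent.Comp Cfsg.Agent.Comp.BM Cfsg.Agent.E62 Subgroup Cfsg.Agent.TT Cfsg.Agent.PLocal.Amb

variable {G : Type*} [Group G] [Finite G] {r : G} {S U : Subgroup G}

section

open Cfsg.Agent.WG Cfsg.Agent.XSC
open scoped commutatorElement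

theorem pre_of_ln {Q : Subgroup G} {z : G}
    {θ : G → V} {B : V →ₗ[ZMod 2] V →ₗ[ZMod 2] ZMod 2} {q : V → ZMod 2} {A : G → V →ₗ[ZMod 2] V}
    (h : Ln Q z θ B q A) (hc : Nat.card Q = 2 ^ 21) {α : G → L} (hα : ∀ c, c * z = z * c → (α c).1 = A c)
    (onto : ∀ a ∈ Mb, ∃ c, c * z = z * c ∧ α c = a) :
    ∃ ψ, E62.Pre z ψ α ∧ (∀ c, c * z = z * c → α c = 1 → c ∈ ψ.range) ∧ ψ.range = Q := by
  obtain ⟨f1, f2⟩ := forms_eq (fun _ => form_Mb) (b := fun v w => B v w) (q := q) (fun u v w => by simp) h.B_comm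
    (fun v => h.nondeg) (fun g hg v w => by
      obtain ⟨c, h1, rfl⟩ := onto g hg
      rw [hα c h1, h.A_B h1]) h.q_add fun g hg v => by
      obtain ⟨c, h1, rfl⟩ := onto g hg
      rw [hα c h1, h.A_q h1]
  choose g g1 g2 using fun i : Fin 20 => h.surj (ee i)
  obtain ⟨ψ, p1, p2⟩ := exists_psi (g := g) h.z_sq (fun i => h.z_comm _ (g1 i))
    (fun i => (h.sq_iff (g1 i)).2 (by rw [g2, f2, β0_ee])) fun i j => by
      have := h.comm_iff (g1 i) (g1 j)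
      rw [g2, g2, f1, B0_ee_ee] at this
      split_ifs at this ⊢ with e
      · rw [commutatorElement_def, h.toXS.conj_of_ne (g1 i) (g1 j) (by simpa using this), h.z_comm _ (g1 j)]
        group
      · exact commutatorElement_eq_one_iff_mul_comm.2 (this.2 rfl)
  have k : ∀ e, ψ e ∈ Q ∧ θ (ψ e) = e.v := fun e => by
    have : e ∈ closure (Set.range (fun i : Fin 20 => eE i) ∪ {zE}) := closure_ES ▸ Subgroup.mem_top e
    induction this using closure_induction with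
    | mem e he =>
      rcases he with ⟨i, rfl⟩ | rfl
      · rw [p2]; exact ⟨g1 i, g2 i⟩
      · rw [p1]; exact ⟨h.z_mem, h.at_z⟩
    | one => rw [map_one]; exact ⟨one_mem _, h.one⟩
    | mul a b _ _ ha hb => rw [map_mul, h.mul _ ha.1 _ hb.1, ha.2, hb.2]; exact ⟨mul_mem ha.1 hb.1, rfl⟩
    | inv a _ ha => rw [map_inv, h.inv ha.1, ha.2]; exact ⟨inv_mem ha.1, by simp [CharTwo.neg_eq]⟩
  have i := inj_of_ne (p1 ▸ h.z_ne : ψ zE ≠ 1)
  have r : ψ.range = Q := eq_of_le_of_card_ge (by rintro _ ⟨e, rfl⟩; exact (k e).1)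
    (by rw [hc, ← card_ES]; exact (Nat.card_congr (MonoidHom.ofInjective i).toEquiv).le)
  refine ⟨ψ, ⟨i, p1, fun c h1 e => ?_⟩, fun c h1 e => r ▸ h.mem_of_A h1 fun v => ?_, r⟩
  · obtain ⟨e', he⟩ := r.ge (h.norm c h1 _ (k e).1)
    exact ⟨e', he.symm, by rw [← (k e').2, he, ← h.act c h1 _ (k e).1, (k e).2, hα c h1]⟩
  · rw [← hα c h1, e]; rfl

theorem exists_s6 {Q H : Subgroup G} {z : G} (h : LX Q z) (hz : ∀ c, c * z = z * c)
    (hc : Nat.card Q = 2 ^ 21) [hH : H.Normal]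
    (π : H →* Mb) (surj : Function.Surjective π) (ker : ∀ c : H, π c = 1 ↔ (c : G) ∈ Q) (hQ : Q ≤ H) :
    ∃ ψ α, S6 z ψ α ∧ ψ.range = Q ∧ ∀ c, α c ∈ Mb ↔ c ∈ H := by
  classical
  have := Fact.mk Nat.prime_two
  obtain ⟨θ, B, q, A, l⟩ : ∃ (θ : G → V) (B : _) (q : _) (A : _), Ln Q z θ B q A := by
    obtain ⟨h1, ⟨⟨e⟩⟩ | ⟨⟨e⟩⟩⟩ := exists_equiv_plus_or_minus (n := 10) h.toXS.isExtraspecial hc
    · obtain ⟨θ, A, l⟩ := ln_of_equiv h (xs_plus h1) e
      exact ⟨_, _, _, _, ln_trans l (LinearEquiv.ofFinrankEq _ _ (by simp))⟩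
    · obtain ⟨θ, A, l⟩ := ln_of_equiv h (xs_minus _) e
      exact ⟨_, _, _, _, ln_trans l (LinearEquiv.ofFinrankEq _ _ (by simp))⟩
  have ex : ∀ {θ : G → V} {B q A}, Ln Q z θ B q A → ∃ a : G →* L, ∀ c, (a c).1 = A c := fun {θ B q A} l =>
    ⟨MonoidHom.toHomUnits ⟨⟨fun c => A c, LinearMap.ext (l.A_mem (one_mem _))⟩, fun c d => LinearMap.ext
      (l.A_mul (hz c) (hz d))⟩, fun _ => rfl⟩
  obtain ⟨a, ha⟩ := ex l
  let ρ := π.liftOfSurjective surj ⟨a.comp H.subtype, fun c hc =>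
    Units.ext ((ha _).trans (LinearMap.ext (l.A_mem ((ker c).1 hc))))⟩
  have hρ : ∀ c, ρ (π c) = a c := fun c => π.liftOfRightInverse_comp_apply _ _ _ c
  obtain ⟨T, hT⟩ := u62_module ((Units.coeHom _).comp ρ) ((injective_iff_map_eq_one _).2 fun g hg => by
    obtain ⟨c, rfl⟩ := surj g
    exact (ker c).2 (l.mem_of_A (hz c) fun v => by
      rw [show A c = _ from (ha c).symm, ← hρ]; exact congrArg (· v) hg))
  have l1 := ln_trans l T.symm
  obtain ⟨b, hb⟩ := ex l1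
  have b1 : ∀ c : H, b c = π c := fun c => Units.ext ((hb _).trans (LinearMap.ext fun v => by
    simp only [LinearMap.comp_apply, LinearEquiv.coe_coe, LinearEquiv.symm_symm, LinearEquiv.symm_apply_eq, hT]
    rw [← ha, ← hρ]; rfl))
  have b2 : ∀ c, b c ∈ Mb ↔ c ∈ H := fun c =>
    ⟨fun hc => by
      obtain ⟨d, hd⟩ := surj ⟨_, hc⟩
      have : c⁻¹ * d ∈ Q := l1.mem_of_A (hz _) fun v => by
          rw [← hb, map_mul, map_inv, b1, hd, inv_mul_cancel]; rfl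
      simpa using inv_mem (mul_mem (hQ this) (inv_mem d.2)),
    fun hc => by rw [show c = (⟨c, hc⟩ : H) from rfl, b1]; exact (π _).2⟩
  have b3 : ∀ c, b c ∈ normalizer (Mb : Set L) := fun c => mem_normalizer_fintype fun g hg => by
    obtain ⟨d, hd⟩ := surj ⟨g, hg⟩
    have := (b2 _).2 (hH.conj_mem _ d.2 c)
    rwa [map_mul, map_mul, map_inv, b1, hd] at this
  obtain ⟨P⟩ : Nonempty (Sylow 2 G) := inferInstance
  obtain ⟨n, n1, n2⟩ := sylT2.exists_cj_le (P.2.map b) (by rintro _ ⟨c, -, rfl⟩; exact b3 c)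
  have onto : ∀ g ∈ Mb, ∃ c, c * z = z * c ∧ n * b c * n⁻¹ = g := fun g hg => by
    obtain ⟨c, hc⟩ := surj ⟨_, conj_mem_of_norm' n1 hg⟩
    exact ⟨c, hz c, by rw [b1, hc]; simp [mul_assoc]⟩
  obtain ⟨ψ, s1, s2, s3⟩ := pre_of_ln (ln_trans l1 (LinearMap.GeneralLinearGroup.toLinearEquiv n)) hc
    (α := fun c => n * b c * n⁻¹) (fun c _ => by rw [← hb c]; rfl) onto
  refine ⟨ψ, _, ⟨s1, s2, fun c _ => mul_mem (mul_mem n1 (b3 c)) (inv_mem n1), onto, fun B _ hB => ?_⟩, s3,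
    fun c => by rw [← mem_normalizer_iff.1 n1, b2]⟩
  obtain ⟨c, -, e⟩ := (isSyl_top P).exists_cj_le hB le_top
  exact ⟨c, hz c, fun x hx => n2 (conj_mem_cj n ⟨_, e (conj_mem_cj c hx), rfl⟩)⟩

end

omit [Finite G] in
theorem Sg.mk_iso (h : Sg r S U) : Nonempty (U ≃* Mb) :=
  h.iso.elim fun e => (exists_psu Class.GF4 Class.card_GF4).map e.trans

theorem Sg.mk_inf (h : Sg r S U) : U ⊓ S = ⊥ := by
  obtain ⟨e⟩ := h.mk_iso
  have := simple_Mb
  have := e.isSimpleGroup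
  have := Fact.mk Nat.prime_two
  rcases (normal_subgroupOf' h.UN).eq_bot_or_eq_top with k | k
  · exact inf_comm U S ▸ disjoint_iff.1 (subgroupOf_eq_bot.1 k)
  · obtain ⟨k, hk⟩ := IsPGroup.iff_card.1 (h.xs.isPGroup.to_le (subgroupOf_eq_top.1 k))
    have : 3 ∣ 2 ^ k := by rw [← hk, Nat.card_congr e.toEquiv, card_Mb]; norm_num
    exact absurd (Nat.prime_three.dvd_of_dvd_pow this) (by norm_num)

omit [Finite G] in
theorem Sg.mk_comm (h : Sg r S U) {n : G} (hn : n ∈ 𝐍[S]) : n * r = r * n := by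
  have := h.xs.map_conj n
  rw [show S.map (MulAut.conj n).toMonoidHom = S from cj_of_mem_normalizer hn] at this
  exact mul_inv_eq_iff_eq_mul.1 (this.unique h.xs)

/-- Proof. Work in the group `N = ↥𝐍[S]`, in which `r` is central (`XS.unique`/`map_conj`), `Q = S.subgroupOf N` satisfies
`LX Q r` (`cent`), `H = (S ⊔ U).subgroupOf N` is normal (`nrm`), `U ⊓ S = ⊥` (`U` simple nonabelian, `S` a 2-group
normalised by `U`), so `H →* U ≃* Mb` (`exists_psu`) is onto with kernel `Q`. Copy `E62.exists_st` and `st_of_ln`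
(`hi = form_Mb`), replacing `le2` by `b c ∈ normalizer Mb` (as `H` is normal) and choosing `n ∈ normalizer Mb`
conjugating the image of a fixed Sylow 2-subgroup `P` of `N` into `T2` (`sylT2`, `IsSyl.exists_cj_le`); then `two`
follows by conjugating `B` into `P`. Finally transport to `G` (`α g = if g ∈ N then .. else 1`). -/
theorem Sg.exists_SN (h : Sg r S U) : ∃ (ψ : ES →* G) (α : G → L), SN 𝐍[S] r ψ α ∧ ψ.range = S ∧
    ∀ c ∈ 𝐍[S], α c ∈ Mb ↔ c ∈ S ⊔ U := by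
  classical
  obtain ⟨e⟩ := h.mk_iso
  have hS : S ≤ 𝐍[S] := le_normalizer
  have hSU : S ⊔ U ≤ 𝐍[S] := sup_le hS h.UN
  have lx : LX (S.subgroupOf 𝐍[S]) ⟨r, hS h.xs.z_mem⟩ :=
    ⟨⟨h.xs.z_mem, fun e => h.xs.z_ne (congrArg Subtype.val e), Subtype.ext h.xs.z_sq,
      fun x hx => Subtype.ext (h.xs.z_comm x hx), fun x hx y hy => (h.xs.comm x hx y hy).imp Subtype.ext Subtype.ext,
      fun x hx k => (h.xs.cent x hx fun y hy => congrArg Subtype.val (k ⟨y, hS hy⟩ hy)).imp Subtype.ext Subtype.ext,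
      let ⟨x, h1, h2, h3⟩ := h.xs.nonab
      ⟨⟨x, hS h1⟩, h1, fun e => h2 (congrArg Subtype.val e), fun e => h3 (congrArg Subtype.val e)⟩⟩,
      fun c k => h.cent fun y hy => congrArg Subtype.val (k ⟨y, hS hy⟩ hy),
      fun c _ x hx => mem_subgroupOf.2 (conj_mem_of_mem_normalizer c.2 hx)⟩
  have := normal_subgroupOf' h.nrm
  obtain ⟨π, p1, p2⟩ := PLocal.exists_proj_of_complement h.UN h.mk_inf (sup_comm U S)
  let i := subgroupOfEquivOfLe hSU
  obtain ⟨ψ, α, s, s1, s2⟩ := exists_s6 lx (fun c => Subtype.ext (h.mk_comm c.2))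
    ((Nat.card_congr (subgroupOfEquivOfLe hS).toEquiv).trans h.card) (H := (S ⊔ U).subgroupOf 𝐍[S])
    (e.toMonoidHom.comp (π.comp i.toMonoidHom)) (e.surjective.comp (p1.comp i.surjective))
    (fun c => (map_eq_one_iff e e.injective).trans (SetLike.ext_iff.1 p2 (i c))) fun _ hx => mem_sup_left hx
  have hz : ∀ c : 𝐍[S], c * ⟨r, hS h.xs.z_mem⟩ = ⟨r, hS h.xs.z_mem⟩ * c := fun c => Subtype.ext (h.mk_comm c.2)
  let β : G → L := fun g => if k : g ∈ 𝐍[S] then α ⟨g, k⟩ else 1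
  have hβ : ∀ g (k : g ∈ 𝐍[S]), β g = α ⟨g, k⟩ := fun g k => dif_pos k
  refine ⟨(𝐍[S]).subtype.comp ψ, β, ⟨(subtype_injective _).comp s.inj, congrArg Subtype.val s.z_eq,
    fun c hc => h.mk_comm hc, fun e => (ψ e).2, fun c hc e => ?_, fun c hc k => ?_, fun c hc => hβ c hc ▸ s.nrm _ (hz _),
    fun a ha => ?_, fun B hB p => ?_⟩, by rw [MonoidHom.range_comp, s1, map_subgroupOf_of_le hS],
    fun c hc => hβ c hc ▸ s2 _⟩
  · obtain ⟨e', h1, h2⟩ := s.act ⟨c, hc⟩ (hz _) e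
    exact ⟨e', congrArg Subtype.val h1, hβ c hc ▸ h2⟩
  · obtain ⟨e, he⟩ := s.ker ⟨c, hc⟩ (hz _) (hβ c hc ▸ k)
    exact ⟨e, congrArg Subtype.val he⟩
  · obtain ⟨c, -, hc⟩ := s.onto a ha
    exact ⟨c, c.2, (hβ c c.2).trans hc⟩
  · obtain ⟨c, -, hc⟩ := s.two (B.subgroupOf 𝐍[S]) (fun b _ => hz b) (isPGroup_subgroupOf p _)
    exact ⟨c, c.2, fun b hb => hβ _ (c * ⟨b, hB hb⟩ * c⁻¹).2 ▸ hc ⟨b, hB hb⟩ hb⟩

end Cfsg.Agent.E63
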