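import Cfsg.Agent.Class.U.Simple
import Cfsg.Agent.Class.FieldTransport
import Cfsg.Prelude.Def_Local

/-! The `2`-core of an involution centraliser in `U₆(2)` is larger than the involution. -/

set_option autoImplicit false

namespace Cfsg.Agent.E63

open Subgroup

section
open Cfsg.Agent.Class.U

variable {F : Type*} [Field F] {q n : ℕ}

theorem o2_fix {g τ : SU n F q} (h : g * τ = τ * g) {x : Fin n → F} (hx : τ • x = x) :
    τ • g • x = g • x := by rw [← mul_smul, ← h, mul_smul, hx]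

/-- the elements of `C(τ)` which are trivial on the flag `V > ker (τ - 1) > im (τ - 1) > 0` -/
def o2D (τ : SU n F q) : Subgroup (SU n F q) where
  carrier := {g | g * τ = τ * g ∧ (∀ x : Fin n → F, τ • (g • x - x) = g • x - x) ∧
    ∀ x : Fin n → F, τ • x = x → ∃ y : Fin n → F, g • x - x = τ • y - y}
  one_mem' := ⟨by simp, by simp, fun x _ => ⟨0, by simp⟩⟩
  mul_mem' := by
    rintro g k ⟨g1, g2, g3⟩ ⟨k1, k2, k3⟩
    have e : ∀ x : Fin n → F, (g * k) • x - x = (g • k • x - k • x) + (k • x - x) := fun x => by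
      rw [mul_smul]; abel
    refine ⟨Commute.mul_left g1 k1, fun x => by rw [e, smul_add, g2, k2], fun x hx => ?_⟩
    obtain ⟨y, hy⟩ := g3 _ (o2_fix k1 hx)
    obtain ⟨z, hz⟩ := k3 x hx
    exact ⟨y + z, by rw [e, hy, hz, smul_add]; abel⟩
  inv_mem' := by
    rintro g ⟨g1, g2, g3⟩
    have e : ∀ x : Fin n → F, g⁻¹ • x - x = -(g • g⁻¹ • x - g⁻¹ • x) := fun x => by
      rw [smul_inv_smul]; abel
    have g1' : g⁻¹ * τ = τ * g⁻¹ := Commute.inv_left g1
    refine ⟨g1', fun x => by rw [e, smul_neg, g2], fun x hx => ?_⟩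
    obtain ⟨y, hy⟩ := g3 _ (o2_fix g1' hx)
    exact ⟨-y, by rw [e, hy, smul_neg]; abel⟩

theorem o2D_conj {τ c g : SU n F q} (hc : c * τ = τ * c) (hg : g ∈ o2D τ) : c * g * c⁻¹ ∈ o2D τ := by
  obtain ⟨g1, g2, g3⟩ := hg
  have e : ∀ x : Fin n → F, (c * g * c⁻¹) • x - x = c • (g • c⁻¹ • x - c⁻¹ • x) := fun x => by
    rw [smul_sub, smul_inv_smul, mul_smul, mul_smul]
  have hc' : c⁻¹ * τ = τ * c⁻¹ := Commute.inv_left hc
  refine ⟨(Commute.mul_left hc g1).mul_left hc', fun x => by rw [e, o2_fix hc (g2 _)], fun x hx => ?_⟩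
  obtain ⟨y, hy⟩ := g3 _ (o2_fix hc' hx)
  exact ⟨c • y, by rw [e, hy, smul_sub, ← mul_smul, hc, mul_smul]⟩

theorem o2D_pow (h2 : (2 : F) = 0) {τ g : SU n F q} (hg : g ∈ o2D τ) : g ^ 4 = 1 := by
  obtain ⟨g1, g2, g3⟩ := hg
  have a : ∀ x : Fin n → F, x + x = 0 := fun x => by rw [← two_smul F, h2, zero_smul]
  refine SU_ext fun x => ?_
  obtain ⟨y, hy⟩ := g3 _ (g2 x)
  have e1 : g • (τ • y - y) = τ • y - y := by
    have := g2 y
    rw [smul_sub, ← mul_smul, ← g1, mul_smul] at this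
    rw [smul_sub]
    linear_combination (exp := 1) this
  have e2 : g • g • x = x + (τ • y - y) := by
    rw [smul_sub] at hy
    linear_combination (exp := 1) hy + a (g • x) - a x
  rw [show g ^ 4 = g * (g * (g * g)) by simp only [pow_succ', pow_zero, mul_one], mul_smul, mul_smul, mul_smul, e2, smul_add, smul_add, e1, e1,
    e2, one_smul, add_assoc, a, add_zero]

variable [UF F q]

theorem o2D_siegel {τ g : SU n F q} (t2 : τ * τ = 1) {x₀ y : Fin n → F} {a : F}
    (h2 : (2 : F) = 0) (hy : τ • y = y) (hg : IsSiegel (τ • x₀ - x₀) y a g) : g ∈ o2D τ := by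
  have a0 : ∀ x : Fin n → F, -x = x := fun x => by
    rw [neg_eq_iff_add_eq_zero, ← two_smul F, h2, zero_smul]
  have hw : τ • (τ • x₀ - x₀) = τ • x₀ - x₀ := by
    rw [smul_sub, ← mul_smul, t2, one_smul, ← a0 (x₀ - _), neg_sub]
  refine ⟨?_, fun x => ?_, fun x hx => ?_⟩
  · have := hg.conj τ
    rw [hw, hy] at this
    exact (mul_inv_eq_iff_eq_mul.1 (this.unique hg)).symm
  · rw [hg x]
    simp only [smul_sub, smul_add, SU_smul_comm, hy]
    simp only [← smul_sub, hw]
    abel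
  · have o : hermForm n F q x (τ • x₀ - x₀) = 0 := by
      rw [herm_sub_right]
      nth_rewrite 1 [← hx]
      rw [SU_herm, sub_self]
    refine ⟨-(hermForm n F q x y • x₀), ?_⟩
    rw [hg x, o, smul_neg, SU_smul_comm]
    simp only [zero_smul, mul_zero, smul_sub]
    abel

theorem o2D_two (hn : 3 ≤ n) (h2 : (2 : F) = 0) {τ : SU n F q} (t1 : τ ≠ 1) (t2 : τ * τ = 1) :
    ∃ s ∈ o2D τ, s ≠ 1 ∧ s ≠ τ := by
  obtain ⟨x₀, h0⟩ : ∃ x₀ : Fin n → F, τ • x₀ - x₀ ≠ 0 := by
    by_contra! r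
    exact t1 (SU_ext fun x => by rw [one_smul]; exact sub_eq_zero.1 (r x))
  have a0 : ∀ x : Fin n → F, -x = x := fun x => by
    rw [neg_eq_iff_add_eq_zero, ← two_smul F, h2, zero_smul]
  have hw : ∀ x : Fin n → F, τ • (τ • x - x) = τ • x - x := fun x => by
    rw [smul_sub, ← mul_smul, t2, one_smul, ← a0 (x - _), neg_sub]
  have o : ∀ x, τ • x = x → hermForm n F q x (τ • x₀ - x₀) = 0 := fun x hx => by
    rw [herm_sub_right]
    nth_rewrite 1 [← hx]
    rw [SU_herm, sub_self]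
  obtain ⟨y, hy, hy'⟩ : ∃ y : Fin n → F, τ • y = y ∧ y ∉ Submodule.span F {τ • x₀ - x₀} := by
    by_contra! r
    let N : (Fin n → F) →ₗ[F] Fin n → F :=
      { toFun := fun x => τ • x - x
        map_add' := fun x y => by rw [smul_add]; abel
        map_smul' := fun c x => by rw [SU_smul_comm, smul_sub]; rfl }
    have k1 : LinearMap.ker N ≤ Submodule.span F {τ • x₀ - x₀} := fun x hx => r x (sub_eq_zero.1 hx)
    have k2 : LinearMap.range N ≤ Submodule.span F {τ • x₀ - x₀} := by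
      rintro _ ⟨x, rfl⟩
      exact r _ (hw x)
    have := N.finrank_range_add_finrank_ker
    have d1 := Submodule.finrank_mono k1
    have d2 := Submodule.finrank_mono k2
    rw [finrank_span_singleton h0] at d1 d2
    rw [Module.finrank_fin_fun] at this
    omega
  obtain ⟨s, hs⟩ := exists_transvection (a := 1) (o _ (hw x₀)) (by rw [map_one, one_add_one_eq_two, h2])
  obtain ⟨a, s', hs'⟩ := exists_siegel' (o _ (hw x₀)) (o _ hy)
  obtain ⟨x, hx⟩ := exists_herm_ne_zero (q := q) h0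
  have hx := herm_comm_ne hx
  have k : ∀ g : SU n F q, g • x - x ∈ Submodule.span F {τ • x₀ - x₀} → s' ≠ g := by
    rintro _ hg rfl
    have m := Submodule.mem_span_singleton_self (R := F) (τ • x₀ - x₀)
    refine hy' ((Submodule.smul_mem_iff _ hx).1 ?_)
    have := Submodule.sub_mem _ (Submodule.add_mem _ hg (Submodule.smul_mem _ (hermForm n F q x y) m))
      (Submodule.smul_mem _ (a * hermForm n F q x (τ • x₀ - x₀)) m)
    convert this using 1
    rw [hs' x]
    abel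
  by_cases e : s = τ
  · refine ⟨s', o2D_siegel t2 h2 hy hs', k 1 (by simp), e ▸ k s ?_⟩
    rw [hs.smul_zero_vec, add_sub_cancel_left]
    exact Submodule.smul_mem _ _ (Submodule.mem_span_singleton_self _)
  · refine ⟨s, o2D_siegel t2 h2 (smul_zero τ) hs, fun r => ?_, e⟩
    have := hs.smul_zero_vec x
    rw [r, one_smul, one_mul, left_eq_add, smul_eq_zero] at this
    exact this.elim hx h0

end

theorem o2_inj {A U : Type*} [Group A] [Group U] (f : A →* U) (fk : ∀ g, f g = 1 → g ∈ center A)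
    (f3 : ∀ g, f g = 1 → g ^ 3 = 1) (a b : A) (h : f a = f b) (ha : a ^ 4 = 1) (hb : b ^ 4 = 1) : a = b := by
  have h1 : f (a * b⁻¹) = 1 := by rw [map_mul, map_inv, h, mul_inv_cancel]
  have c : Commute (a * b⁻¹) b := (mem_center_iff.1 (fk _ h1) b).symm
  have h3 := c.mul_pow 4
  rw [inv_mul_cancel_right, ha, hb, mul_one, pow_succ, f3 _ h1, one_mul] at h3
  exact mul_inv_eq_one.1 h3.symm

/-- `D` is the image of `o2D τ`, `τ` the involution above `t`. -/
theorem o2_U {U : Type*} [Group U] (e : U ≃* PSU 6 Class.GF4 2) {t : U} (t1 : t ≠ 1) (t2 : t * t = 1) :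
    ∃ D : Subgroup U, D ≤ centralizer {t} ∧ centralizer {t} ≤ normalizer (D : Set U) ∧ IsPGroup 2 D ∧
      ¬ D ≤ zpowers t := by
  have : Class.U.UF Class.GF4 2 := Class.U.UF.of_card Class.card_GF4
  have h2 : (2 : Class.GF4) = 0 := by decide
  let f : SU 6 Class.GF4 2 →* U := e.symm.toMonoidHom.comp (QuotientGroup.mk' _)
  have fs : Function.Surjective f := e.symm.surjective.comp (QuotientGroup.mk'_surjective _)
  have fk : ∀ g, f g = 1 → g ∈ center _ := fun g hg =>
    (QuotientGroup.eq_one_iff g).1 (e.symm.map_eq_one_iff.1 hg)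
  have f3 : ∀ g, f g = 1 → g ^ 3 = 1 := fun g hg => by
    have := pow_card_eq_one' (x := (⟨g, fk g hg⟩ : center _))
    rw [Class.U.card_center (by norm_num)] at this
    exact congrArg Subtype.val this
  have inj := o2_inj f fk f3
  obtain ⟨g, rfl⟩ := fs t
  have g3 : g ^ 3 * g ^ 3 = 1 := by
    rw [← (Commute.refl g).mul_pow]; exact f3 _ (by rw [map_mul, t2])
  have e3 : f (g ^ 3) = f g := by rw [map_pow, pow_succ, sq, t2, one_mul]
  generalize g ^ 3 = τ at g3 e3
  rw [← e3] at t1 t2 ⊢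
  have τ4 : τ ^ 4 = 1 := by rw [show 4 = 2 * 2 from rfl, pow_mul, sq τ, g3, one_pow]
  refine ⟨(o2D τ).map f, ?_, fun c hc => ?_, ?_, fun h => ?_⟩
  · rintro _ ⟨s, hs, rfl⟩
    exact mem_centralizer_singleton_iff.2 (Commute.map hs.1 f)
  · obtain ⟨c, rfl⟩ := fs c
    have h1 : c * τ = τ * c := mul_inv_eq_iff_eq_mul.1 (inj _ _ (by
      rw [map_mul, map_mul, map_inv, mem_centralizer_singleton_iff.1 hc, mul_inv_cancel_right])
      (by rw [conj_pow, τ4, mul_one, mul_inv_cancel]) τ4)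
    refine le_normalizer_map f ⟨c, mem_normalizer_iff.2 fun x => ⟨o2D_conj h1, fun hx => ?_⟩, rfl⟩
    simpa [mul_assoc] using o2D_conj (Commute.inv_left h1) hx
  · exact IsPGroup.map (fun s => ⟨2, Subtype.ext (o2D_pow h2 s.2)⟩) f
  · obtain ⟨s, hs, s1, s2⟩ := o2D_two (by norm_num) h2 (fun r => t1 (by rw [r, map_one])) g3
    obtain ⟨k, hk⟩ := h (mem_map_of_mem f hs)
    have o : orderOf (f τ) = 2 := orderOf_eq_prime ((sq _).trans t2) t1
    rcases Int.even_or_odd' k with ⟨j, rfl | rfl⟩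
    · refine s1 (inj _ _ ?_ (o2D_pow h2 hs) (one_pow 4))
      rw [← hk, map_one]
      exact (zpow_mul _ _ _).trans (by rw [zpow_two, t2, one_zpow])
    · refine s2 (inj _ _ ?_ (o2D_pow h2 hs) τ4)
      rw [← hk]
      exact (zpow_add_one _ _).trans (by rw [zpow_mul, zpow_two, t2, one_zpow, one_mul])

end Cfsg.Agent.E63
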