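import Cfsg.Agent.E63.ScM
import Cfsg.Agent.E63.Fr
import Cfsg.Agent.E63.O2

/-! The involution is not weakly closed in the extraspecial group. -/

set_option autoImplicit false

namespace Cfsg.Agent.E63

open Cfsg.Agent.Comp Cfsg.Agent.Comp.BM Cfsg.Agent.E62 Subgroup Cfsg.Agent.TT Cfsg.Agent.PLocal.Amb
open Cfsg.Agent.Loc3 (mem_cent conj_of_comm comm_of_conj)

variable {G : Type*} [Group G] [Finite G] {r : G} {S U : Subgroup G} {ψ : ES →* G} {α : G → L}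

/-- the image in `V` of a subgroup -/
def nwI (ψ : ES →* G) (B : Subgroup G) : Submodule (ZMod 2) V :=
  sub2 (fun v => ∃ a, ψ ⟨v, a⟩ ∈ B) ⟨0, (map_one ψ).symm ▸ one_mem B⟩ fun _ _ ⟨_, p⟩ ⟨_, q⟩ =>
    ⟨_, by have := mul_mem p q; rwa [← map_mul] at this⟩

omit [Finite G] in
theorem Sg.nw_r (h : Sg r S U) {n : G} (hn : n ∈ 𝐍[S]) : n * r = r * n := by
  have := h.xs.map_conj n
  rw [cj_of_mem_normalizer hn] at this
  exact (comm_of_conj (this.unique h.xs)).eq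

variable (h : Sg r S U) (s : S6 r ψ α) (e : ψ.range = S) (m : ∀ c, c * r = r * c → (α c ∈ Mb ↔ c ∈ S ⊔ U))
include h s e m

omit [Finite G] in
theorem Sg.nw_onto {a : L} (ha : a ∈ Mb) : ∃ u ∈ U, α u = a := by
  obtain ⟨c, hc, rfl⟩ := s.onto a ha
  obtain ⟨_, h1, u, hu, rfl⟩ := (mem_sup_of_le_normalizer_left h.UN).1 ((m c hc).1 ha)
  obtain ⟨q, rfl⟩ := e.ge h1
  exact ⟨u, hu, by rw [s.mul (s.comm q) (h.nw_r (h.UN hu)), s.at_psi, one_mul]⟩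

omit [Finite G] in
theorem Sg.nw_bot {u : G} (hu : u ∈ U) (hS : u ∈ S) : u = 1 := by
  have : IsSimpleGroup (PSU 6 Class.GF4 2) := Class.U.isSimpleGroup_PSU (by norm_num) (by norm_num)
  obtain ⟨i⟩ := h.iso
  have := i.isSimpleGroup
  rcases (normal_subgroupOf' h.UN).eq_bot_or_eq_top with k | k
  · exact congrArg Subtype.val (k.le (x := ⟨u, hu⟩) hS)
  have := simple_Mb
  obtain ⟨a, a1⟩ := exists_ne (1 : Mb)
  obtain ⟨u, hu, k1⟩ := h.nw_onto s e m a.2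
  obtain ⟨q, rfl⟩ := e.ge (subgroupOf_eq_top.1 k hu)
  exact (a1 (Subtype.ext (k1.symm.trans (s.at_psi q)))).elim

theorem Sg.nw_x : ∃ g, g * r * g⁻¹ ∈ U ∧ α (g * r * g⁻¹) = x 28 := by
  obtain ⟨g, hg, M, M1, M2, M3, M4, M5⟩ := h.nw
  have c := h.nw_r (h.UN hg)
  have k {q : ES} (hq : q.v ∈ nwI ψ M) : ψ q ∈ M := by
    obtain ⟨a, ha⟩ := hq
    rcases s.eqv (a := q) (b := ⟨q.v, a⟩) rfl with k | k <;> rw [k]
    exacts [ha, mul_mem ha M2]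
  obtain ⟨a, ha, e1⟩ := cls_2A ((m _ c).2 (mem_sup_right hg))
    (by rw [← s.mul c c, conj_mul, s.zz, mul_one, mul_inv_cancel, s.one])
    (fun e1 => h.xs.z_ne (by simpa using h.nw_bot s e m hg (e.le (s.ker _ c e1)))) (W := nwI ψ M)
    (fun w ⟨a, ha⟩ => (s.act_v c (conj_of_comm (M4 _ ha).symm)).symm)
    (fun w ⟨a, ha⟩ h0 => ESM.v_eq_zero_iff.2 ((M5 _ ha fun m' hm' => by
      obtain ⟨q, rfl⟩ := e.ge (M1 hm')
      exact s.comm_iff.2 (h0 _ ⟨q.a, hm'⟩)).imp (fun e => s.inj (e.trans (map_one ψ).symm))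
        fun e => s.inj (e.trans s.z_eq.symm)))
    (by
      have := Nat.card_le_card_of_surjective (fun p : nwI ψ M × ZMod 2 => (⟨ψ ⟨p.1, p.2⟩, k p.1.2⟩ : M))
        fun y => let ⟨q, hq⟩ := e.ge (M1 y.2); ⟨(⟨q.v, q.a, hq ▸ y.2⟩, q.a), Subtype.ext hq⟩
      rw [Nat.card_prod, Nat.card_zmod] at this
      omega)
  obtain ⟨u, hu, rfl⟩ := h.nw_onto s e m ha
  rw [← s.cj (h.nw_r (h.UN hu)) c] at e1
  refine ⟨u * g, ?_, by rw [← e1]; congr 1; group⟩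
  convert mul_mem (mul_mem hu hg) (inv_mem hu) using 1; group

theorem Sg.nwc : ∃ g : G, g * r * g⁻¹ ∈ ψ.range ∧ g * r * g⁻¹ ≠ r := by
  obtain ⟨g, hg, e1⟩ := h.nw_x s e m
  have c := h.nw_r (h.UN hg)
  have cg {y : G} (hy : Commute y (g * r * g⁻¹)) : g⁻¹ * y * g * r = r * (g⁻¹ * y * g) := by
    simpa [mul_assoc] using (Loc3.Commute.cj hy g⁻¹).eq
  have nr {y : G} (hy : Commute y (g * r * g⁻¹)) : y ∈ 𝐍[cj(g, ψ.range)] := by
    rw [normalizer_cj, mem_cj]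
    refine mem_normalizer_fintype ?_
    rintro _ ⟨q, rfl⟩
    obtain ⟨q', k, -⟩ := s.act _ (cg hy) q
    exact ⟨q', k.symm⟩
  by_contra! H
  have rS : r ∉ cj(g, ψ.range) := fun k => h.xs.z_ne (h.nw_bot s e m (by
    have := H g⁻¹ (by simpa using mem_cj.1 k)
    rwa [show g * r * g⁻¹ = r by nth_rw 1 [← this]; group] at hg) h.xs.z_mem)
  obtain ⟨b, b1, b2, b3⟩ : ∃ b : ES, ψ b ∈ cj(g, ψ.range) ∧ ψ b ≠ 1 ∧ ψ b ≠ r := by
    by_contra! k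
    let E := (hat (Sp 20 1535)).map ψ ⊓ centralizer {g * r * g⁻¹}
    have a1 : Nat.card ((hat (Sp 20 1535)).map ψ) ≤ 2 * Nat.card E :=
      card_le_two_mul_of_mul_mem inf_le_left fun a ha b hb a1 b1 => by
        have k {a} (ha : a ∈ (hat (Sp 20 1535)).map ψ) (a1 : a ∉ E) :
            g * r * g⁻¹ * a * (g * r * g⁻¹)⁻¹ = a * r := by
          obtain ⟨q, hq, rfl⟩ := ha
          obtain ⟨q', k, k'⟩ := s.act _ c q
          rw [e1, (sing_2A hq).1] at k'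
          rw [k]
          exact (s.eqv k').resolve_left fun e => a1 ⟨⟨q, hq, rfl⟩, mem_cent.2 (comm_of_conj (k.trans e)).symm⟩
        refine ⟨mul_mem ha hb, mem_cent.2 (comm_of_conj ?_).symm⟩
        obtain ⟨q, -, rfl⟩ := id hb
        rw [← conj_mul, k ha a1, k hb b1, mul_assoc a, ← mul_assoc r, ← s.comm, h.xs.mul_z_z]
    have a2 := Nat.card_le_card_of_injective (fun p : Sp 20 1535 × ZMod 2 =>
      (⟨ψ ⟨p.1, p.2⟩, _, p.1.2, rfl⟩ : (hat (Sp 20 1535)).map ψ)) fun p q e => by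
        have := s.inj (congrArg Subtype.val e)
        exact Prod.ext (Subtype.ext (congrArg ESM.v this)) (congrArg ESM.a this)
    rw [Nat.card_prod, Nat.card_zmod, (U62S.card_Sp _).trans (by decide +kernel : _ = 2 ^ 10)] at a2
    let f : E →* L := MonoidHom.mk' (fun y => α (g⁻¹ * y * g)) fun a b => by
      rw [← s.mul (cg (mem_cent.1 a.2.2)) (cg (mem_cent.1 b.2.2))]; congr 1; simp [mul_assoc]
    have inj : Function.Injective f := (injective_iff_map_eq_one f).2 fun ⟨_, ⟨q, hq, rfl⟩, y2⟩ e =>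
      have k1 := mem_cj.2 (s.ker _ (cg (mem_cent.1 y2)) e)
      Subtype.ext (by_contra fun n => rS (k q k1 n ▸ k1))
    have a3 := (Nat.card_congr (MonoidHom.ofInjective inj).toEquiv).le
    obtain ⟨y, -, a4⟩ := Jlem6 (A := f.range) (by rintro _ ⟨y, rfl⟩; exact s.nrm _ (cg (mem_cent.1 y.2.2))) (by
      rintro _ ⟨⟨_, ⟨q, hq, rfl⟩, y2⟩, rfl⟩
      rw [← map_mul, ← map_one f]
      exact congrArg f (Subtype.ext ((map_mul ψ _ _).symm.trans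
        (by rw [ESM.sq_eq_one_iff.2 (sing_2A hq).2, map_one]; rfl)))) (by omega)
    have a5 := card_cj y f.range
    rw [a4, card_AA] at a5
    omega
  have mn := min_2A (W := nwI ψ cj(g, ψ.range)) (fun a ha ca w ⟨i, hw⟩ => by
      obtain ⟨u, hu, rfl⟩ := h.nw_onto s e m ha
      have cu := h.nw_r (h.UN hu)
      have m1 := mul_mem (mul_mem (mul_mem hu hg) (inv_mem hu)) (inv_mem hg)
      have cu' : Commute u (g * r * g⁻¹) := comm_of_conj (mul_inv_eq_one.1 (h.nw_bot s e m m1 (e.le (s.ker _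
        (h.nw_r (h.UN m1)) (by
          rw [s.mul (h.nw_r (h.UN (mul_mem (mul_mem hu hg) (inv_mem hu)))) (h.nw_r (h.UN (inv_mem hg))),
            s.cj cu c, s.inv c, e1, ca]; group)))))
      obtain ⟨q, k1, k2⟩ := s.act _ cu ⟨w, i⟩
      exact ⟨q.a, by rw [← show q.v = _ from k2]; exact k1 ▸ conj_mem_of_mem_normalizer (nr cu') hw⟩)
    fun k => (ESM.v_eq_zero_iff.1 ((Submodule.mem_bot _).1 (k.le ⟨b.a, b1⟩))).elim
      (fun e => b2 (by rw [e, map_one])) fun e => b3 (by rw [e]; exact s.z_eq)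
  have r2 : g * r * g⁻¹ ∈ cj(g, ψ.range) := conj_mem_cj g ⟨_, s.z_eq⟩
  generalize hρ : g * r * g⁻¹ = ρ at *
  have ρ2 : ρ⁻¹ = ρ := by rw [← hρ, conj_inv, h.xs.z_inv]
  have sq (q : ES) : ∃ q' : ES, ρ * ψ q * ρ⁻¹ * (ψ q)⁻¹ = ψ q' ∧ q'.v = (x 28).1 q.v + q.v := by
    obtain ⟨q', k, k'⟩ := s.act _ c q
    exact ⟨q' * q⁻¹, by rw [k, map_mul, map_inv], by
      rw [ESM.mul_v, ESM.inv_v, k', e1, neg_eq_of_add_eq_zero_left (vv _)]⟩
  have one (q : ES) (n : (x 28).1 q.v ≠ q.v) : ρ * ψ q * ρ⁻¹ * (ψ q)⁻¹ * r ∈ cj(g, ψ.range) := by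
    obtain ⟨q', k, k'⟩ := sq q
    obtain ⟨i, hi⟩ := mn q.v
    rcases s.eqv (a := q') (b := ⟨_, i⟩) k' with k1 | k1
    · have k2 := mem_cj.1 (mul_mem r2 (k.trans k1 ▸ hi))
      have k3 : g⁻¹ * (ρ * (ρ * ψ q * ρ⁻¹ * (ψ q)⁻¹)) * g = g⁻¹ * ψ q * g * r * (g⁻¹ * ψ q * g)⁻¹ := by
        nth_rw 1 [← ρ2]
        rw [show ρ⁻¹ * (ρ * ψ q * ρ⁻¹ * (ψ q)⁻¹) = ψ q * ρ⁻¹ * (ψ q)⁻¹ by group, ρ2, ← hρ]
        group
      have k4 := H _ (k3 ▸ k2)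
      have k5 : Commute ρ (ψ q) := by
        rw [← hρ]; simpa [mul_assoc] using Loc3.Commute.cj (comm_of_conj k4).symm g
      exact (n (e1 ▸ (s.act_v c (conj_of_comm k5)).symm)).elim
    · rwa [k, k1, h.xs.mul_z_z]
  have two (v w : V) (n1 : (x 28).1 v ≠ v) (n2 : (x 28).1 w ≠ w) (n3 : (x 28).1 (v + w) ≠ v + w) :
      B0 v ((x 28).1 w + w) ≠ 0 := fun k => by
    have o1 := one ⟨v, 0⟩ n1
    have o2 := one ⟨w, 0⟩ n2
    have o3 := one (⟨v, 0⟩ * ⟨w, 0⟩) n3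
    obtain ⟨q, k1, k2⟩ := sq ⟨w, 0⟩
    have c1 : Commute (ψ ⟨v, 0⟩) (ψ q) := s.comm_iff.2 (k2 ▸ k)
    rw [map_mul, show ρ * (ψ ⟨v, 0⟩ * ψ ⟨w, 0⟩) * ρ⁻¹ * (ψ ⟨v, 0⟩ * ψ ⟨w, 0⟩)⁻¹ = ρ * ψ ⟨v, 0⟩ * ρ⁻¹ * (ψ ⟨v, 0⟩)⁻¹ *
      (ψ ⟨v, 0⟩ * (ρ * ψ ⟨w, 0⟩ * ρ⁻¹ * (ψ ⟨w, 0⟩)⁻¹) * (ψ ⟨v, 0⟩)⁻¹) by group, k1, conj_of_comm c1] at o3
    have o4 := mul_mem o1 o2
    rw [k1, mul_assoc, ← mul_assoc r, ← s.comm, h.xs.mul_z_z] at o4
    exact rS ((mul_mem_cancel_left o4).1 o3)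
  obtain ⟨a, b, d, fr⟩ := free_2A
  have n (i j k : ZMod 2) (h0 : ¬ (i = 0 ∧ j = 0 ∧ k = 0)) {v : V} (e : v = i • a + j • b + k • d) :
      (x 28).1 v ≠ v := fun k => h0 (fr _ _ _ (e ▸ k))
  have n1 := n 1 0 0 (by decide) (v := a) (by simp)
  have t1 := two a b n1 (n 0 1 0 (by decide) (by simp)) (n 1 1 0 (by decide) (by simp))
  have t2 := two a d n1 (n 0 0 1 (by decide) (by simp)) (n 1 0 1 (by decide) (by simp))
  have t3 := two a (b + d) n1 (n 0 1 1 (by decide) (by simp)) (n 1 1 1 (by decide) (by simp [add_assoc]))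
  rw [show B0 a ((x 28).1 (b + d) + (b + d)) = B0 a ((x 28).1 b + b) + B0 a ((x 28).1 d + d) by
    simp only [B0, map_add, LinearMap.add_apply]; ring] at t3
  exact (by decide : ∀ p q : ZMod 2, p ≠ 0 → q ≠ 0 → ¬ p + q ≠ 0) _ _ t1 t2 t3

end Cfsg.Agent.E63
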