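import Cfsg.Agent.E63.B1

/-! The centre is not weakly closed in `Q`. -/

set_option autoImplicit false

namespace Cfsg.Agent.E63

open Subgroup Cfsg.Agent.F22L Cfsg.Agent.F22L.Wr

variable {G : Type*} [Group G] [Finite G] {z : G} {ψ : Hs →* G} {ρ : G → Wr} {l : G → V →+ F3}
  {X : Subgroup Wr} {κ : B8 →* G}

namespace Wk

theorem perp_fix {g : Wr} {u : V} (h : ∀ f, g • f = f → om u f = 0) : ∃ w, u = w - g • w := by
  let S : Submodule F3 V := AddSubgroup.toZModSubmodule 3 (dl g).range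
  have h1 : omB.Nondegenerate :=
    ⟨fun v hv => om_nondeg hv, fun v hv => om_nondeg fun w => by
      rw [om_swap, neg_eq_zero]; exact hv w⟩
  have h2 : omB.IsRefl := fun v w e => by
    change om w v = 0
    rw [om_swap, neg_eq_zero]; exact e
  have h3 : u ∈ omB.orthogonal (omB.orthogonal S) := fun f hf => h2 _ _ (h f (by
    refine (sub_eq_zero.1 (om_nondeg fun w => ?_)).symm
    have : om (dl g (g⁻¹ • w)) f = 0 := hf _ ⟨_, rfl⟩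
    rw [dl_apply, smul_inv_smul, om_sub_left, ← om_smul g, smul_inv_smul] at this
    rw [om_swap, om_sub_right]
    linear_combination this))
  rw [LinearMap.BilinForm.orthogonal_orthogonal h1 h2] at h3
  exact h3.imp fun _ e => e.symm

theorem sg_comm {i j : Fin 3} (h : i ≠ j) (a b : SL) : Commute (sg i a) (sg j b) :=
  ((Pi.mulSingle_commute (f := fun _ => SL) h a b).map bs :)

theorem exists_b {g : Wr} (hs : ∀ i, g.s i ≠ i) (g3 : g ^ 3 = 1) :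
    ∃ b ∈ B8, g * b * g⁻¹ = b ∧ ∀ v : V, (b * b) • v = -v := by
  have q : ∀ m a : SL, a * a = SL.ng → m * a * m⁻¹ * (m * a * m⁻¹) = SL.ng := by decide +kernel
  have q4 : ∀ a : SL, a * a = SL.ng → a ∈ SL.Q8 := by decide +kernel
  have q0 : qi * qi = SL.ng := by decide +kernel
  obtain ⟨a1, q1, e1⟩ : ∃ a, a * a = SL.ng ∧ g * sg 0 qi * g⁻¹ = sg (g.s 0) a := ⟨_, q _ _ q0, conj_sg _ _ _⟩
  obtain ⟨a2, q2, e2⟩ : ∃ a, a * a = SL.ng ∧ g * sg (g.s 0) a1 * g⁻¹ = sg (g.s (g.s 0)) a :=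
    ⟨_, q _ _ q1, conj_sg _ _ _⟩
  have e3 : g * sg (g.s (g.s 0)) a2 * g⁻¹ = sg 0 qi := by
    rw [← e2, ← e1]
    calc _ = g ^ 3 * sg 0 qi * (g ^ 3)⁻¹ := by rw [pow_three]; group
      _ = _ := by rw [g3]; simp
  have n1 : 0 ≠ g.s 0 := (hs 0).symm
  have n2 : g.s 0 ≠ g.s (g.s 0) := (hs _).symm
  have n3 : 0 ≠ g.s (g.s 0) := fun e => hs 0 (by have := perm_der3 _ hs 0; rwa [← e] at this)
  refine ⟨sg 0 qi * sg (g.s 0) a1 * sg (g.s (g.s 0)) a2,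
    mul_mem (mul_mem (sg_mem (q4 _ q0)) (sg_mem (q4 _ q1))) (sg_mem (q4 _ q2)), ?_, fun v => funext fun k => ?_⟩
  · rw [← conj_mul, ← conj_mul, e1, e2, e3, ← ((sg_comm n1 _ _).mul_right (sg_comm n3 _ _)).eq, mul_assoc]
  · rw [base_smul (by simp), Pi.neg_apply, ← SL.ng_smul]
    congr 1
    rcases perm_der _ hs 0 k with rfl | rfl | rfl <;>
      simp [sg_m, Pi.mulSingle_eq_of_ne, n1, n2, n3, n1.symm, n2.symm, n3.symm, q0, q1, q2]

theorem card_Fx {g : Wr} (gs : g.s = 1) (g3 : g ^ 3 = 1) :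
    Nat.card (Fx g) = ∏ i, if g.m i = 1 then 9 else 3 := by
  have q : ∀ m : SL, m ^ 3 = 1 → Fintype.card {a : W2 // m • a = a} = if m = 1 then 9 else 3 := by
    decide +kernel
  rw [Nat.card_congr ((Equiv.subtypeEquivRight (q := fun v : V => ∀ i, g.m i • v i = v i) fun v => by
    rw [mem_Fx, funext_iff]; simp only [base_smul gs]).trans (Equiv.subtypePiEquivPi
      (p := fun i (a : W2) => g.m i • a = a))), Nat.card_pi]
  exact Finset.prod_congr rfl fun i _ => by rw [Nat.card_eq_fintype_card, q _ (m_cube g3 gs i)]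

omit [Finite G] in
theorem rr_act (h : Bs z ψ ρ l X κ) (i : Fin 3) (x : Hs) :
    rr κ i * ψ x * (rr κ i)⁻¹ * (ψ x)⁻¹ = ψ ⟨Pi.single i (x.v i), 0⟩ := by
  rw [rr, h.κ_act, ← map_inv, ← map_mul]
  congr 1
  refine Hs.ext (funext fun k => ?_) ?_
  · change (r i • x.v) k + -x.v k = (Pi.single i (x.v i) : V) k
    rw [r_smul]
    by_cases c : k = i
    · subst c; rw [if_pos rfl, Pi.single_eq_same]; generalize x.v k = a; revert a; decide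
    · simp [c]
  · rw [Hs.mul_c, Hs.inv_c, Hs.inv_v, add_neg_cancel, zero_add]
    refine Finset.sum_eq_zero fun k _ => ?_
    change o2 ((r i • x.v) k) (-x.v k) = 0
    rw [r_smul]; generalize x.v k = a; split_ifs <;> revert a <;> decide

omit [Finite G] in
theorem rr_inv (h : Bs z ψ ρ l X κ) (i : Fin 3) (a : W2) :
    rr κ i * ψ ⟨Pi.single i a, 0⟩ * (rr κ i)⁻¹ = (ψ ⟨Pi.single i a, 0⟩)⁻¹ := by
  have := rr_act h i ⟨Pi.single i a, 0⟩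
  simp only [Pi.single_eq_same, mul_inv_eq_iff_eq_mul (c := ψ _)] at this
  rw [this, eq_inv_iff_mul_eq_one, ← pow_three', ← map_pow, Hs.cube, map_one]

omit [Finite G] in
theorem comm_rr (h : Bs z ψ ρ l X κ) {a : G} (ha : Commute a z) (as : (ρ a).s = 1) {i : Fin 3}
    (e : ∀ b, l a (Pi.single i b) = 0) : Commute a (rr κ i) := by
  obtain ⟨x, b, hb, rfl, e'⟩ := h.dec ha
  refine (h.ψ_rr.2 ?_).mul_left (Loc3.comm_of_conj (by rw [h.conj_rr hb, e', as]; rfl))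
  by_contra c
  obtain ⟨w, hw⟩ := o2_ex _ c
  have := e (((ρ b).m i)⁻¹ • w)
  rw [h.l_mul (h.cψ x) hb.1, show l b = 0 from hb.2, h.l_ψ, smul_single, e', as, om_single_right] at this
  simp [← e', hw] at this

instance : Finite Hs := Nat.finite_of_card_ne_zero (by rw [Hs.card]; norm_num)

theorem card_C (W : AddSubgroup V) (f : V →+ F3) : Nat.card W ≤ Nat.card (pre (W ⊓ f.ker)) := by
  rw [card_pre]; exact card_le_ker _ _

/-- Two commuting conjugates. -/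
structure Pr (z : G) (ψ : Hs →* G) (ρ : G → Wr) (l : G → V →+ F3) (κ : B8 →* G) (y : G) (ψ' : Hs →* G)
    (ρ' : G → Wr) (l' : G → V →+ F3) (κ' : B8 →* G) (X : Subgroup Wr) : Prop where
  h : Bs z ψ ρ l X κ
  h' : Bs y ψ' ρ' l' X κ'
  wc : WC z ψ
  wc' : WC y ψ'
  cj : IsConj z y
  cm : Commute y z
  nz : y ∉ zpowers z

namespace Pr

variable {y : G} {ψ' : Hs →* G} {ρ' : G → Wr} {l' : G → V →+ F3} {κ' : B8 →* G}
  (p : Pr z ψ ρ l κ y ψ' ρ' l' κ' X)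
include p

section
omit [Finite G]

theorem symm : Pr y ψ' ρ' l' κ' z ψ ρ l κ X :=
  ⟨p.h', p.h, p.wc', p.wc, p.cj.symm, p.cm.symm, fun c =>
    p.h.z1 (p.h'.toHS.eq_one p.nz c (mem_zpowers z))⟩

theorem nQ : y ∉ ψ.range := fun c => p.nz (p.wc y p.cj c)

theorem g3 : ρ y ^ 3 = 1 := by rw [← p.h.ρ_pow p.cm, p.h'.z3, p.h.ρ_one]

theorem gam_mul (x : Hs) : gam ψ (ρ y) (l y) x.v * y = ψ x * y * (ψ x)⁻¹ := (p.h.conj_eq p.cm x).symm

theorem star {v : V} (c : gam ψ (ρ y) (l y) v ∈ ψ'.range) : gam ψ (ρ y) (l y) v = 1 :=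
  p.h'.toHS.eq_one p.nQ (((zpowers y).mul_mem_cancel_right (mem_zpowers y)).1
    (p.wc' _ (isConj_iff.2 ⟨_, (p.gam_mul ⟨v, 0⟩).symm⟩) (mul_mem c p.h'.zmem))) ⟨_, rfl⟩

theorem v_zero {x : Hs} (c : ψ x = 1) : x.v = 0 := congrArg Hs.v (p.h.inj (c.trans (map_one ψ).symm))

theorem comm_y {x : Hs} : Commute (ψ x) y ↔ x.v ∈ Fx (ρ y) ⊓ (l y).ker :=
  Commute.symm_iff.trans (p.h.commute_iff p.cm)

theorem l_der (hs : ∀ i, (ρ y).s i ≠ i) {f : V} (hf : ρ y • f = f) : l y f = 0 := by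
  obtain ⟨v, rfl⟩ := exists_norm hs p.g3 hf
  have := p.h.l_mul p.cm (p.cm.mul_left p.cm) v
  rw [← pow_three, p.h'.z3, p.h.l_one, p.h.l_mul p.cm p.cm, p.h.ρ_mul p.cm p.cm, mul_smul] at this
  rw [map_add, map_add, ← this]; rfl

theorem cjx (x : Hs) : Pr z ψ ρ l κ (ψ x * y * (ψ x)⁻¹) ((MulAut.conj (ψ x)).toMonoidHom.comp ψ')
    (fun a => ρ' ((ψ x)⁻¹ * a * ψ x)) (fun a => l' ((ψ x)⁻¹ * a * ψ x))
    ((MulAut.conj (ψ x)).toMonoidHom.comp κ') X :=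
  ⟨p.h, p.h'.cj _, p.wc, p.wc'.cj _, p.cj.trans (isConj_iff.2 ⟨_, rfl⟩),
    ((p.h.cψ x).mul_left p.cm).mul_left (p.h.cψ x).inv_left, fun c => p.nQ (by
      have := zpowers_le_of_mem p.h.zmem c
      have m : ψ x ∈ ψ.range := ⟨x, rfl⟩
      rwa [mul_mem_cancel_right (inv_mem m), mul_mem_cancel_left m] at this)⟩

theorem ρ_cjx (x : Hs) : ρ (ψ x * y * (ψ x)⁻¹) = ρ y := by
  rw [← p.gam_mul, gam, p.h.ρ_mul (p.h.cψ _) p.cm, p.h.ρ_ψ, one_mul]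

theorem norm {u : V} (hu : ∀ f, ρ y • f = f → om u f = 0) :
    ∃ x : Hs, ∀ v, l (ψ x * y * (ψ x)⁻¹) v = l y v - om u v := by
  obtain ⟨w, rfl⟩ := perp_fix hu
  refine ⟨⟨ρ y • w, 0⟩, fun v => ?_⟩
  rw [← p.gam_mul, gam, p.h.l_mul (p.h.cψ _) p.cm, p.h.l_ψ, ← smul_sub, om_smul, sub_eq_add_neg (l y v)]

theorem norm0 (hu : ∀ f, ρ y • f = f → l y f = 0) : ∃ x : Hs, l (ψ x * y * (ψ x)⁻¹) = 0 := by
  obtain ⟨u, e⟩ := exists_dual (l y)
  obtain ⟨x, hx⟩ := p.norm (u := u) fun f hf => e f ▸ hu f hf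
  exact ⟨x, AddMonoidHom.ext fun v => by rw [hx, e, sub_self]; rfl⟩

theorem r3 {x : Hs} (c : Commute (ψ x) y) : ρ' (ψ x) ^ 3 ^ 1 = 1 := by
  rw [pow_one, ← p.h'.ρ_pow c, ← map_pow, Hs.cube, map_one, p.h'.ρ_one]

theorem r2 {t : G} (c : Commute t y) (e : t * t = 1) : ρ' t * ρ' t = 1 := by
  rw [← p.h'.ρ_mul c c, e, p.h'.ρ_one]

theorem rinv {t a : G} (c : Commute t y) (ca : Commute a y) (e : t * a * t⁻¹ = a⁻¹) :
    ρ' t * ρ' a * (ρ' t)⁻¹ = (ρ' a)⁻¹ := by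
  rw [← p.h'.ρ_inv c, ← p.h'.ρ_mul c ca, ← p.h'.ρ_mul (c.mul_left ca) c.inv_left, e, p.h'.ρ_inv ca]

theorem not_der0 (hs : ∀ i, (ρ y).s i ≠ i) (hl : l y = 0) : False := by
  obtain ⟨b, hb, e1, e2⟩ := exists_b hs p.g3
  have c1 : Commute (κ ⟨b, hb⟩) y :=
    (Loc3.comm_of_conj (p.h.conj_κ (x := ⟨b, hb⟩) (y := ⟨b, hb⟩) ⟨p.cm, hl⟩ e1)).symm
  have c2 : κ ⟨b, hb⟩ * κ ⟨b, hb⟩ * (κ ⟨b, hb⟩ * κ ⟨b, hb⟩) = 1 := by
    rw [← map_mul, ← map_mul, ← map_one κ]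
    exact congrArg κ (Subtype.ext (by simpa [pow_succ, mul_assoc] using pow_four hb))
  let x : V := Pi.single 0 a0
  have f1 : ρ y • (dl (ρ y) x - ρ y • dl (ρ y) x) = dl (ρ y) x - ρ y • dl (ρ y) x := by
    rw [dl_apply, sub_sub_smul]; exact norm_fix p.g3 x
  have f2 := om_fix f1 x
  rw [om_sub_right, ← dl_apply _ x, om_self, zero_sub, neg_eq_zero] at f2
  have f3 : gam ψ (ρ y) (l y) (dl (ρ y) x) = ψ ⟨dl (ρ y) x - ρ y • dl (ρ y) x, 0⟩ := by simp [gam, f2, hl]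
  have c3 : Commute (ψ ⟨dl (ρ y) x - ρ y • dl (ρ y) x, 0⟩) y := p.comm_y.2 ⟨f1, by simp [hl]⟩
  have h1 := lemI (p.r3 c3) (p.r2 (c1.mul_left c1) c2) (by
    rw [p.h'.ρ_mul c1 c1]
    exact sq_s (by rw [← p.h'.ρ_mul c1 c1]; exact p.r2 (c1.mul_left c1) c2)) (p.rinv (c1.mul_left c1) c3 (by
      rw [← map_mul, p.h.κ_act, ← map_inv, Hs.mk_inv, neg_zero]
      exact congrArg ψ (Hs.ext (e2 _) rfl)))
  have h2 := congrFun (p.v_zero (f3 ▸ p.star (f3 ▸ (p.h'.ρ_eq_one c3).1 h1))) 0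
  simp only [dl_apply, sub_sub_smul, x, norm_single hs] at h2
  exact a0_ne h2

theorem base : (ρ y).s = 1 := (s_cube (k := 1) p.g3).resolve_right fun hs => by
  obtain ⟨x, hx⟩ := p.norm0 fun f => p.l_der hs
  exact (p.cjx x).not_der0 (by rwa [p.ρ_cjx]) hx

theorem fix_fx (i : Fin 3) : ρ y • (Pi.single i (SL.fx ((ρ y).m i)) : V) = Pi.single i (SL.fx ((ρ y).m i)) :=
  smul_L0 p.base p.g3 (by simpa using single_L0 (ρ y) i 1)

theorem sub_fx {i : Fin 3} (h : (ρ y).m i ≠ 1) : ∃ v : V, v - ρ y • v = Pi.single i (SL.fx ((ρ y).m i)) :=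
  (exists_sub_L0 p.base p.g3 (by simpa using single_L0 (ρ y) i 1) fun j e =>
    Pi.single_eq_of_ne (fun c : j = i => h (c ▸ e)) _).imp fun _ e => e.1

theorem m_ne0 (hl : l y = 0) (i : Fin 3) : (ρ y).m i ≠ 1 := fun e =>
  p.nz (p.h.key p.cj (i := i) (fun a => (p.h.commute_iff p.cm).2 ⟨fix_single p.base e a, by simp [hl]⟩) (by
    rintro _ ⟨u, rfl⟩
    refine Loc3.comm_of_conj (p.h.conj_κ ⟨p.cm, hl⟩ ?_)
    rw [sgQ_coe, conj_sg, p.base]; simp [e]))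

theorem two {i k : Fin 3} (n : i ≠ k) (hi : ∀ a, l y (Pi.single i a) = 0) (hk : ∀ a, l y (Pi.single k a) = 0) :
    ψ ⟨Pi.single i (SL.fx ((ρ y).m i)), 0⟩ ∈ ψ'.range ∨ ψ ⟨Pi.single k (SL.fx ((ρ y).m k)), 0⟩ ∈ ψ'.range := by
  have a1 : Commute (ψ ⟨Pi.single i (SL.fx ((ρ y).m i)), 0⟩) y := p.comm_y.2 ⟨p.fix_fx i, hi _⟩
  have a2 : Commute (ψ ⟨Pi.single k (SL.fx ((ρ y).m k)), 0⟩) y := p.comm_y.2 ⟨p.fix_fx k, hk _⟩
  have b1 := (comm_rr p.h p.cm p.base hi).symm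
  have b2 := (comm_rr p.h p.cm p.base hk).symm
  exact (lemT (p.r3 a1) (p.r3 a2) (p.r2 b1 (rr_sq κ i)) (p.r2 b2 (rr_sq κ k))
    (p.h'.ρ_comm b1 b2 (rr_comm κ _ k)) (p.rinv b1 a1 (rr_inv p.h _ _))
    (p.h'.ρ_comm b2 a1 (p.h.ψ_rr.2 (Pi.single_eq_of_ne n.symm _)).symm) (p.rinv b2 a2 (rr_inv p.h _ _))).imp
    (p.h'.ρ_eq_one a1).1 (p.h'.ρ_eq_one a2).1

omit p in
theorem eq_gam {f : V} (hf : ρ y • f = f) (c : l y f ≠ 0) (v : V) (k : F3) :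
    ∃ w, ψ ⟨v - ρ y • v, k⟩ = gam ψ (ρ y) (l y) w := by
  refine ⟨v + ((-l y v - om v (ρ y • v) - k) / l y f) • f, ?_⟩
  have e1 := om_fix hf v
  rw [om_sub_left, sub_eq_zero] at e1
  simp only [gam, smul_add, smul_f3, hf, map_add, map_f3, om_add_left, om_add_right,
    om_smul_left, om_smul_right, om_self, om_swap f (ρ y • v), e1, smul_eq_mul]
  congr 2
  · abel
  · have := Fact.mk Nat.prime_three
    field_simp
    ring

theorem star2 {f : V} (hf : ρ y • f = f) (c : l y f ≠ 0) {v : V} {k : F3}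
    (h : ψ ⟨v - ρ y • v, k⟩ ∈ ψ'.range) : ψ ⟨v - ρ y • v, k⟩ = 1 := by
  obtain ⟨w, e⟩ := eq_gam (ψ := ψ) hf c v k
  rw [e] at h ⊢
  exact p.star h

/-- the action of `Q ⊓ C(y)` on `Q'` -/
def R : pre (Fx (ρ y) ⊓ (l y).ker) →* Wr :=
  MonoidHom.mk' (fun c => ρ' (ψ c)) fun a b => by
    rw [coe_mul, map_mul, p.h'.ρ_mul (p.comm_y.2 a.2) (p.comm_y.2 b.2)]

theorem ker_one {f : V} (hf : ρ y • f = f) (c : l y f ≠ 0) {u : pre (Fx (ρ y) ⊓ (l y).ker)}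
    (hu : u ∈ p.R.ker) (e : om u.1.v f = 0) : u = 1 := by
  have u1 : ψ u ∈ ψ'.range := (p.h'.ρ_eq_one (p.comm_y.2 u.2)).1 hu
  have h1 : ∀ w ∈ Fx (ρ y) ⊓ (l y).ker, om u.1.v w = 0 := fun w hw => by
    have h1 := mul_mem u1 (p.h'.conj_mem ((p.comm_y (x := ⟨w, 0⟩)).2 hw) (inv_mem u1))
    rw [← mul_assoc, ← mul_assoc, ← map_inv, ← map_inv, ← map_mul, ← map_mul, ← map_mul, Hs.comm] at h1
    have h2 := p.h.toHS.eq_one p.symm.nQ (p.h.mem_zp.2 rfl) h1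
    exact neg_eq_zero.1 (congrArg Hs.c (p.h.inj (h2.trans (map_one ψ).symm)))
  obtain ⟨w, hw⟩ := perp_fix (g := ρ y) (u := u.1.v) fun f' hf' => by
    have := h1 (f' - (l y f' / l y f) • f) ⟨by
      change ρ y • _ = _
      rw [smul_sub, smul_f3, hf, hf'], by
      have := Fact.mk Nat.prime_three
      change l y _ = 0
      rw [map_sub, map_f3, smul_eq_mul, div_mul_cancel₀ _ c, sub_self]⟩
    rwa [om_sub_right, om_smul_right, e, mul_zero, sub_zero] at this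
  have e2 : u.1 = ⟨w - ρ y • w, u.1.c⟩ := Hs.ext hw rfl
  rw [e2] at u1
  exact Subtype.ext (p.h.inj (by rw [e2, p.star2 hf c u1]; simp))

theorem card_R : Nat.card (Fx (ρ y)) ≤ 27 * Nat.card p.R.ker :=
  (card_C _ _).trans (card_le27 (fun _ => Subtype.ext (Hs.cube _)) p.R)

end

theorem m_ne (j : Fin 3) : (ρ y).m j ≠ 1 := fun e => by
  by_cases hN : ∀ f, ρ y • f = f → l y f = 0
  · obtain ⟨x, hx⟩ := p.norm0 hN
    exact (p.cjx x).m_ne0 hx j (by rwa [p.ρ_cjx])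
  push Not at hN
  obtain ⟨f, hf, c⟩ := hN
  have h1 := p.card_R
  have h2 : Nat.card p.R.ker ≤ 3 := by
    simpa using Nat.card_le_card_of_injective (fun u : p.R.ker => om u.1.1.v f) fun a b e =>
      Subtype.ext (mul_inv_eq_one.1 (p.ker_one hf c (mul_mem a.2 (inv_mem b.2)) (by
        simp only [coe_mul, coe_inv, Hs.mul_v, Hs.inv_v, om_add_left, om_neg_left]
        exact add_neg_eq_zero.2 e)))
  rw [card_Fx p.base p.g3, Fin.prod_univ_three] at h1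
  obtain ⟨i, k, hi, hk, hik, -⟩ := fin3 j
  have h3 : ∀ i, i ≠ j → (ρ y).m i ≠ 1 := fun i hi e' => by
    have : 243 ≤ 27 * Nat.card p.R.ker := by
      refine le_trans ?_ h1
      fin_cases i <;> fin_cases j <;> simp at hi e e' <;> simp only [e, e', if_true] <;> split_ifs <;> norm_num
    omega
  have h4 : ∀ i, i ≠ j → l y (Pi.single i (SL.fx ((ρ y).m i))) = 0 := fun i hi => by
    by_contra c'
    obtain ⟨v, hv⟩ := p.sub_fx (h3 i hi)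
    have h5 : p.R.ker = ⊥ := eq_bot_iff.2 fun u hu => p.ker_one (p.fix_fx i) c' hu (by
      rw [om_swap, ← hv, om_fix u.2.1, neg_zero])
    rw [h5, card_bot] at h1
    revert h1
    fin_cases j <;> simp at e <;> simp only [e, if_true] <;> split_ifs <;> norm_num
  obtain ⟨u, hu⟩ := exists_dual (l y)
  have h5 : ∀ f', ρ y • f' = f' → om (Pi.single i (u i) + Pi.single k (u k)) f' = 0 := fun f' hf' => by
    have : ∀ i, i ≠ j → om (Pi.single i (u i)) f' = 0 := fun i hi => by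
      obtain ⟨a, ha⟩ := (SL.fix_iff _ (m_cube p.g3 p.base i) (h3 i hi) (f' i)).1 (by
        rw [← base_smul p.base, hf'])
      have := h4 i hi
      rw [hu, om_single_right] at this
      rw [om_single_left, ha, o2_smul_right, this, mul_zero]
    rw [om_add_left, this i hi, this k hk, add_zero]
  obtain ⟨x, hx⟩ := p.norm h5
  have q := p.cjx x
  have h6 : ∀ i, i ≠ j → ψ ⟨Pi.single i (SL.fx ((ρ (ψ x * y * (ψ x)⁻¹)).m i)), 0⟩ ∉
      ((MulAut.conj (ψ x)).toMonoidHom.comp ψ').range := fun i hi m => by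
    obtain ⟨v, hv⟩ := q.sub_fx (i := i) (by rw [p.ρ_cjx]; exact h3 i hi)
    rw [← hv] at m
    have := q.star2 (f := f) (by rwa [p.ρ_cjx]) (by rwa [hx, h5 f hf, sub_zero]) m
    rw [hv] at this
    exact SL.fx_ne _ (by simpa using congrFun (p.v_zero this) i)
  refine (q.two hik (fun a => ?_) fun a => ?_).elim (h6 i hi) (h6 k hk) <;>
    simp [hx, hu, om_single_right, hik, hik.symm]

theorem l_fix {f : V} (hf : ρ y • f = f) : l y f = 0 := by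
  by_contra c
  have h1 : ∀ u : pre (Fx (ρ y) ⊓ (l y).ker), (p.R u).s = 1 ∧ (u ≠ 1 → (p.R u).m 0 ≠ 1) := fun u => by
    by_cases u1 : u = 1
    · exact ⟨by rw [u1, map_one]; rfl, fun n => absurd u1 n⟩
    obtain ⟨v, hv, -⟩ := exists_sub_L0 p.base p.g3 (fix_L0 p.base p.g3 p.m_ne u.2.1) fun i e => absurd e (p.m_ne i)
    obtain ⟨w, hw⟩ := eq_gam (ψ := ψ) hf c v u.1.c
    have e0 : ψ u = gam ψ (ρ y) (l y) w := hw ▸ congrArg ψ (Hs.ext hv.symm rfl)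
    have cu : Commute (ψ u) y := p.comm_y.2 u.2
    have e := p.gam_mul ⟨w, 0⟩
    rw [← e0] at e
    have q : Pr y ψ' ρ' l' κ' (ψ ⟨w, 0⟩ * y * (ψ ⟨w, 0⟩)⁻¹) _ _ _ _ X :=
      ⟨p.h', p.h'.cj _, p.wc', p.wc'.cj _, isConj_iff.2 ⟨_, rfl⟩,
        e ▸ cu.mul_left (Commute.refl y), fun c => u1 (Subtype.ext (p.h.inj (by
          have := zpowers_le_of_mem p.h'.zmem (((zpowers y).mul_mem_cancel_right (mem_zpowers y)).1 (e ▸ c))
          rw [e0] at this ⊢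
          simpa using p.star this)))⟩
    have h1 := q.base
    have h2 := q.m_ne 0
    rw [← e, p.h'.ρ_mul cu (Commute.refl y), p.h'.ρ_z, mul_one] at h1 h2
    exact ⟨h1, fun _ => h2⟩
  have h2 := three_le (Hs.isPGroup.to_subgroup _) (ev p.R (fun u => (h1 u).1) 0) card_sl3
  have h3 := card_C (Fx (ρ y)) (l y)
  rw [card_Fx p.base p.g3, Fin.prod_univ_three, if_neg (p.m_ne 0), if_neg (p.m_ne 1), if_neg (p.m_ne 2)] at h3
  obtain ⟨u, hu, u1⟩ := exists_ne_one (K := (ev p.R (fun u => (h1 u).1) 0).ker) (by omega)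
  exact (h1 u).2 u1 hu

theorem two' {i k : Fin 3} (n : i ≠ k) : (∃ a ≠ 0, ∃ c, ψ ⟨Pi.single i a, c⟩ ∈ ψ'.range) ∨
    ∃ a ≠ 0, ∃ c, ψ ⟨Pi.single k a, c⟩ ∈ ψ'.range := by
  obtain ⟨x, hx⟩ := p.norm0 fun f => p.l_fix
  have : ∀ (i : Fin 3) (a : W2), a ≠ 0 → ψ ⟨Pi.single i a, 0⟩ ∈ ((MulAut.conj (ψ x)).toMonoidHom.comp ψ').range →
      ∃ a ≠ 0, ∃ c, ψ ⟨Pi.single i a, c⟩ ∈ ψ'.range := fun i a ha ⟨w, hw⟩ =>
    ⟨a, ha, (x⁻¹ * ⟨Pi.single i a, 0⟩ * x).c, w, by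
      rw [show (⟨Pi.single i a, (x⁻¹ * ⟨Pi.single i a, 0⟩ * x).c⟩ : Hs) = x⁻¹ * ⟨Pi.single i a, 0⟩ * x from Hs.ext (by simp) rfl, map_mul,
        map_mul, ← hw]
      simp [mul_assoc]⟩
  exact ((p.cjx x).two n (fun _ => by simp [hx]) fun _ => by simp [hx]).imp (this i _ (SL.fx_ne _))
    (this k _ (SL.fx_ne _))

theorem rho_mem (hl : l y = 0) (k : Fin 3) (c : F3) : ψ ⟨Pi.single k (c • SL.fx ((ρ y).m k)), 0⟩ ∈ ψ'.range := by
  have e0 : ∀ c : F3, ψ ⟨Pi.single k (c • SL.fx ((ρ y).m k)), 0⟩ =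
      ψ ⟨Pi.single k (SL.fx ((ρ y).m k)), 0⟩ ^ c.val := fun c => by
    rw [← map_pow, Hs.pow_val, mul_zero, Pi.single_smul]
  refine e0 c ▸ pow_mem (by_contra fun n => n ?_) _
  have a1 : Commute (ψ ⟨Pi.single k (SL.fx ((ρ y).m k)), 0⟩) y := p.comm_y.2 ⟨p.fix_fx k, by simp [hl]⟩
  have b1 := (comm_rr p.h p.cm p.base (i := k) fun _ => by simp [hl]).symm
  have h1 : ∀ a : Fin 3, (∃ w ≠ 0, ∃ c, ψ' ⟨Pi.single a w, c⟩ ∈ ψ.range) → (ρ' (rr κ k)).s a = a := by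
    rintro a ⟨w, hw, c, x, hx⟩
    have m : ψ x ∈ ψ'.range := ⟨_, hx.symm⟩
    obtain ⟨e, he⟩ := fix_L0 p.base p.g3 p.m_ne (p.comm_y.1 (hx ▸ p.h'.cψ _)).1 k
    have h2 := mul_mem (p.h'.conj_mem b1 m) (inv_mem m)
    rw [rr_act p.h, he, e0] at h2
    have h3 : x.v k = 0 := by
      obtain rfl | rfl | rfl := (by decide : ∀ e : F3, e = 0 ∨ e = 1 ∨ e = 2) e
      · rw [he, zero_smul]
      · exact absurd (by simpa [ZMod.val_one] using h2) n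
      · refine absurd ?_ n
        have := pow_mem h2 2
        rwa [← pow_mul, show (2 : F3).val * 2 = 3 + 1 from rfl, pow_succ, ← map_pow, Hs.cube, map_one,
          one_mul] at this
    exact (s_eq_of_single hw ((p.h'.commute_iff b1).1 (hx ▸ (p.h.ψ_rr.2 h3).symm)).1).1
  have h2 : ∀ s : Equiv.Perm (Fin 3), (∀ a b, a ≠ b → s a = a ∨ s b = b) → s = 1 := by decide
  exact (p.h'.ρ_eq_one a1).1 (lemI (p.r3 a1) (p.r2 b1 (rr_sq κ k))
    (h2 _ fun a b n => (p.symm.two' n).imp (h1 a) (h1 b)) (p.rinv b1 a1 (rr_inv p.h _ _)))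

theorem false0 (hl : l y = 0) : False := by
  have h1 : ∀ w ∈ L0 (ρ y), ψ ⟨w, 0⟩ ∈ ψ'.range := fun w hw => by
    have e : ∀ i, ψ ⟨Pi.single i (w i), 0⟩ ∈ ψ'.range := fun i => by
      obtain ⟨c, hc⟩ := hw i
      exact hc ▸ p.rho_mem hl i c
    have := mul_mem (mul_mem (e 0) (e 1)) (e 2)
    rw [← map_mul, ← map_mul, Hs.mk_mul, Hs.mk_mul, ← eq_sum] at this
    simpa [om_single_right] using this
  have h2 : ∀ i, ∃ a : W2, a - (ρ y).m i • a ≠ 0 := fun i =>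
    (SL.exists_sub _ (m_cube p.g3 p.base i) (p.m_ne i) 1).imp fun a e => by
      rw [e, one_smul]; exact SL.fx_ne _
  choose a ha using h2
  have h3 : ∀ e : Fin 3 → F3, ∃ t : Fin 3 → F3, (∃ i, t i ≠ 0) ∧ ∑ i, t i * (t i * e i) = 0 := by decide +kernel
  obtain ⟨t, ⟨i, hi⟩, ht⟩ := h3 fun i => o2 (a i) ((ρ y).m i • a i)
  have e1 : ∀ i, (ρ y • (fun i => t i • a i : V)) i = t i • (ρ y).m i • a i := fun i => by
    rw [base_smul p.base]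
    exact map_f3 (DistribSMul.toAddMonoidHom W2 ((ρ y).m i)) _ _
  have e2 : gam ψ (ρ y) (l y) (fun i => t i • a i) =
      ψ ⟨(fun i => t i • a i) - ρ y • (fun i => t i • a i : V), 0⟩ := by
    simp only [gam, hl, om, e1, o2_smul_left, o2_smul_right, ht]; simp
  have := congrFun (p.v_zero (e2 ▸ p.star (e2 ▸ h1 _ (sub_L0 p.base p.g3 _)))) i
  simp only [Pi.sub_apply, e1, ← smul_sub] at this
  exact ha i ((smul_eq_zero.1 this).resolve_left hi)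

theorem false : False :=
  let ⟨x, hx⟩ := p.norm0 fun _ => p.l_fix
  (p.cjx x).false0 hx

end Pr

end Wk

/-- Proof. Copy the set-up of `F22L/Weak` (structure `Pr` with two `Bs` frames `(z,ψ,ρ,l,κ)`,
`(y,ψ',ρ',l',κ')`, no `xd`; the lemmas `symm nQ g3 gam_mul gam_conj star fix_of_star comm_y l_der` do
not use `xd`). `g = ρ y ≠ 1`, `g³ = 1`, `γ v = gam ..`, star: `γ v ∈ Q' → γ v = 1`. A pair `(z,y)` may be
replaced by `(z, ψ x * y * (ψ x)⁻¹)` (conjugate the primed frame, `Bs.cj`, `WC.cj`); this changes `l y` by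
`v ↦ -om (x - g•x) (g•v)`; as `(Fx g)^⊥ = im (1-g)`, if `l y = 0` on `Fx g` we may assume `l y = 0`
(`y ∈ H0`); more generally we can kill `l y` on the blocks `i` with `g.m i ≠ 1`, `l y (single i (fx (g.m i))) = 0`.
(P) `g` a derangement: `l_der`, so wlog `y ∈ H0`. Some `b ∈ B8` commuting with `g` has
`b² = r0 r1 r2` (diagonal: `b = sg 0 qi * g (sg 0 qi) g⁻¹ * g² (sg 0 qi) g⁻²`), `κ b` commutes with `y`
(`conj_κ`), `t = (κ b)²` inverts all `ψ⟨v,0⟩`, `(ρ' t).s = 1` (`sq_s`); by `lemI` `ψ⟨f,0⟩ ∈ Q'` for `f ∈ Fx g`.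
`γ (x - g•x) = ψ⟨x + g•x + g•g•x, 0⟩` (see `f1 f2` in `Pr.not_der`), star and `norm_single`: contradiction.
So `g` is base; `I = {i | g.m i ≠ 1}`, `f i = fx (g.m i)`, `ρᵢ = ψ⟨single i (f i), 0⟩`,
`L_I = im (1-g) = ⊕_{i∈I} F3 f i`, `C = Q ⊓ C(y) = pre (Fx g ⊓ ker (l y))`, `B = C ⊓ Q'`.
(S) `l y = 0` on `Fx g`: wlog `y ∈ H0`; `I` is everything (`Bs.key`); all `rr κ i` commute with `y`
(`conj_rr`); by `lemT` (for `ρ' (rr κ i)`, `ρ' ρᵢ`) at least two of the `ρᵢ` lie in `Q'`.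
(N) `l y f₀ ≠ 0`, `f₀ ∈ Fx g`: `γ` runs through all `ψ⟨v - g•v, c⟩` (see `Pr.l_fix`), so
`B ∩ ψ⟨L_I, *⟩ = 1`. For `u ∈ B`, `c ∈ C`: `[u,c] ∈ ⟨z⟩ ∩ Q' = 1`; so `u ↦ om u.v f₀` is injective on `B`
(kernel: `u.v ⊥ Fx g`, so `u.v ∈ L_I`), `|B| ≤ 3`, and `B = 1` if `f₀` can be chosen in `L_I`.
`|C| = |Fx g| = 3^(6-|I|) ≤ 27 |B|` (`card_le27` for `ρ'` on `C`). `|I| = 1` is impossible. `|I| = 2`: `|B| = 3`,
so `l y = 0` on `L_I`; normalise `l y = 0` on both blocks `i, k ∈ I`; then `y = ψ w * h`, `h ∈ H0`, `w`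
supported on the third block, so `rr κ i`, `rr κ k`, `ρᵢ`, `ρₖ` commute with `y`, `ρᵢ, ρₖ ∉ Q'`: `lemT`.
So for EVERY pair `g` is base with all `g.m i ≠ 1`. (N) with `|I| = 3`: `B = 1`, `|C| = 27`, each `d ∈ C` is a
`γ v`, so `(y, d*y)` is a pair for `d ≠ 1` and `(ρ' d).m 0 ≠ 1`; but `ev .. 0` on `C` has a kernel of order
`≥ 9` (`three_le`). So every pair is of type (S), also `(y,z)`: (un-normalised form of (S): for two indices
`a ≠ b` there is `c` with `ψ'⟨single a w, c⟩ ∈ Q`, `w ≠ 0`). Normalise `y ∈ H0`; `B ≤ A = pre (L0 g)`.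
If `ρₖ ∉ Q'`: `B` is normalised by `rr κ k` and `z ∉ B`; for `u = ψ⟨v,c⟩ ∈ B`, `[rr κ k, u] = ψ⟨single k (v k), 0⟩ ∈ B`
is a power of `ρₖ`, so `v k = 0`: `rr κ k` centralises `B`, which contains the two elements
`ψ'⟨single a _, _⟩`, `ψ'⟨single b _, _⟩`; so `(ρ' (rr κ k)).s` fixes `a, b`, is `1`, and `lemI` gives `ρₖ ∈ Q'`.
So all `ρᵢ ∈ Q'`, i.e. `ψ⟨w,0⟩ ∈ Q'` for `w ∈ L0 g`. `γ v = ψ⟨v - g•v, -om v (g•v)⟩`, and
`om v (g•v) = ∑ o2 (v i) (g.m i • v i)`; choose `a i` with `a i - g.m i • a i ≠ 0`, `e i = o2 (a i) (g.m i • a i)`,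
and `t ≠ 0` in `F3³` with `∑ (t i)² e i = 0` (decide); `v i = t i • a i` contradicts star. -/
theorem Bs.not_wc (h : Bs z ψ ρ l X κ) {y : G} (cj : IsConj z y) (c : Commute y z)
    (n : y ∉ zpowers z) : ¬ WC z ψ := fun wc => by
  obtain ⟨g, rfl⟩ := isConj_iff.1 cj
  exact Wk.Pr.false ⟨h, h.cj g, wc, wc.cj g, cj, c, n⟩

end Cfsg.Agent.E63
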