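import Cfsg.Agent.E63.Fr2
import Cfsg.Agent.E63.B1

/-! Reflections on the frame. -/

set_option autoImplicit false

namespace Cfsg.Agent.E63

open Subgroup Cfsg.Agent.F22L Cfsg.Agent.F22L.Wr Cfsg.Agent.PLocal.Amb Cfsg.Agent.Loc3

namespace AA

theorem bb_rf (y x u : F5) : bb (rf y x) u = bb x u + bb x y * bb y u := by
  simp only [bb, rf, Prod.fst_add, Prod.snd_add, Prod.smul_fst, Prod.smul_snd, smul_eq_mul]; ring

theorem rf_of_perp {y x : F5} (e : bb x y = 0) : rf y x = x := by rw [rf, e, zero_smul, add_zero]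

theorem rf_comm {y u : F5} (e : bb u y = 0) (x : F5) : rf y (rf u x) = rf u (rf y x) := by
  rw [rf, bb_rf, e, rf, rf, bb_rf, bb_comm y u, e, rf]
  simp only [mul_zero, add_zero]
  abel

theorem bb_rf_rf {y : F5} (e : qq y = 1) (x x' : F5) : bb (rf y x) (rf y x') = bb x x' := by
  rw [bb_rf, bb_comm x (rf y x'), bb_rf, bb_comm y (rf y x'), bb_rf, show bb y y = 1 from e,
    bb_comm x' x, bb_comm y x]
  linear_combination Hs.three (bb x y * bb x' y)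

set_option synthInstance.maxSize 4000 in
theorem sing_dec : ∀ y, Sing y → y = ez ∨ y = -ez ∨ ∃ u, Root u ∧ (rf u ez = y ∨ rf u (-ez) = y) := by
  decide +kernel

set_option synthInstance.maxSize 4000 in
theorem root_dec : ∀ a, Root a → a = er 1 ∨ ∃ u, Root u ∧
    (rf u (er 1) = a ∨ ∃ u', Root u' ∧ rf u' (rf u (er 1)) = a) := by
  decide +kernel

set_option synthInstance.maxSize 4000 in
theorem sing_dec1 : ∀ y, Sing y → sc y 1 = 0 → y = ez ∨ ez = -y ∨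
    ∃ u, Root u ∧ sc u 1 = 0 ∧ (rf u ez = y ∨ rf u ez = -y) := by
  decide +kernel

theorem s_two : ∀ (s : Equiv.Perm (Fin 3)) (i : Fin 3), (∀ k, k ≠ i → s k = k) → s i = i := by
  decide

variable {G : Type*} [Group G] {z : G} {ψ : Hs →* G} {ρ : G → Wr} {l : G → V →+ F3}
  {X : Subgroup Wr} {κ : B8 →* G} {j : G}

theorem rho_cube (i : Fin 3) : rho ψ i ^ 3 = 1 := by rw [rho, ← map_pow, Hs.cube, map_one]

theorem fix_of_rho (h : Bs z ψ ρ l X κ) {c : G} (cz : Commute c z) {k : Fin 3}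
    (e : Commute c (rho ψ k)) : (ρ c).s k = k ∧ (ρ c).m k • a0 = a0 :=
  s_eq_of_single a0_ne ((h.commute_iff cz).1 e).1

end AA

open AA

variable {G : Type*} [Group G] [Finite G] {z : G} {ψ : Hs →* G} {ρ : G → Wr} {l : G → V →+ F3}
  {X : Subgroup Wr} {κ : B8 →* G} {j : G}

namespace Fr

variable (h : Fr z ψ ρ l X κ j)
include h

omit [Finite G] in
theorem full {x : Hs} (e : ∀ i, x.v i ≠ 0) : IsConj z (ψ x) := by
  obtain ⟨g, -, hg⟩ := h.toBs.full_conj (x := ⟨fun i => sc (0, 1, 1, 1, 0) i • a0, 0⟩) (x' := x)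
    (by decide) e
  refine ((h.zt (0, 1, 1, 1, 0) (by decide)).2 (by decide)).trans (isConj_iff.2 ⟨g, ?_⟩)
  rw [← hg, io, show (bc (0, 1, 1, 1, 0)).val = 0 from Eq.refl _, pow_zero, mul_one]

omit [Finite G] in
theorem RH {c : G} {i : Fin 3} (cz : Commute c z) (cρ : ∀ k, k ≠ i → Commute c (rho ψ k))
    (cj : Commute c j) (c3 : ρ c ^ 3 = 1) (e : rr κ i * c * (rr κ i)⁻¹ = c⁻¹) :
    c ∈ zpowers (rho ψ i) := by
  have b := h.toBs
  have h1 : Commute (ρ c) (r i) := r_comm (s_two _ i fun k hk => (fix_of_rho b cz (cρ k hk)).1)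
  have h2 := congrArg ρ e
  rw [h.ρ_mul ((b.rr_z i).mul_left cz) (b.rr_z i).inv_left, h.ρ_mul (b.rr_z i) cz,
    h.ρ_inv (b.rr_z i), h.ρ_inv cz, b.ρ_rr, conj_of_comm h1.symm, eq_inv_iff_mul_eq_one] at h2
  have h3 : ρ c = 1 := by rwa [pow_three, h2, mul_one] at c3
  obtain ⟨x, rfl⟩ := h.ker c cz h3
  rw [rr, b.κ_act, ← map_inv, h.inj.eq_iff, Hs.ext_iff] at e
  have e1 : ∀ k, k ≠ i → x.v k = 0 := fun k hk => by
    have : (r i • x.v) k = -x.v k := congrFun e.1 k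
    rw [r_smul, if_neg hk] at this
    revert this; generalize x.v k = a; revert a; decide
  have e2 : x.c = 0 := by
    have : x.c = -x.c := e.2
    revert this; generalize x.c = a; revert a; decide
  have e3 := congrFun ((h.commute_iff h.jz).1 cj.symm).1 i
  rw [h.jρ, dl0_smul] at e3
  obtain ⟨t, ht⟩ : ∃ t : F3, x.v i = t • a0 := by
    revert e3; generalize x.v i = a; revert a; decide
  have : x = (⟨Pi.single i a0, 0⟩ : Hs) ^ t.val := by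
    rw [Hs.pow_val]
    refine Hs.ext (funext fun k => ?_) (by simpa using e2)
    by_cases c : k = i
    · subst c; simpa using ht
    · simp [e1 k c, c]
  rw [this, map_pow]
  exact pow_mem (mem_zpowers _) _

theorem adj {n : G} {w : F5 → F5} (a : Act ψ j n w) (i : Fin 3)
    (e : ∀ x, w (rf (er i) x) = rf (er i) (w x)) :
    ∃ t : ℕ, Act ψ j (rho ψ i ^ t * n) w ∧ Commute (rho ψ i ^ t * n) (rr κ i) := by
  have b := h.toBs
  have wi : Function.Injective w := fun x y c => h.toBj.io_inj (by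
    have := (a x).trans ((congrArg _ c).trans (a y).symm)
    simpa using this)
  have r2 := rr_sq κ i
  have ri : (rr κ i)⁻¹ = rr κ i := inv_eq_of_mul_eq_one_right r2
  obtain ⟨c, hc⟩ : ∃ c, n * rr κ i * n⁻¹ = rr κ i * c := ⟨_, (mul_inv_cancel_left _ _).symm⟩
  have h1 : ∀ x, Commute c (io ψ j x) := fun x => by
    obtain ⟨x, rfl⟩ := Finite.injective_iff_surjective.1 wi x
    have h0 : n * rr κ i * n⁻¹ * io ψ j (w x) * (n * rr κ i * n⁻¹)⁻¹ =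
        rr κ i * io ψ j (w x) * (rr κ i)⁻¹ := by
      rw [h.toBj.act_rr, ← e, ← a, ← a, ← h.toBj.act_rr]; group
    rw [hc] at h0
    refine comm_of_conj ?_
    calc c * io ψ j (w x) * c⁻¹ = (rr κ i)⁻¹ * (rr κ i * c * io ψ j (w x) * (rr κ i * c)⁻¹) * rr κ i := by
          group
      _ = _ := by rw [h0]; group
  have cz : Commute c z := h.toBj.io_ez ▸ h1 ez
  have cρ : ∀ k, Commute c (rho ψ k) := fun k => Bj.io_er (j := j) k ▸ h1 (er k)
  have h2 : rr κ i * c * (rr κ i)⁻¹ = c⁻¹ := by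
    rw [eq_inv_iff_mul_eq_one, ri, mul_assoc, ← hc, conj_mul, r2]; simp
  have h3 : (ρ c).s = 1 := Equiv.ext fun k => (fix_of_rho b cz (cρ k)).1
  have h4 : c ∈ zpowers (rho ψ i) := h.RH cz (fun k _ => cρ k) (h.toBj.io_ej ▸ h1 ej)
    (Wr.ext (by rw [pow_s, h3]; simp) (funext fun k => by
      rw [pow_m h3]; exact SL.cube_of_fix _ _ a0_ne (fix_of_rho b cz (cρ k)).2)) h2
  have c3 : c ^ 3 = 1 := by
    obtain ⟨k, rfl⟩ := h4
    rw [← zpow_natCast, ← zpow_mul, mul_comm, zpow_mul, zpow_natCast, rho_cube, one_zpow]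
  obtain ⟨t, ht⟩ := mem_powers_iff_mem_zpowers.2 (inv_mem h4)
  replace ht : rho ψ i ^ t = c⁻¹ := ht
  refine ⟨t, fun x => ?_, comm_of_conj ?_⟩
  · rw [ht, show c⁻¹ * n * io ψ j x * (c⁻¹ * n)⁻¹ = c⁻¹ * (n * io ψ j x * n⁻¹) * c⁻¹⁻¹ by group, a,
      conj_of_comm (h1 _).inv_left]
  · rw [ht, show c⁻¹ * n * rr κ i * (c⁻¹ * n)⁻¹ = c⁻¹ * (n * rr κ i * n⁻¹) * c by group, hc, ← h2]
    calc _ = rr κ i * c ^ 3 := by rw [pow_three]; group
      _ = _ := by rw [c3, mul_one]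

theorem rflK {y : F5} (hy : Root y) : ∃ n, AK ψ κ j n (rf y) := by
  obtain ⟨n, a⟩ := h.rfl y hy.1
  have e : bb (er 0) y = 0 := (bb_er 0 y).trans hy.2
  obtain ⟨t, h1, h2⟩ := h.adj a 0 (rf_comm e)
  exact ⟨_, h1, h2, rf_of_perp e, bb_rf_rf hy.1⟩

theorem rflK1 {y : F5} (hy : Root y) (e : sc y 1 = 0) :
    ∃ n, AK ψ κ j n (rf y) ∧ Commute n (rr κ 1) := by
  obtain ⟨n, a⟩ := h.rflK hy
  obtain ⟨t, h1, h2⟩ := h.adj a.act 1 (rf_comm ((bb_er 1 y).trans e))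
  refine ⟨_, ⟨h1, Commute.mul_left (Commute.pow_left ?_ _) a.cr, a.fix, a.iso⟩, h2⟩
  exact h.toBs.ψ_rr.2 (by simp)

theorem mv {y : F5} (hy : Sing y) : ∃ n w, AK ψ κ j n w ∧ w ez = y := by
  have k : ∃ n w, AK ψ κ j n w ∧ w ez = -ez := by
    obtain ⟨n1, a1⟩ := h.rflK (y := (-1, 0, 0, 0, 1)) (by decide)
    obtain ⟨n2, a2⟩ := h.rflK (y := (1, 0, 1, 1, 1)) (by decide)
    obtain ⟨n3, a3⟩ := h.rflK (y := (1, 0, -1, -1, 1)) (by decide)
    exact ⟨_, _, a3.mul (a2.mul a1), by decide⟩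
  rcases sing_dec y hy with rfl | rfl | ⟨u, hu, e | e⟩
  · exact ⟨1, id, AK.one, Eq.refl _⟩
  · exact k
  · obtain ⟨n, a⟩ := h.rflK hu
    exact ⟨n, _, a, e⟩
  · obtain ⟨n, a⟩ := h.rflK hu
    obtain ⟨n', w, a', e'⟩ := k
    exact ⟨_, _, a.mul a', by rw [Function.comp, e', e]⟩

theorem mv1 {a : F5} (ha : Root a) : ∃ n w, AK ψ κ j n w ∧ w (er 1) = a := by
  rcases root_dec a ha with rfl | ⟨u, hu, e | ⟨u', hu', e⟩⟩
  · exact ⟨1, id, AK.one, Eq.refl _⟩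
  · obtain ⟨n, a⟩ := h.rflK hu
    exact ⟨n, _, a, e⟩
  · obtain ⟨n, a⟩ := h.rflK hu
    obtain ⟨n', a'⟩ := h.rflK hu'
    exact ⟨_, _, a'.mul a, e⟩

theorem mv2 {y : F5} (hy : Sing y) (e : sc y 1 = 0) : ∃ n w, AK ψ κ j n w ∧ w (er 1) = er 1 ∧
    Commute n (rr κ 1) ∧ (w ez = y ∨ w ez = -y) := by
  rcases sing_dec1 y hy e with c | c | ⟨u, hu, e1, c⟩
  · exact ⟨1, id, AK.one, Eq.refl _, Commute.one_left _, Or.inl c.symm⟩
  · exact ⟨1, id, AK.one, Eq.refl _, Commute.one_left _, Or.inr c⟩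
  · obtain ⟨n, a, cn⟩ := h.rflK1 hu e1
    exact ⟨n, _, a, rf_of_perp ((bb_er 1 u).trans e1), cn, c⟩

theorem norm_TT {n : G} {w : F5 → F5} (a : AK ψ κ j n w) : n ∈ 𝐍[TT ψ j] := by
  refine mem_normalizer_of_cj_le (cj_le_iff_forall.2 fun g hg => ?_)
  obtain ⟨x, hx, rfl⟩ := h.toBj.mem_TT.1 hg
  exact h.toBj.mem_TT.2 ⟨w x, (a.sc0 x).trans hx, (a.act x).symm⟩

theorem norm_rho {n : G} (c : Commute n (rr κ 0)) (hn : n ∈ 𝐍[TT ψ j]) :
    n ∈ 𝐍[zpowers (rho ψ 0)] := by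
  have h1 : ∀ x, sc x 0 = 0 → Commute (n * rho ψ 0 * n⁻¹) (io ψ j x) := fun x hx => by
    obtain ⟨y, -, hy⟩ := h.toBj.mem_TT.1
      (inv_conj_mem_of_mem_normalizer hn (h.toBj.mem_TT.2 ⟨x, hx, Eq.refl _⟩))
    rw [comm_conj_iff, ← hy, ← Bj.io_er (j := j)]
    exact h.toBj.io_comm _ _
  have cz : Commute (n * rho ψ 0 * n⁻¹) z := h.toBj.io_ez ▸ h1 ez (Eq.refl _)
  have h2 : n * rho ψ 0 * n⁻¹ ∈ zpowers (rho ψ 0) := by
    refine h.RH cz (fun k hk => Bj.io_er (j := j) k ▸ h1 (er k) ?_) (h.toBj.io_ej ▸ h1 ej (Eq.refl _)) ?_ ?_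
    · revert k; decide
    · rw [← h.ρ_pow cz, conj_pow, rho_cube, mul_one, mul_inv_cancel, h.ρ_one]
    · rw [← conj_of_comm c, conj_inv, conj_mul, conj_mul, h.toBs.rr_rho, conj_inv]
  refine mem_normalizer_of_cj_le (cj_le_iff_forall.2 ?_)
  rintro _ ⟨k, rfl⟩
  rw [← conj_zpow]
  exact zpow_mem h2 k

end Fr

end Cfsg.Agent.E63
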