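import Cfsg.Agent.E63.ApiA
import Cfsg.Agent.E63.ApiB
import Cfsg.Agent.PLocal.Hyperplane

/-! The quaternion groups `R(y)`. -/

set_option autoImplicit false
set_option linter.unusedSectionVars false

namespace Cfsg.Agent.E63

open Subgroup Cfsg.Agent.F22L Cfsg.Agent.F22L.Wr Cfsg.Agent.PLocal.Amb Cfsg.Agent.Loc3

variable {G : Type*} [Group G] [Finite G] {z : G} {ψ : Hs →* G} {ρ : G → Wr} {l : G → V →+ F3}
  {X : Subgroup Wr} {κ : B8 →* G} {j : G}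

theorem sg_fixC {i : Fin 3} (a : SL) {v : V} (e : v i = 0) : sg i a • v = v := funext fun k => by
  rw [base_smul rfl, sg_m]
  by_cases c : k = i
  · subst c; rw [e, smul_zero]
  · rw [Pi.mulSingle_eq_of_ne c, one_smul]

theorem xs_Q8C : TT.XS SL.Q8 SL.ng :=
  ⟨SL.ng_mem, SL.ng_ne, SL.ng_sq, by decide +kernel, by decide +kernel, by decide +kernel,
    by decide +kernel⟩

theorem uu_powC : ∀ k : F3, k ≠ 0 → (uu ^ k.val) ^ 3 = 1 ∧ uu ^ k.val ≠ 1 := by decide +kernel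

theorem sl_fpfC : ∀ u a : SL, u ∈ SL.Q8 → a ^ 3 = 1 → a ≠ 1 → a * u * a⁻¹ = u → u = 1 ∨ u = SL.ng := by
  decide +kernel

theorem sing_exC : ∀ y, Sing y → ∃ x, sc x 0 = 0 ∧ bb x y ≠ 0 := by decide +kernel

theorem sing_decC : ∀ y : F5, sc y 0 = 0 →
    y = y.1 • ez + sc y 1 • er 1 + sc y 2 • er 2 + bc y • ej := by decide +kernel

theorem sing_kerC : ∀ a b c d : Multiplicative F3, ∃ y, Sing y ∧
    a ^ y.1.val * b ^ (sc y 1).val * c ^ (sc y 2).val * d ^ (bc y).val = 1 := by decide +kernel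

theorem one_of_copC {D : Subgroup G} (c : (Nat.card D).Coprime 3) {x : G} (hx : x ∈ D) (e : x ^ 3 = 1) :
    x = 1 :=
  (pow_eq_one_iff_of_coprime c).1 ⟨congrArg Subtype.val (pow_card_eq_one' (x := (⟨x, hx⟩ : D))), e⟩

theorem cj_RY_leC {n : G} (c : Commute n (rr κ 0)) {y y' : F5}
    (e : n * io ψ j y * n⁻¹ = io ψ j y') : cj(n, RY ψ κ j y) ≤ RY ψ κ j y' := by
  have e : cj(n, centralizer {rr κ 0} ⊓ centralizer {io ψ j y}) =
      centralizer {rr κ 0} ⊓ centralizer {io ψ j y'} := by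
    ext g
    rw [mem_cj, mem_inf, mem_inf, mem_cent, mem_cent, mem_cent, mem_cent, ← e]
    have a := comm_conj_iff (g := n⁻¹) (x := g) (a := rr κ 0)
    have b := comm_conj_iff (g := n⁻¹) (x := g) (a := io ψ j y)
    rw [inv_inv, conj_of_comm c] at a
    rw [inv_inv] at b
    rw [a, b]
  refine le_Op' (e ▸ cj_mono n (RY_le y)) ?_ ?_
  · rw [normalizer_cj, ← e]; exact cj_mono n (le_norm_Op' _ _)
  · rw [card_cj]; exact coprime_Op' _ _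

namespace Fr

variable (h : Fr z ψ ρ l X κ j)
include h

theorem κ_ψC (u : SL.Q8) {x : Hs} (hx : x.v 0 = 0) : Commute (κ (sgQ 0 u)) (ψ x) :=
  comm_of_conj (by rw [h.κ_act, sgQ_coe, sg_fixC _ hx])

theorem conj_RQC {a : G} (cz : Commute a z) (cr : Commute a (rr κ 0)) {u v : SL.Q8}
    (e : (ρ a).m 0 * u * ((ρ a).m 0)⁻¹ = v) : a * κ (sgQ 0 u) * a⁻¹ = κ (sgQ 0 v) := by
  have s := h.s_rr cz cr
  obtain ⟨x, b, hb, rfl, e'⟩ := h.toBs.dec cz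
  rw [← e'] at s e
  have c : Commute b (rr κ 0) := comm_of_conj (by rw [h.conj_rr hb, s])
  have hx : x.v 0 = 0 := h.toBs.ψ_rr.1 (by simpa using cr.mul_left c.inv_left)
  rw [show ψ x * b * κ (sgQ 0 u) * (ψ x * b)⁻¹ = ψ x * (b * κ (sgQ 0 u) * b⁻¹) * (ψ x)⁻¹ by group,
    h.conj_κ hb (y := sgQ 0 v) (by rw [sgQ_coe, sgQ_coe, conj_sg, s, e]),
    conj_of_comm (h.κ_ψC v hx).symm]

theorem RQ_injC : Function.Injective (κ.comp (sgQ 0)) := fun u v e => by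
  have := congrFun (congrArg (fun x : B8 => x.1.m) (h.κ_inj e)) 0
  exact Subtype.ext (by simpa [sgQ_coe, sg_m] using this)

theorem TT_centC (y : F5) : TT ψ j ≤ centralizer {rr κ 0} ⊓ centralizer {io ψ j y} := fun g hg => by
  obtain ⟨x, hx, rfl⟩ := h.mem_TT.1 hg
  exact ⟨mem_cent.2 (h.io_rr.2 hx), mem_cent.2 (h.io_comm x y)⟩

/-- For `d ∈ D`: `[d, ρᵢ] ∈ D ∩ Q = 1` (`i = 1,2`), so `s = 1`, `m i = uu^k` of order prime to 3, so `1`; `m 0 ∈ Q8`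
(`s1`); `d = ψ x * κ (sgQ 0 _)` with `x.v 0 = 0`, commuting factors; `d⁴ = ψ x` has order prime to 3. -/
theorem le_RQ {D : Subgroup G} (cr : ∀ d ∈ D, Commute d (rr κ 0)) (cz : ∀ d ∈ D, Commute d z)
    (hT : TT ψ j ≤ 𝐍[D]) (c : (Nat.card D).Coprime 3) : D ≤ RQ κ 0 := fun d hd => by
  have dz := cz d hd
  have h1 : ∀ i, i ≠ 0 → (ρ d).s i = i ∧ (ρ d).m i • a0 = a0 := fun i hi => by
    have m : rho ψ i ∈ TT ψ j := h.mem_TT.2 ⟨er i, by revert i; decide, Bj.io_er i⟩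
    obtain ⟨x, hx⟩ := mul_mem (h.conj_mem dz (b := rho ψ i) ⟨_, .refl _⟩) (inv_mem (x := rho ψ i) ⟨_, .refl _⟩)
    have e := one_of_copC c (x := d * rho ψ i * d⁻¹ * (rho ψ i)⁻¹) (by
      simpa [mul_assoc] using mul_mem hd (conj_mem_of_mem_normalizer (hT m) (inv_mem hd)))
      (by rw [← hx, ← map_pow, Hs.cube, map_one])
    exact s_eq_of_single a0_ne ((h.commute_iff dz).1 (comm_of_conj (mul_inv_eq_one.1 e))).1
  have s : (ρ d).s = 1 := Equiv.ext fun i => by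
    by_cases e : i = 0
    exacts [e ▸ h.s_rr dz (cr d hd), (h1 i e).1]
  have h2 : ∀ i, i ≠ 0 → (ρ d).m i = 1 := fun i hi => (pow_eq_one_iff_of_coprime c).1 ⟨by
    rw [← pow_m s, ← h.ρ_pow dz, show d ^ Nat.card D = 1 from
      congrArg Subtype.val (pow_card_eq_one' (x := (⟨d, hd⟩ : D))), h.ρ_one, one_m],
    SL.cube_of_fix _ _ a0_ne (h1 i hi).2⟩
  let u : SL.Q8 := ⟨_, h.s1 d dz s 0 fun k hk => h2 k hk ▸ one_mem _⟩
  obtain ⟨x, hx⟩ := h.ker _ (dz.mul_left (h.κz (sgQ 0 u)).inv_left) (by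
    rw [h.ρ_mul dz (h.κz _).inv_left, h.ρ_inv (h.κz _), h.κρ, mul_inv_eq_one]; exact eq_sg s h2)
  have x0 : x.v 0 = 0 := h.toBs.ψ_rr.1 (hx ▸ (cr d hd).mul_left (rr_comm κ _ 0).inv_left)
  rw [eq_mul_inv_iff_mul_eq] at hx
  have e : d ^ 4 = ψ x := by
    rw [← hx, (h.κ_ψC u x0).symm.mul_pow, ← map_pow κ, show sgQ 0 u ^ 4 = 1 from
      Subtype.ext (pow_four (sgQ 0 u).2), map_one, mul_one, pow_succ, ← map_pow, Hs.cube, map_one, one_mul]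
  rw [← hx, one_of_copC c (x := ψ x) (e ▸ pow_mem hd 4) (by rw [← map_pow, Hs.cube, map_one]), one_mul]
  exact ⟨u, .refl _⟩

theorem card_RQC : Nat.card (RQ κ 0) = 8 := by
  rw [RQ, ← Nat.card_congr (MonoidHom.ofInjective h.RQ_injC).toEquiv, SL.card_Q8]

/-- `≤`: `le_RQ` (`le_norm_Op'`). `≥`: `RQ κ 0` has order 8 and is normal in `C(r₀) ⊓ C(z)` (`decK`, `conj_κ`, `conj_sg`). -/
theorem RY_ez : RY ψ κ j ez = RQ κ 0 := by
  refine le_antisymm (h.le_RQ (fun d hd => mem_cent.1 (RY_le ez hd).1)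
    (fun d hd => h.io_ez ▸ mem_cent.1 (RY_le ez hd).2) ((h.TT_centC ez).trans (le_norm_Op' _ _))
    (coprime_Op' _ _)) (le_Op' ?_ (le_normalizer_iff_cj.2 fun a ha => cj_le_iff_forall.2 ?_)
    (by rw [h.card_RQC]; decide))
  · rintro _ ⟨u, rfl⟩
    exact ⟨mem_cent.2 (rr_comm κ _ 0), mem_cent.2 (h.io_ez.symm ▸ h.κz _)⟩
  · rintro _ ⟨u, rfl⟩
    exact ⟨⟨_, Normal.conj_mem inferInstance _ u.2 _⟩,
      (h.conj_RQC (h.io_ez ▸ mem_cent.1 ha.2) (mem_cent.1 ha.1) (.refl _)).symm⟩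

omit h in
theorem RY_neg (h : Bj z ψ ρ l X κ j) (y : F5) : RY ψ κ j (-y) = RY ψ κ j y := by
  rw [RY, RY, h.io_neg]
  congr 2
  ext g
  rw [mem_cent, mem_cent, Commute.inv_right_iff]

/-- coordinates on `R(y)` -/
theorem RY_homC {y : F5} (hy : Sing y) : ∃ f : SL.Q8 →* G, Function.Injective f ∧
    f.range = RY ψ κ j y ∧ f ⟨SL.ng, SL.ng_mem⟩ = rr κ 0 ∧ ∀ x, sc x 0 = 0 → ∀ u v : SL.Q8,
      uu ^ (bb x y).val * u * (uu ^ (bb x y).val)⁻¹ = v → io ψ j x * f u * (io ψ j x)⁻¹ = f v := by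
  obtain ⟨n, w, a, rfl⟩ := h.mv hy
  refine ⟨(MulAut.conj n).toMonoidHom.comp (κ.comp (sgQ 0)), (MulAut.conj n).injective.comp h.RQ_injC,
    by rw [MonoidHom.range_comp, ← a.cj_RY, h.RY_ez]; rfl, conj_of_comm a.cr, fun x hx u v e => ?_⟩
  obtain ⟨x, rfl⟩ := a.surj x
  rw [a.iso, bb_comm, bb_ez] at e
  rw [a.sc0] at hx
  have := h.conj_RQC (h.io_z x) (h.io_rr.2 hx) (u := u) (v := v) (by rw [h.ρ_io, pow_m (.refl _)]; exact e)
  change _ * (n * κ (sgQ 0 u) * n⁻¹) * _ = n * κ (sgQ 0 v) * n⁻¹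
  rw [← a.act, ← this]; group

/-- the following facts by transport from `y = ez` (`mv`, `AK.cj_RY`, `norm_TT`). -/
theorem le_RY {D : Subgroup G} {y : F5} (hy : Sing y) (cr : ∀ d ∈ D, Commute d (rr κ 0))
    (cy : ∀ d ∈ D, Commute d (io ψ j y)) (hT : TT ψ j ≤ 𝐍[D]) (c : (Nat.card D).Coprime 3) :
    D ≤ RY ψ κ j y := by
  obtain ⟨n, w, a, rfl⟩ := h.mv hy
  rw [← a.cj_RY, h.RY_ez, le_cj_iff]
  refine h.le_RQ (fun d hd => ?_) (fun d hd => ?_) ?_ (by rwa [card_cj])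
  · obtain ⟨d, hd', rfl⟩ := mem_cj_iff_exists.1 hd
    exact (a.cr.inv_left.mul_left (cr d hd')).mul_left a.cr.inv_left.inv_left
  · obtain ⟨d, hd', rfl⟩ := mem_cj_iff_exists.1 hd
    simpa [← a.act ez, h.io_ez, mul_assoc] using Commute.cj (cy d hd') n⁻¹
  · rw [normalizer_cj, le_cj_iff, inv_inv, cj_of_mem_normalizer (h.norm_TT a)]; exact hT

theorem xs_RY {y : F5} (hy : Sing y) : TT.XS (RY ψ κ j y) (rr κ 0) := by
  obtain ⟨f, h1, h2, h3, -⟩ := h.RY_homC hy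
  have := xs_Q8C.top.map f fun x _ e => h1 (e.trans (map_one f).symm)
  rwa [← MonoidHom.range_eq_map, h2, h3] at this

theorem card_RY {y : F5} (hy : Sing y) : Nat.card (RY ψ κ j y) = 8 := by
  obtain ⟨f, h1, h2, -⟩ := h.RY_homC hy
  rw [← h2, ← Nat.card_congr (MonoidHom.ofInjective h1).toEquiv, SL.card_Q8]

theorem TT_norm_RY (y : F5) : TT ψ j ≤ 𝐍[RY ψ κ j y] :=
  (h.TT_centC y).trans (le_norm_Op' _ _)

/-- for `y = ez`: `bc x = 0`, `io x ∈ Q12` centralises `RQ κ 0`. -/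
theorem RY_cent {x y : F5} (hy : Sing y) (x0 : sc x 0 = 0) (e : bb x y = 0) {u : G}
    (hu : u ∈ RY ψ κ j y) : Commute u (io ψ j x) := by
  obtain ⟨f, -, h2, -, h4⟩ := h.RY_homC hy
  obtain ⟨u, rfl⟩ := h2.ge hu
  exact (comm_of_conj (h4 x x0 u u (by rw [e]; simp))).symm

theorem ngmemC {f : SL.Q8 →* G} (e : f ⟨SL.ng, SL.ng_mem⟩ = rr κ 0) {u : SL.Q8}
    (c : u.1 = 1 ∨ u.1 = SL.ng) : f u ∈ zpowers (rr κ 0) := by
  rcases c with c | c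
  · rw [show u = 1 from Subtype.ext c, map_one]; exact one_mem _
  · rw [show u = ⟨_, SL.ng_mem⟩ from Subtype.ext c, e]; exact mem_zpowers _

/-- for `y = ez`: `io x` acts on `RQ κ 0` as conjugation by `uu^(bc x)` on `Q8`. -/
theorem RY_norm {x y : F5} (hy : Sing y) (x0 : sc x 0 = 0) (e : bb x y ≠ 0) {u : G}
    (hu : u ∈ RY ψ κ j y) :
    u * (io ψ j x * u * (io ψ j x)⁻¹) * ((io ψ j x)⁻¹ * u * io ψ j x) ∈ zpowers (rr κ 0) := by
  obtain ⟨f, -, h2, h3, h4⟩ := h.RY_homC hy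
  obtain ⟨u, rfl⟩ := h2.ge hu
  have e1 := h4 x x0 ⟨_, Normal.conj_mem' inferInstance _ u.2 (uu ^ (bb x y).val)⟩ u (by group)
  rw [h4 x x0 u ⟨_, Normal.conj_mem inferInstance _ u.2 _⟩ (.refl _), show (io ψ j x)⁻¹ * f u * io ψ j x = _
    by rw [← e1, ← mul_assoc, ← mul_assoc, inv_mul_cancel, one_mul, inv_mul_cancel_right],
    ← map_mul, ← map_mul]
  exact h.ngmemC h3 (sl_norm _ _ u.2 (uu_powC _ e).1 (uu_powC _ e).2)

theorem RY_fpf {x y : F5} (hy : Sing y) (x0 : sc x 0 = 0) (e : bb x y ≠ 0) {u : G}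
    (hu : u ∈ RY ψ κ j y) (c : Commute u (io ψ j x)) : u ∈ zpowers (rr κ 0) := by
  obtain ⟨f, h1, h2, h3, h4⟩ := h.RY_homC hy
  obtain ⟨u, rfl⟩ := h2.ge hu
  exact h.ngmemC h3 (sl_fpfC _ _ u.2 (uu_powC _ e).1 (uu_powC _ e).2 (congrArg Subtype.val (h1
    ((h4 x x0 u ⟨_, Normal.conj_mem inferInstance _ u.2 _⟩ (.refl _)).symm.trans (conj_of_comm c.symm)))))

/-- `sl_gen`. -/
theorem RY_irr {D : Subgroup G} {y : F5} (hy : Sing y) (hD : D ≤ RY ψ κ j y) (hT : TT ψ j ≤ 𝐍[D]) :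
    D ≤ zpowers (rr κ 0) ∨ D = RY ψ κ j y := by
  obtain ⟨f, -, h2, h3, h4⟩ := h.RY_homC hy
  refine or_iff_not_imp_left.2 fun c => le_antisymm hD fun g hg => ?_
  obtain ⟨d, hd, c⟩ := SetLike.not_le_iff_exists.1 c
  obtain ⟨u, rfl⟩ := h2.ge (hD hd)
  obtain ⟨v, rfl⟩ := h2.ge hg
  obtain ⟨x, x0, e⟩ := sing_exC y hy
  obtain ⟨a, b, e'⟩ := sl_gen u _ v u.2 (fun e => c (h.ngmemC h3 e)) (uu_powC _ e).1 (uu_powC _ e).2 v.2
  rw [show v = u ^ a.val * ⟨_, Normal.conj_mem inferInstance _ u.2 _⟩ ^ b.val from Subtype.ext e',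
    map_mul, map_pow, map_pow, ← h4 x x0 u ⟨_, Normal.conj_mem inferInstance _ u.2 _⟩ (.refl _)]
  exact mul_mem (pow_mem hd _) (pow_mem (conj_mem_of_mem_normalizer (hT (h.mem_TT.2 ⟨x, x0, .refl _⟩)) hd) _)

/-- `mv2`; `κ (sgQ 0 u)` commutes with `rr κ 1` (`rr_comm`). -/
theorem RY_r1 {y : F5} (hy : Sing y) (e : sc y 1 = 0) {u : G} (hu : u ∈ RY ψ κ j y) :
    Commute u (rr κ 1) := by
  obtain ⟨n, w, a, -, c, e'⟩ := h.mv2 hy e
  have : RY ψ κ j y = cj(n, RQ κ 0) := by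
    rw [← h.RY_ez, a.cj_RY]
    rcases e' with e' | e' <;> rw [e']
    exact (RY_neg h.toBj y).symm
  obtain ⟨_, ⟨v, rfl⟩, rfl⟩ := mem_cj_iff_exists.1 (this.le hu)
  exact (c.mul_left (rr_comm κ _ 1)).mul_left c.inv_left

/-- `PLocal.le_of_hyperplane_centralizers_le` with `A = TT`. A subgroup `B` of index 3 in `TT` contains `io y`
for a singular `y` (`B` is the kernel of a linear form on `{x | sc x 0 = 0}`; or: among the ten singular points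
one lies in any hyperplane, decide over forms `bb w ·`), and `D ⊓ C(B) ≤ D ⊓ RY y` by `le_RY`. -/
theorem le_of_RY {D M : Subgroup G} (cr : ∀ d ∈ D, Commute d (rr κ 0)) (hT : TT ψ j ≤ 𝐍[D])
    (c : (Nat.card D).Coprime 3) (hM : ∀ y, Sing y → D ⊓ RY ψ κ j y ≤ M) : D ≤ M := by
  have := Fact.mk Nat.prime_three
  have cm : IsMulCommutative (TT ψ j) := ⟨⟨fun a b => Subtype.ext (by
    obtain ⟨x, -, e⟩ := h.mem_TT.1 a.2
    obtain ⟨y, -, e'⟩ := h.mem_TT.1 b.2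
    exact (e ▸ e' ▸ h.io_comm x y).eq)⟩⟩
  have m : ∀ x, sc x 0 = 0 → io ψ j x ∈ TT ψ j := fun x hx => h.mem_TT.2 ⟨x, hx, .refl _⟩
  refine PLocal.le_of_hyperplane_centralizers_le (p := 3) ⟨cm, fun a ha => ?_⟩ (fun e => h.z1 ?_) hT c M
    fun B hB hi => ?_
  · obtain ⟨x, -, rfl⟩ := h.mem_TT.1 ha
    exact h.io_cube x
  · exact mem_bot.1 (e.le (h.io_ez ▸ m ez (.refl _)))
  have : (B.subgroupOf (TT ψ j)).Normal := ⟨fun a ha g => by rwa [mul_comm' g, mul_inv_cancel_right]⟩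
  let θ := (mulEquivOfPrimeCardEq (G' := Multiplicative F3) (p := 3) hi (by simp)).toMonoidHom.comp
    (QuotientGroup.mk' (B.subgroupOf (TT ψ j)))
  obtain ⟨y, hy, e⟩ := sing_kerC (θ ⟨_, m ez (.refl _)⟩) (θ ⟨_, m (er 1) (.refl _)⟩) (θ ⟨_, m (er 2) (.refl _)⟩)
    (θ ⟨_, m ej (.refl _)⟩)
  rw [← map_pow, ← map_pow, ← map_pow, ← map_pow, ← map_mul, ← map_mul, ← map_mul] at e
  have e1 := (QuotientGroup.eq_one_iff (N := B.subgroupOf (TT ψ j)) _).1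
    ((MulEquiv.map_eq_one_iff (mulEquivOfPrimeCardEq (G' := Multiplicative F3) (p := 3) hi (by simp))).1 e)
  have e2 : io ψ j y ∈ B := by
    rw [sing_decC y hy.2.2, h.io_add, h.io_add, h.io_add, h.io_smul, h.io_smul, h.io_smul, h.io_smul]
    exact e1
  refine le_trans (le_inf inf_le_left (h.le_RY hy (fun d hd => cr d hd.1) (fun d hd => (hd.2 _ e2).symm)
    (fun g hg => ?_) (c.coprime_dvd_left (card_dvd_of_le inf_le_left)))) (hM y hy)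
  refine mem_normalizer_of_cj_le (cj_le_iff_forall.2 fun d hd =>
    ⟨conj_mem_of_mem_normalizer (hT hg) hd.1, fun b hb => ?_⟩)
  have c1 : Commute b g := congrArg Subtype.val (mul_comm' (⟨b, hB hb⟩ : TT ψ j) ⟨g, hg⟩)
  exact (c1.mul_right (hd.2 b hb)).mul_right c1.inv_right

/-- `n (io y) n⁻¹ = io y'` with `y'` singular (`zt`), and `n (RY y) n⁻¹ = RY y'` as in `AK.cj_RY`. -/
theorem norm_Sig {n : G} (c : Commute n (rr κ 0)) (hn : n ∈ 𝐍[TT ψ j]) : n ∈ 𝐍[Sig ψ κ j] := by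
  refine mem_normalizer_of_cj_le (map_le_iff_le_comap.2 (iSup₂_le fun y hy =>
    map_le_iff_le_comap.1 ?_))
  obtain ⟨y', h1, e⟩ := h.mem_TT.1 (conj_mem_of_mem_normalizer hn (h.mem_TT.2 ⟨y, hy.2.2, .refl _⟩))
  have h2 : y' ≠ 0 := by
    rintro rfl
    rw [h.io_zero, eq_comm, conj_eq_one_iff] at e
    exact hy.1 (h.io_eq_one e)
  exact (cj_RY_leC c e.symm).trans (RY_le_Sig ⟨h2, (h.zt _ h2).1
    (((h.zt _ hy.1).2 hy.2.1).trans (isConj_iff.2 ⟨n, e.symm⟩)), h1⟩)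

theorem cj_SA {n : G} {w : F5 → F5} (a : AK ψ κ j n w) (x : F5) :
    cj(n, SA ψ κ j x) = SA ψ κ j (w x) := by
  refine le_antisymm (map_le_iff_le_comap.2 (iSup₂_le fun y hy => map_le_iff_le_comap.1 ?_))
    (iSup₂_le fun y hy => ?_)
  · exact (a.cj_RY y).le.trans (RY_le_SA (a.sing.2 hy.1) ((a.iso x y).trans hy.2))
  · obtain ⟨y, rfl⟩ := a.surj y
    exact (a.cj_RY y).ge.trans (cj_mono n (RY_le_SA (a.sing.1 hy.1) ((a.iso x y).symm.trans hy.2)))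

end Fr

end Cfsg.Agent.E63
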