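import Cfsg.Agent.E63.B1

/-! Two frames. -/

set_option autoImplicit false

namespace Cfsg.Agent.E63

open Subgroup Cfsg.Agent.F22L Cfsg.Agent.F22L.Wr Cfsg.Agent.Loc3

namespace B3A

/-- multiples of `a0` -/
def sa (s : Fin 3 → F3) : V := fun i => s i • a0

def av : V := fun _ => a0

theorem av_ne : av ≠ 0 := by decide

theorem sa_const (t : F3) : sa (fun _ => t) = t • av := rfl

theorem om_sa (s t : Fin 3 → F3) : om (sa s) (sa t) = 0 := om_a0 s t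

theorem om_av (w : V) : om w av = -∑ i, (w i).2 := by simp [om, o2, av, a0]

theorem eq_sa {v : V} (h : ∀ k, (v k).2 = 0) : v = sa fun k => (v k).1 := funext fun k => by
  ext <;> simp [sa, a0, h]

theorem single_sa (i : Fin 3) : (Pi.single i a0 : V) = sa (Pi.single i 1) := by revert i; decide +kernel

theorem perp {y : V} (h : ∀ w, om w av = 0 → om w y = 0) : ∃ t : F3, y = t • av := by
  have h1 : ∀ i, (y i).2 = 0 := fun i => by
    simpa [om_single_left, o2] using h (Pi.single i (1, 0)) (by simp [om_single_left, o2, av, a0])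
  have h2 : ∀ i, (y i).1 = (y 0).1 := fun i => by
    have := h ((Pi.single i (0, 1) : V) - (Pi.single 0 (0, 1) : V)) (by simp [om_sub_left, om_single_left, av])
    rw [om_sub_left, om_single_left, om_single_left, sub_eq_zero] at this
    simpa [o2] using this
  exact ⟨(y 0).1, funext fun i => by ext <;> simp [av, a0, h1, h2 i]⟩

theorem fixL {x : Wr} (h : ∀ s, ∑ i, s i = 0 → x • sa s = sa s) : x.s = 1 ∧ ∀ i, x.m i • a0 = a0 := by
  have q : ∀ i : Fin 3, ∃ s : Fin 3 → F3, ∑ k, s k = 0 ∧ ∀ k, (sa s k = 0 ↔ k = i) ∧ (k = i + 1 → sa s k = a0) := by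
    decide +kernel
  have h1 : x.s = 1 := Equiv.ext fun i => by
    obtain ⟨s, h1, h2⟩ := q i
    refine (h2 _).1.1 ?_
    rw [← h s h1, smul_apply]; simp [(h2 i).1.2 rfl]
  refine ⟨h1, fun i => ?_⟩
  obtain ⟨s, h2, h3⟩ := q (i - 1)
  have := congrFun (h s h2) i
  rwa [base_smul h1, (h3 i).2 (by simp)] at this

theorem fix_sa {x : Wr} (h : x.s = 1) (h' : ∀ i, x.m i • a0 = a0) (s : Fin 3 → F3) : x • sa s = sa s :=
  funext fun i => by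
    rw [base_smul h]
    exact (map_f3 (DistribSMul.toAddMonoidHom W2 (x.m i)) _ _).trans (congrArg _ (h' i))

instance : Finite Hs := Nat.finite_of_card_ne_zero (by rw [Hs.card]; norm_num)

variable {G : Type*} [Group G] {z : G} {ψ : Hs →* G} {ρ : G → Wr} {l : G → V →+ F3}
  {X : Subgroup Wr} {κ : B8 →* G} {z' : G} {ψ' : Hs →* G} {ρ' : G → Wr} {l' : G → V →+ F3} {κ' : B8 →* G}

theorem cm (h : Bs z ψ ρ l X κ) {x y : Hs} : Commute (ψ x) (ψ y) ↔ om x.v y.v = 0 :=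
  ⟨fun c => Hs.commute_iff.1 (c.of_map h.inj), fun c => (Hs.commute_iff.2 c).map ψ⟩

theorem cm_av (h : Bs z ψ ρ l X κ) {w : Hs} : Commute (ψ w) (ψ ⟨av, 0⟩) ↔ om w.v av = 0 := cm h

theorem card_C [Finite G] (h : Bs z ψ ρ l X κ) : 729 ≤ Nat.card ↥(ψ.range ⊓ centralizer {ψ ⟨av, 0⟩}) := by
  have h1 := card_le_ker ⊤ (AddMonoidHom.mk' (fun w => om w av) fun a b => om_add_left a b av)
  rw [← card_pre, ← h.card_map, AddSubgroup.card_top, show Nat.card V = 729 by simp] at h1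
  refine h1.trans (card_le_of_le ?_)
  rintro _ ⟨x, hx, rfl⟩
  exact ⟨⟨x, rfl⟩, mem_cent.2 ((cm_av h).2 hx.2)⟩

theorem cm_sa (h : Bs z ψ ρ l X κ) {e : G} (ez : Commute e z) (c : ∀ i, Commute e (rho ψ i)) (s : Fin 3 → F3)
    (d : F3) : Commute e (ψ ⟨sa s, d⟩) := by
  have h1 := fun i => (h.commute_iff ez).1 (c i)
  have : sa s = s 0 • (Pi.single 0 a0 : V) + s 1 • (Pi.single 1 a0 : V) + s 2 • (Pi.single 2 a0 : V) := by
    funext i; fin_cases i <;> simp [sa]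
  refine (h.commute_iff ez).2 ?_
  simp only [this, smul_add, smul_f3, map_add, map_f3, (h1 _).1, (h1 _).2]
  simp

theorem cA (h : Bs z ψ ρ l X κ) {e : G} (ez : Commute e z) (c : ∀ s, ∑ i, s i = 0 → Commute e (ψ ⟨sa s, 0⟩))
    (s : Fin 3 → F3) (d : F3) : e * ψ ⟨sa s, d⟩ * e⁻¹ * (ψ ⟨sa s, d⟩)⁻¹ ∈ zpowers z := by
  obtain ⟨h1, h2⟩ := fixL fun s hs => ((h.commute_iff ez).1 (c s hs)).1
  rw [h.act e ez, ← map_inv, ← map_mul, h.mem_zp]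
  simp [fix_sa h1 h2]

theorem cc (h : Bs z ψ ρ l X κ) {e f : G} (ez : Commute e z) (c : ∀ i, Commute e (rho ψ i)) (fz : Commute f z)
    (c' : ∀ i, Commute f (rho ψ i)) : e * f * e⁻¹ * f⁻¹ ∈ zpowers z := by
  obtain ⟨t, d, b, hb, e1, bs, bm⟩ := h.shape (v := av) (fun _ => a0_ne) ez c
  obtain ⟨t', d', b', hb', e2, bs', bm'⟩ := h.shape (v := av) (fun _ => a0_ne) fz c'
  have h1 := cm_sa h fz c' t d
  have h2 : Commute b (ψ ⟨sa t', d'⟩) := (h.commute_iff hb.1).2 ⟨fix_sa bs bm _, by rw [show l b = 0 from hb.2]; rfl⟩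
  have h3 : b * b' * b⁻¹ * b'⁻¹ ∈ zpowers z := by
    refine h.zp_of (mul_mem (mul_mem (mul_mem hb hb') (inv_mem hb)) (inv_mem hb')) ?_
    rw [h.ρ_mul ((hb.1.mul_left hb'.1).mul_left hb.1.inv_left) hb'.1.inv_left, h.ρ_cj hb.1 hb'.1, h.ρ_inv hb'.1]
    have q : ∀ x y : SL, x • a0 = a0 → y • a0 = a0 → x * y * x⁻¹ * y⁻¹ = 1 := by decide +kernel
    exact Wr.ext (by simp [bs, bs']) (funext fun i => by simpa [bs, bs'] using q _ _ (bm i) (bm' i))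
  change f = ψ ⟨sa t', d'⟩ * b' at e2
  have h4 : b * f * b⁻¹ * f⁻¹ ∈ zpowers z := by
    rw [e2, ← conj_mul, conj_of_comm h2, show ∀ a c d : G, a * c * (a * d)⁻¹ = a * (c * d⁻¹) * a⁻¹ from
      fun _ _ _ => by group, conj_of_comm (HS.zp_comm (h.cψ _) h3)]
    exact h3
  change e = ψ ⟨sa t, d⟩ * b at e1
  rw [e1, show ∀ a b f : G, a * b * f * (a * b)⁻¹ * f⁻¹ = a * (b * f * b⁻¹ * f⁻¹) * a⁻¹ * (a * f * a⁻¹ * f⁻¹) from
    fun _ _ _ => by group, conj_of_comm h1.symm, conj_of_comm (HS.zp_comm (h.cψ _) h4), mul_inv_cancel, mul_one]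
  exact h4

theorem z_mem [Finite G] (h : Bs z ψ ρ l X κ) (h' : Bs z' ψ' ρ' l' X κ') (e : z' = ψ ⟨av, 0⟩) : z ∈ ψ'.range := by
  by_contra n
  have h1 := card_C h
  rw [← e] at h1
  have h2 := card_le27 (A := ↥(ψ.range ⊓ centralizer {z'})) (by
    rintro ⟨_, ⟨x, rfl⟩, -⟩
    exact Subtype.ext (show ψ x ^ 3 = 1 by rw [← map_pow, Hs.cube, map_one]))
    (h'.ρs _ fun a ha => mem_cent.1 ha.2)
  rw [h'.ker_ρs] at h2
  have h3 : ψ.range ⊓ centralizer {z'} ⊓ ψ'.range ≤ (pre (AddSubgroup.zmultiples av)).map ψ := by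
    rintro _ ⟨⟨⟨y, rfl⟩, -⟩, hy⟩
    obtain ⟨t, ht⟩ := perp (y := y.v) fun w hw => by
      have c := mul_mem (h'.conj_mem (e ▸ (cm_av h (w := ⟨w, 0⟩)).2 hw) hy) (inv_mem hy)
      have := h.toHS.eq_one n (h.comm_zp ⟨_, rfl⟩ ⟨_, rfl⟩) c
      rw [← map_inv, ← map_inv, ← map_mul, ← map_mul, ← map_mul, Hs.comm, ← map_one ψ, h.inj.eq_iff] at this
      exact neg_eq_zero.1 (congrArg Hs.c this)
    exact ⟨y, ⟨t.val, by rw [ht]; generalize t = t; revert t; decide +kernel⟩, rfl⟩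
  have h4 := card_le_of_le h3
  rw [h.card_map, card_pre, Nat.card_zmultiples] at h4
  have := Nat.le_of_dvd (by norm_num) (addOrderOf_dvd_of_nsmul_eq_zero (show 3 • av = 0 by decide +kernel))
  omega

/-- the symmetric configuration -/
structure Sy (z : G) (ψ : Hs →* G) (ρ : G → Wr) (l : G → V →+ F3) (κ : B8 →* G) (z' : G) (ψ' : Hs →* G)
    (ρ' : G → Wr) (l' : G → V →+ F3) (κ' : B8 →* G) (X : Subgroup Wr) : Prop where
  h : Bs z ψ ρ l X κ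
  h' : Bs z' ψ' ρ' l' X κ'
  cj : IsConj z z'
  full : ∀ x : Hs, (∀ i, x.v i ≠ 0) → IsConj z (ψ x)
  full' : ∀ x : Hs, (∀ i, x.v i ≠ 0) → IsConj z (ψ' x)
  e : z' = ψ ⟨av, 0⟩
  e' : z = ψ' ⟨av, 0⟩

theorem exists_Sy [Finite G] (h : Bs z ψ ρ l X κ) (n : ¬ WC z ψ) :
    ∃ z' ψ' ρ' l' κ', Sy z ψ ρ l κ z' ψ' ρ' l' κ' X := by
  obtain ⟨x, c, n⟩ : ∃ x : Hs, IsConj z (ψ x) ∧ ψ x ∉ zpowers z := by
    by_contra! c
    exact n (by rintro _ ht ⟨x, rfl⟩; exact c x ht)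
  have full : ∀ y : Hs, (∀ i, y.v i ≠ 0) → IsConj z (ψ y) := fun y hy =>
    let ⟨g, _, e⟩ := h.full_conj (fun i e => n (h.mem_zp.2 (h.supp c e))) hy
    c.trans (isConj_iff.2 ⟨g, e⟩)
  have c0 := full ⟨av, 0⟩ fun _ => a0_ne
  obtain ⟨g, hg⟩ := isConj_iff.1 c0
  have h1 := h.cj g
  rw [hg] at h1
  obtain ⟨y, hy⟩ := z_mem h h1 rfl
  obtain ⟨k, k1, k2⟩ := h1.full_conj (x := ⟨av, 0⟩) (x' := y) (fun _ => a0_ne) fun i e => by
    have := h1.mem_zp.2 (h1.supp (hy ▸ c0.symm) e)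
    rw [hy] at this
    exact av_ne (h.mem_zp.1 (by_contra fun m => h.z1 (h1.toHS.eq_one m this (mem_zpowers z))))
  have h2 := h1.cj k
  rw [conj_of_comm k1] at h2
  exact ⟨_, _, _, _, _, h, h2, c0, full, fun y hy => ((full y hy).trans (isConj_iff.2 ⟨g, rfl⟩)).trans
    (isConj_iff.2 ⟨k, rfl⟩), rfl, (k2.trans hy).symm⟩

namespace Sy

variable (p : Sy z ψ ρ l κ z' ψ' ρ' l' κ' X)
include p

theorem symm : Sy z' ψ' ρ' l' κ' z ψ ρ l κ X :=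
  ⟨p.h', p.h, p.cj.symm, fun x hx => p.cj.symm.trans (p.full' x hx), fun x hx => p.cj.symm.trans (p.full x hx),
    p.e', p.e⟩

theorem zz {a : G} (h1 : a ∈ zpowers z) (h2 : a ∈ zpowers z') : a = 1 :=
  p.h.toHS.eq_one (fun c => av_ne (p.h'.mem_zp.1 (p.e' ▸ c))) h1 h2

theorem cz {w : Hs} : Commute (ψ w) z' ↔ om w.v av = 0 := p.e ▸ cm_av p.h

theorem zq (t c : F3) : ψ ⟨t • av, c⟩ = ψ' ⟨c • av, t⟩ := by
  have k : ∀ {z z' : G} {ψ : Hs →* G} {ρ l κ}, Bs z ψ ρ l X κ → z' = ψ ⟨av, 0⟩ → ∀ t c : F3,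
      ψ ⟨t • av, c⟩ = z' ^ t.val * z ^ c.val := fun h e t c => by
    rw [e, ← h.cen, ← map_pow, Hs.pow_val, ← map_mul, Hs.mk_mul]; simp
  rw [k p.h p.e, k p.h' p.e', ((p.e ▸ p.h.cψ _ : Commute z' z).pow_pow _ _).eq]

theorem inD {x : Hs} (hx : ψ x ∈ ψ'.range) {i : Fin 3} (e : (x.v i).2 = 0) :
    (∀ k, (x.v k).2 = 0) ∧ ∑ k, (x.v k).1 = 0 := by
  have f : ∀ t : F3, x.v = t • av → (∀ k, (x.v k).2 = 0) ∧ ∑ k, (x.v k).1 = 0 := fun t e => by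
    rw [e]; clear e; revert t; decide +kernel
  obtain ⟨y, hy⟩ := hx
  by_cases c : y.v = 0
  · rw [show y = ⟨(0 : F3) • av, y.c⟩ from Hs.ext (by simp [c]) rfl, ← p.zq] at hy
    exact f _ (congrArg Hs.v (p.h.inj hy)).symm
  obtain ⟨w, hw⟩ := exists_om c
  have k : ∀ t : F3, IsConj (ψ x) (ψ (x * ⟨t • av, 0⟩)) := fun t => isConj_iff.2 ⟨ψ' ⟨t • w, 0⟩, by
    rw [map_mul, p.zq, ← hy, Bs.ψ_cj, ← map_mul, om_smul_left, om_swap, hw]
    congr 1; ext1 <;> simp⟩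
  by_cases m : ∃ t : F3, ∀ k, x.v k + t • a0 ≠ 0
  · obtain ⟨t, ht⟩ := m
    have := p.h.supp (((p.full (x * ⟨t • av, 0⟩) ht).trans (k t).symm).trans (k (-(x.v i).1))) (i := i) (by
      ext <;> simp [av, a0, e])
    exact f (x.v i).1 (by simpa [add_neg_eq_zero] using this)
  · have q : ∀ a b c : W2, (∀ t : F3, a + t • a0 = 0 ∨ b + t • a0 = 0 ∨ c + t • a0 = 0) →
        (a.2 = 0 ∧ b.2 = 0 ∧ c.2 = 0) ∧ a.1 + b.1 + c.1 = 0 := by decide +kernel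
    push Not at m
    obtain ⟨⟨a, b, c⟩, d⟩ := q (x.v 0) (x.v 1) (x.v 2) fun t => by
      obtain ⟨k, hk⟩ := m t
      fin_cases k
      exacts [.inl hk, .inr (.inl hk), .inr (.inr hk)]
    refine ⟨fun k => ?_, by rw [Fin.sum_univ_three, d]⟩
    fin_cases k
    exacts [a, b, c]

theorem fixv {c : G} (hc : c ∈ ψ'.range) (c1 : Commute c z) (i : Fin 3) : (ρ c).m i • a0 = a0 := by
  obtain ⟨x, rfl⟩ := hc
  exact congrFun ((p.h.commute_iff c1).1 (p.e ▸ p.h'.cψ x)).1 i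

theorem gam {c : G} (hc : c ∈ ψ'.range) (c1 : Commute c z) {w : V} (hw : ∑ i, (w i).2 = 0) (d : F3) :
    ψ ⟨w - ρ c • w, d⟩ ∈ ψ'.range := by
  have h1 := mul_mem (p.h'.conj_mem (p.cz.2 (by rw [om_av, hw, neg_zero]) : Commute (ψ ⟨w, 0⟩) z') hc) (inv_mem hc)
  rw [p.h.conj_eq c1, mul_inv_cancel_right] at h1
  have h2 : ∀ t, ψ ⟨0, t⟩ ∈ ψ'.range := fun t => ⟨_, by rw [← p.zq, zero_smul]⟩
  convert mul_mem h1 (h2 (d + l c w + om w (ρ c • w))) using 1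
  rw [← map_mul, Hs.mk_mul]; congr 2 <;> simp

theorem const {c : G} (hc : c ∈ ψ'.range) (c1 : Commute c z) (cs : (ρ c).s = 1) : ∃ n : F3, ρ c = dl0 ^ n.val := by
  choose k hk using fun i => (fix_a0 _).1 (p.fixv hc c1 i)
  have q : ∀ (k : F3) (a : W2), a - uu ^ k.val • a = (-(k * a.2), 0) := by decide +kernel
  have h1 : ∀ w : V, ∑ i, (w i).2 = 0 → ∑ i, k i * (w i).2 = 0 := fun w hw => by
    simpa [base_smul cs, hk, q] using (p.inD (p.gam hc c1 hw 0) (i := 0) (by simp [base_smul cs, hk, q])).2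
  have h2 : k 1 = k 0 := by simpa [Fin.sum_univ_three, neg_add_eq_zero, eq_comm] using h1 ![(0, -1), (0, 1), 0] (by decide)
  have h3 : k 2 = k 0 := by simpa [Fin.sum_univ_three, neg_add_eq_zero, eq_comm] using h1 ![(0, -1), 0, (0, 1)] (by decide)
  refine ⟨k 0, Wr.ext (by rw [cs, pow_s]; simp [dl0]) (funext fun i => ?_)⟩
  rw [pow_m rfl, hk]
  fin_cases i
  exacts [rfl, congrArg (uu ^ ·.val) h2, congrArg (uu ^ ·.val) h3]

theorem count [Finite G] : (∃ c ∈ ψ'.range, Commute c z ∧ ρ c = dl0) ∧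
    ∃ c ∈ ψ'.range, Commute c z ∧ ∀ i, (ρ c).s i = i + 1 := by
  let C := ψ'.range ⊓ centralizer {z}
  have h1 : 729 ≤ Nat.card C := by simpa only [← p.e'] using card_C p.h'
  have hC : ∀ a ∈ C, Commute a z := fun a ha => mem_cent.1 ha.2
  have pC : IsPGroup 3 C := HS.pg_range.to_le inf_le_left
  let f := p.h.ρs C hC
  let K := (sh.comp f).ker
  let e : K →* SL := ev (f.comp K.subtype) (fun a => a.2) 0
  have h2 := three_le pC (sh.comp f) card_perm3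
  have h3 := three_le (pC.to_subgroup K) e card_sl3
  have h4 := p.h.card_comm (ψ.range ⊓ ψ'.range) inf_le_left fun a ha b hb =>
    commutatorElement_eq_one_iff_commute.1 (p.zz (p.h.comm_zp ha.1 hb.1) (p.h'.comm_zp ha.2 hb.2))
  have q : ∀ n : F3, uu ^ n.val = 1 → n.val = 0 := by decide +kernel
  have h5 := Nat.card_le_card_of_injective (fun x : e.ker => (⟨x.1.1.1, p.h.ker _ (hC _ x.1.1.2) (by
      obtain ⟨n, hn⟩ := p.const x.1.1.2.1 (hC _ x.1.1.2) x.1.2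
      have : (ρ x.1.1.1).m 0 = 1 := x.2
      rw [hn, pow_m rfl] at this
      rw [hn, q n this, pow_zero]), x.1.1.2.1⟩ : ↥(ψ.range ⊓ ψ'.range))) fun x y e => by ext; exact Subtype.mk.inj e
  change _ ≤ 3 * Nat.card K at h2
  constructor
  · obtain ⟨c, hc⟩ : ∃ c, e c ≠ 1 := by
      by_contra! m
      rw [← card_top (G := K), ← show e.ker = ⊤ from eq_top_iff.2 fun a _ => m a] at h2
      omega
    obtain ⟨n, hn⟩ := p.const c.1.2.1 (hC _ c.1.2) c.2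
    refine ⟨c.1.1 ^ n.val, pow_mem c.1.2.1 _, (hC _ c.1.2).pow_left _, ?_⟩
    change (ρ c.1.1).m 0 ≠ 1 at hc
    rw [hn] at hc
    rw [p.h.ρ_pow (hC _ c.1.2), hn]
    revert hc; generalize n = n; revert n; decide +kernel
  · obtain ⟨c, hc⟩ : ∃ c : C, (ρ c).s ≠ 1 := by
      by_contra! m
      rw [← card_top (G := C), ← show K = ⊤ from eq_top_iff.2 fun a _ => m a] at h1
      omega
    obtain ⟨k, hk⟩ := pC c
    have hs := (s_cube (x := f c) (k := k) (by rw [← map_pow, hk, map_one])).resolve_left hc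
    rcases (by decide : ∀ s : Equiv.Perm (Fin 3), (∀ i, s i ≠ i) → (∀ i, s i = i + 1) ∨ ∀ i, (s * s) i = i + 1) _ hs
      with m | m
    · exact ⟨c, c.2.1, hC _ c.2, m⟩
    · exact ⟨c * c, mul_mem c.2.1 c.2.1, (hC _ c.2).mul_left (hC _ c.2), by rw [p.h.ρ_mul (hC _ c.2) (hC _ c.2)]; exact m⟩

variable [Finite G]

omit [Finite G] in
theorem cs (s : Fin 3 → F3) (d : F3) : Commute (ψ' ⟨sa s, d⟩) z :=
  p.symm.cz.2 (by rw [om_av]; simp [sa, a0])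

theorem AD {s : Fin 3 → F3} (hs : ∑ i, s i = 0) (d : F3) : ∃ s' d', ψ ⟨sa s, d⟩ = ψ' ⟨sa s', d'⟩ := by
  rcases (by decide +kernel : ∀ s : Fin 3 → F3, ∑ i, s i = 0 → (sa s = s 0 • av) ∨ ∃ i, sa s i = 0 ∧ sa s ≠ 0) s hs
    with e | ⟨i, e, n⟩
  · exact ⟨fun _ => d, s 0, by rw [e, p.zq, sa_const]⟩
  obtain ⟨c, hc, c1, c2⟩ := p.count.1
  obtain ⟨y, hy⟩ := p.gam hc c1 (w := fun i => (0, -s i)) (by simp [hs]) d
  rw [c2, show (fun i => (0, -s i) : V) - dl0 • (fun i => (0, -s i) : V) = sa s from funext fun i => by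
    rw [Pi.sub_apply, dl0_smul, uu_smul]; simp [sa, a0]] at hy
  by_cases m : ∃ i, (y.v i).2 = 0
  · obtain ⟨k, hk⟩ := m
    exact ⟨_, y.c, by rw [← hy, ← eq_sa (p.symm.inD ⟨_, hy.symm⟩ hk).1]⟩
  · exact absurd (p.h.supp (hy ▸ p.full' y fun k c => m ⟨k, by rw [c]; rfl⟩) e) n

theorem AA (s s' : Fin 3 → F3) (d d' : F3) : Commute (ψ ⟨sa s, d⟩) (ψ' ⟨sa s', d'⟩) := by
  have k : ∀ {z z' : G} {ψ ψ' : Hs →* G} {ρ l κ ρ' l' κ'}, Sy z ψ ρ l κ z' ψ' ρ' l' κ' X → ∀ s s' d d',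
      ψ' ⟨sa s', d'⟩ * ψ ⟨sa s, d⟩ * (ψ' ⟨sa s', d'⟩)⁻¹ * (ψ ⟨sa s, d⟩)⁻¹ ∈ zpowers z := fun p s s' d d' =>
    cA p.h (p.cs _ _) (fun t ht => by
      obtain ⟨t', e, he⟩ := p.AD ht 0
      rw [he]; exact (cm p.h').2 (om_sa _ _)) _ _
  refine commutatorElement_eq_one_iff_commute.1 (p.zz ?_ (k p.symm _ _ _ _))
  rw [← inv_mem_iff, commutatorElement_inv]
  exact k p _ _ _ _

theorem nQ {s : Fin 3 → F3} (hs : ∑ i, s i ≠ 0) (d : F3) : ∃ n : F3, n ≠ 0 ∧ ρ (ψ' ⟨sa s, d⟩) = dl0 ^ n.val := by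
  have c : Commute (ψ' ⟨sa s, d⟩) z := p.cs _ _
  obtain ⟨n, hn⟩ := p.const ⟨_, rfl⟩ c (fixL fun t _ => ((p.h.commute_iff c).1 (p.AA t s 0 d).symm).1).1
  refine ⟨n, fun e => hs ?_, hn⟩
  simpa [sa, a0] using (p.symm.inD (p.h.ker _ c (by rw [hn, e]; rfl)) (i := 0) (by simp [sa, a0])).2

theorem JJ {e : G} (ez : Commute e z) (c : ∀ i, Commute e (rho ψ i)) (s : Fin 3 → F3) (d : F3) :
    Commute e (ψ' ⟨sa s, d⟩) :=
  commutatorElement_eq_one_iff_commute.1 (p.zz (cc p.h ez c (p.cs _ _) fun i => by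
      rw [rho, single_sa]; exact (p.AA _ _ _ _).symm)
    (cA p.h' (p.e ▸ cm_sa p.h ez c (fun _ => 1) 0) (fun t ht => by
      obtain ⟨t', f, hf⟩ := p.symm.AD ht 0
      exact hf ▸ cm_sa p.h ez c _ _) _ _))

theorem s1 {a : G} (az : Commute a z) (as : (ρ a).s = 1) {i : Fin 3} (hi : ∀ k, k ≠ i → (ρ a).m k ∈ SL.Q8) :
    (ρ a).m i ∈ SL.Q8 := by
  by_contra n
  obtain ⟨q, hq, q1, q2⟩ := (by decide +kernel : ∀ m : SL, m ∉ SL.Q8 → ∃ q ∈ SL.Q8, m * q ≠ 1 ∧ (m * q) • a0 = a0) _ n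
  let u : B8 := ⟨bs fun k => if k = i then q else ((ρ a).m k)⁻¹, rfl, fun k => by
    rw [bs_m]; split_ifs with c
    exacts [hq, inv_mem (hi k c)]⟩
  obtain ⟨-, b, hb, -, e⟩ := p.h.dec (az.mul_left (p.h.κz u))
  replace e : ρ b = sg i ((ρ a).m i * q) := by
    rw [e, p.h.ρ_mul az (p.h.κz u), p.h.κρ]
    refine (eq_sg (i := i) (by simp [as, u]) fun k hk => by simp [as, u, hk]).trans (by simp [as, u])
  obtain ⟨c, hc, c1, c2⟩ := p.count.2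
  have bz : Commute b z' := p.e ▸ (p.h.commute_iff hb.1).2 ⟨funext fun k => by
    rw [e, base_smul rfl, sg_m]
    by_cases m : k = i
    · subst m; simpa [av] using q2
    · simp [m], by rw [show l b = 0 from hb.2]; rfl⟩
  have h1 : ρ (b * c * b⁻¹ * c⁻¹) = sg i ((ρ a).m i * q) * (ρ c * (sg i ((ρ a).m i * q))⁻¹ * (ρ c)⁻¹) := by
    rw [p.h.ρ_mul ((hb.1.mul_left c1).mul_left hb.1.inv_left) c1.inv_left, p.h.ρ_cj hb.1 c1, p.h.ρ_inv c1, e]; group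
  rw [← map_inv, conj_sg, c2] at h1
  obtain ⟨t, ht⟩ := p.const (mul_mem (p.h'.conj_mem bz hc) (inv_mem hc))
    (((hb.1.mul_left c1).mul_left hb.1.inv_left).mul_left c1.inv_left) (by rw [h1]; rfl)
  have h2 := congrFun (congrArg Wr.m (h1.symm.trans ht))
  have n1 : ∀ i : Fin 3, i ≠ i + 1 ∧ i + 2 ≠ i ∧ i + 2 ≠ i + 1 := by decide
  have h3 := h2 i
  have h4 := h2 (i + 2)
  rw [pow_m rfl] at h3 h4
  simp only [mul_m, sg_m, sg_s, inv_one, Equiv.Perm.one_apply, Pi.mulSingle_eq_same, Pi.mulSingle_eq_of_ne (n1 i).1,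
    Pi.mulSingle_eq_of_ne (n1 i).2.1, Pi.mulSingle_eq_of_ne (n1 i).2.2, mul_one] at h3 h4
  exact q1 (h3.trans h4.symm)

theorem exists_j : ∃ j ∈ p.h.H0, ρ j = dl0 ∧ IsConj z j ∧ ∃ s d t c, j = ψ ⟨sa s, d⟩ * ψ' ⟨sa t, c⟩ := by
  obtain ⟨t, h1, h2⟩ : ∃ t, (∀ i, sa t i ≠ 0) ∧ ρ (ψ' ⟨sa t, 0⟩) = dl0 := by
    obtain ⟨n, n0, hn⟩ := p.nQ (s := ![1, 1, 2]) (by decide) 0
    refine ⟨n • ![1, 1, 2], by revert n0; generalize n = n; revert n; decide +kernel, ?_⟩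
    rw [show (⟨sa (n • ![1, 1, 2]), 0⟩ : Hs) = ⟨sa ![1, 1, 2], 0⟩ ^ n.val by
      rw [Hs.pow_val, mul_zero]; congr 1; funext i; simp [sa, mul_smul], map_pow,
      p.h.ρ_pow (p.cs _ _), hn]
    revert n0; generalize n = n; revert n; decide +kernel
  have c : Commute (ψ' ⟨sa t, 0⟩) z := p.cs _ _
  have c' : ∀ k, Commute (ψ' ⟨sa t, 0⟩) (rho ψ k) := fun k => by
    rw [rho, single_sa]; exact (p.AA _ _ _ _).symm
  obtain ⟨s, d, b, hb, e, -, -⟩ := p.h.shape (v := av) (fun _ => a0_ne) c c'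
  have e1 := p.h.conj_eq c ⟨fun i => (0, s i), 0⟩
  rw [h2, show (fun i => (0, s i) : V) - dl0 • (fun i => (0, s i) : V) = sa (-s) from funext fun i => by
    rw [Pi.sub_apply, dl0_smul, uu_smul]; simp [sa, a0]] at e1
  refine ⟨_, ?_, ?_, (p.full' _ h1).trans (isConj_iff.2 ⟨_, e1⟩), _, _, _, _, rfl⟩
  · rw [e, ← mul_assoc, ← map_mul]
    exact mul_mem (p.h.zp_le (p.h.mem_zp.2 (funext fun i => by simp [sa, av]))) hb
  · rw [p.h.ρ_mul (p.h.cψ _) c, p.h.ρ_ψ, one_mul, h2]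

end Sy

end B3A

open B3A

variable {G : Type*} [Group G] [Finite G] {z : G} {ψ : Hs →* G} {ρ : G → Wr} {l : G → V →+ F3}
  {X : Subgroup Wr} {κ : B8 →* G}

theorem Bs.exists_Fq (h : Bs z ψ ρ l X κ) (n : ¬ WC z ψ) :
    ∃ j z' ψ' ρ' l' κ' v y, Fq z ψ ρ l X κ j z' ψ' ρ' l' κ' v y := by
  obtain ⟨z', ψ', ρ', l', κ', p⟩ := exists_Sy h n
  obtain ⟨j, hj, jρ, jc, s, d, t, c, e⟩ := p.exists_j
  have bj : Bj z ψ ρ l X κ j := ⟨h, hj.1, hj.2, jρ, by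
    obtain ⟨g, rfl⟩ := isConj_iff.1 jc
    rw [conj_pow, h.z3]; simp⟩
  have hy : ∀ i, ∃ y, ψ' ⟨Pi.single i (av i), 0⟩ = io ψ j y ∧ bc y ≠ 0 := fun i => by
    rw [show av i = a0 from rfl, single_sa]
    obtain ⟨n, n0, hn⟩ := p.nQ (s := Pi.single i 1) (by simp) 0
    have cz : Commute (ψ' ⟨sa (Pi.single i 1), 0⟩) z := p.cs _ _
    obtain ⟨x, hx⟩ := h.ker _ (cz.mul_left (hj.1.pow_left n.val).inv_left) (by
      rw [h.ρ_mul cz (hj.1.pow_left _).inv_left, h.ρ_inv (hj.1.pow_left _), h.ρ_pow hj.1, jρ, hn, mul_inv_cancel])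
    have h1 : ∀ k, (x.v k).2 = 0 := fun k => by
      have : Commute (ψ x) (ψ ⟨sa (Pi.single k 1), 0⟩) :=
        hx ▸ (p.AA _ _ _ _).symm.mul_left ((bj.j_A _ _).pow_left _).inv_left
      rw [cm h, ← single_sa, om_single_right] at this
      simpa [o2, a0] using this
    refine ⟨(x.c, (x.v 0).1, (x.v 1).1, (x.v 2).1, n), ?_, n0⟩
    rw [← inv_mul_cancel_right (ψ' _) (j ^ n.val), ← hx, io]
    congr 2
    exact Hs.ext ((eq_sa h1).trans (funext fun k => by fin_cases k <;> rfl)) rfl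
  choose y hy by0 using hy
  obtain ⟨q, hq, q1, q2⟩ := p.count.2
  obtain ⟨-, b, hb, -, b1⟩ := h.dec q1
  refine ⟨j, z', ψ', ρ', l', κ', av, y, bj, p.h', p.cj, jc, p.full, p.full', ?_, p.e', fun _ => a0_ne, hy, by0,
    fun f fz c => e ▸ (cm_sa h fz c _ _).mul_right (p.JJ fz c _ _), fun a az as i hi => p.s1 az as hi,
    b, hb.1, hb.2, b1 ▸ q2, b1 ▸ p.fixv hq q1⟩
  rw [p.e, io, show bc (0, 1, 1, 1, 0) = 0 from rfl, ZMod.val_zero, pow_zero, mul_one]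
  congr 2
  decide +kernel

end Cfsg.Agent.E63
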