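import Cfsg.Agent.E63.Fr

/-! Finite checks on the quadratic space `3^5`. -/

set_option autoImplicit false
set_option synthInstance.maxSize 2000

namespace Cfsg.Agent.E63.B3

open Cfsg.Agent.F22L

def e1 : F5 := (0, 1, 1, 1, 0)
def nf (q b : F3) : F5 := (-q * b, 0, 0, 0, b)

theorem sieg_bb (w : Fin 3 → F3) (x y : F5) : bb (sieg w x) (sieg w y) = bb x y := by
  simp only [bb, sieg]
  linear_combination (x.2.2.2.2 * y.2.2.2.2 * (w 0 * w 0 + w 1 * w 1 + w 2 * w 2)) *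
    (by decide : (3 : F3) = 0)

theorem sieg_qq (w : Fin 3 → F3) (x : F5) : qq (sieg w x) = qq x := sieg_bb w x x

theorem sieg_lin (w : Fin 3 → F3) (x y : F5) (t : F3) :
    sieg w (x + t • y) = sieg w x + t • sieg w y := by
  ext <;> simp [sieg] <;> ring

theorem sieg_smul (w : Fin 3 → F3) (y : F5) (t : F3) : sieg w (t • y) = t • sieg w y := by
  ext <;> simp [sieg] <;> ring

theorem sieg_rf (w : Fin 3 → F3) (x y : F5) : sieg w (rf y x) = rf (sieg w y) (sieg w x) := by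
  rw [rf, rf, sieg_lin, sieg_bb]

theorem sieg_neg (w : Fin 3 → F3) (x : F5) : sieg w (sieg (-w) x) = x := by
  refine Prod.ext ?_ (Prod.ext ?_ (Prod.ext ?_ (Prod.ext ?_ rfl))) <;> simp only [sieg, Pi.neg_apply]
  · linear_combination (x.2.2.2.2 * (w 0 * w 0 + w 1 * w 1 + w 2 * w 2)) * (by decide : (3 : F3) = 0)
  all_goals ring

theorem sieg_surj (w : Fin 3 → F3) : Function.Surjective (sieg w) := fun x => ⟨_, sieg_neg w x⟩

theorem sieg_inj (w : Fin 3 → F3) : Function.Injective (sieg w) :=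
  Finite.injective_iff_surjective.2 (sieg_surj w)

theorem sieg_nf : ∀ x : F5, bc x ≠ 0 → sieg (fun i => bc x * sc x i) x = nf (qq x) (bc x) := by
  decide +kernel

theorem nf_neg : ∀ q b : F3, b ≠ 0 → nf q b = nf q 1 ∨ nf q b = -nf q 1 := by decide +kernel

theorem rf_neg (y : F5) : rf (-y) = rf y := funext fun x => by
  ext <;> simp [rf, bb] <;> ring

theorem exists_c (φ : F5 →+ F3) : ∃ c, ∀ x, φ x = bb x c := by
  refine ⟨(φ ej, φ (er 0), φ (er 1), φ (er 2), φ ez), fun x => ?_⟩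
  have : x = x.1 • ez + x.2.1 • er 0 + x.2.2.1 • er 1 + x.2.2.2.1 • er 2 + x.2.2.2.2 • ej := by
    ext <;> simp [ez, er, ej]
  conv_lhs => rw [this]
  simp only [map_add, map_f3, smul_eq_mul, bb]
  ring

def PrS (y c : F5) : Prop := ∀ x, qq x = 0 → qq (x + bb x c • y) = 0

instance (y c : F5) : Decidable (PrS y c) := Fintype.decidableForallFintype

theorem fin_c0 : ∀ b : F3, b ≠ 0 → ∀ c, bb (nf b b) c = 1 → PrS (nf b b) c → c = b • nf b b := by
  decide +kernel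

theorem fin_c {y c : F5} (h1 : bc y ≠ 0) (h2 : qq y = bc y) (h3 : bb y c = 1) (h4 : PrS y c) :
    c = bc y • y := by
  have e := sieg_nf y h1
  rw [h2] at e
  generalize (fun i => bc y * sc y i) = w at e
  refine sieg_inj w ?_
  rw [sieg_smul, e]
  refine fin_c0 _ h1 _ (by rw [← e, sieg_bb, h3]) fun x hx => ?_
  obtain ⟨x, rfl⟩ := sieg_surj w x
  rw [← e, sieg_bb, ← sieg_lin, sieg_qq]
  exact h4 x (sieg_qq w x ▸ hx)

theorem fin_q : ∀ y : F5, bc y ≠ 0 → qq y ≠ 0 → qq (y - ez) ≠ 0 →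
    qq y = bc y ∧ ∀ q, q ≠ 0 → q = qq y ∨ q = qq (y - ez) := by decide +kernel

theorem fin_s : ∀ x : F5, bc x = 0 → (qq x = 0 ↔ (∀ i, sc x i ≠ 0) ∨ ∀ i, sc x i = 0) := by
  decide +kernel

theorem fin_z : ∀ x : F5, bc x = 0 → x ≠ 0 → (∀ i, sc x i = 0) → x = ez ∨ x = -ez := by
  decide +kernel

theorem fin_w : ∀ w : F5, bc w = 0 → qq w = 1 → bb e1 w ≠ 0 := by decide +kernel

theorem fin_r : ∀ u : F5, bc u = 0 → qq u = 1 → ∃ i,
    u = sieg (fun _ => u.1) (er i) ∨ -u = sieg (fun _ => -u.1) (er i) := by decide +kernel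

theorem fin_b : ∀ a b c : F3, a ≠ 0 → b ≠ 0 → c ≠ 0 → a + b + c = 0 → a = b ∧ b = c := by decide

theorem fin_k : ∀ k : Fin 3 → F3, (∀ i, k i = k 0) ∨ (∃ i n, k i + n ≠ 0 ∧ ∀ m, m ≠ i → k m + n = 0) ∨
    ∃ i m, k i = 0 ∧ k m = 2 ∧ ∀ m, m ≠ i → k m ≠ 0 := by decide +kernel

end Cfsg.Agent.E63.B3
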