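import Cfsg.Agent.E63.B1
import Cfsg.Agent.E63.B3b1

/-! From two frames: the classes in `3^5` and the reflections. -/

set_option autoImplicit false

namespace Cfsg.Agent.E63.B3

open Subgroup Cfsg.Agent.F22L Cfsg.Agent.F22L.Wr Cfsg.Agent.Loc3

variable {G : Type*} [Group G] {z : G} {ψ : Hs →* G} {ρ : G → Wr} {l : G → V →+ F3}
  {X : Subgroup Wr} {κ : B8 →* G} {j z' : G} {ψ' : Hs →* G} {ρ' : G → Wr} {l' : G → V →+ F3}
  {κ' : B8 →* G} {v : V} {y : Fin 3 → F5}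

theorem conj_inv' {a b : G} (h : IsConj a b) : IsConj a⁻¹ b⁻¹ := by
  obtain ⟨g, rfl⟩ := isConj_iff.1 h
  exact isConj_iff.2 ⟨g, by group⟩

theorem act_z {n : G} {w : F5 → F5} (a : Act ψ j n w) (x : F5) :
    IsConj z (io ψ j (w x)) ↔ IsConj z (io ψ j x) :=
  have e : IsConj (io ψ j x) (io ψ j (w x)) := isConj_iff.2 ⟨n, a x⟩
  ⟨fun c => c.trans e.symm, fun c => c.trans e⟩

theorem act_sieg (h : Bj z ψ ρ l X κ j) (w : Fin 3 → F3) : Act ψ j (ψ ⟨fun i => (0, w i), 0⟩) (sieg w) :=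
  h.act_ψ _

theorem act_rf (h : Bj z ψ ρ l X κ j) {n : G} {u : F5} (a : Act ψ j n (rf u)) (w : Fin 3 → F3) :
    ∃ n, Act ψ j n (rf (sieg w u)) := by
  refine ⟨ψ ⟨fun i => (0, w i), 0⟩ * n * (ψ ⟨fun i => (0, w i), 0⟩)⁻¹, fun x => ?_⟩
  obtain ⟨x, rfl⟩ := sieg_surj w x
  rw [← sieg_rf, ← act_sieg h w, ← act_sieg h w, ← a]
  group

variable (h : Fq z ψ ρ l X κ j z' ψ' ρ' l' κ' v y)
include h

theorem z_neg (x : F5) : IsConj z (io ψ j (-x)) ↔ IsConj z (io ψ j x) := by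
  have e : IsConj z z⁻¹ := (h.full (⟨fun _ => a0, 0⟩ : Hs)⁻¹ fun _ => neg_ne_zero.2 a0_ne).trans
    (map_inv ψ _ ▸ (conj_inv' (h.full ⟨fun _ => a0, 0⟩ fun _ => a0_ne)).symm)
  have k : ∀ x, IsConj z (io ψ j x) → IsConj z (io ψ j (-x)) := fun x c =>
    h.io_neg x ▸ e.trans (conj_inv' c)
  exact ⟨fun c => neg_neg x ▸ k _ c, k x⟩

theorem z_nf {x : F5} (b : bc x ≠ 0) : IsConj z (io ψ j x) ↔ IsConj z (io ψ j (nf (qq x) 1)) := by
  rw [← act_z (act_sieg h.toBj fun i => bc x * sc x i), sieg_nf x b]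
  rcases nf_neg (qq x) _ b with e | e <;> rw [e]
  exact z_neg h _

theorem sum_y : y 0 + y 1 + y 2 = ez := h.io_inj (by
  rw [h.io_add, h.io_add, h.io_ez, ← h.hy, ← h.hy, ← h.hy, ← map_mul, ← map_mul, Hs.mk_mul, Hs.mk_mul,
    ← eq_sum, h.e2]
  simp [om_single_right])

theorem nz {x : Hs} {i k : Fin 3} (e : x.v i = 0) (e' : x.v k ≠ 0) : ¬ IsConj z (ψ' x) := fun c =>
  e' (congrFun (h.h'.supp (h.cj.symm.trans c) e) k)

theorem qq_y (i : Fin 3) : qq (y i) = bc (y i) ∧ ∀ q, q ≠ 0 → ¬ IsConj z (io ψ j (nf q 1)) := by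
  obtain ⟨k, hk⟩ := exists_ne i
  have h0 : IsConj z (io ψ j (nf 0 1)) := by
    rw [show nf 0 1 = ej by decide +kernel, h.io_ej]; exact h.cjj
  have h1 : ¬ IsConj z (io ψ j (y i)) := h.hy i ▸
    nz h (i := k) (k := i) (Pi.single_eq_of_ne hk _) (by simpa using h.hv i)
  have h2 : ¬ IsConj z (io ψ j (y i - ez)) := by
    rw [sub_eq_add_neg, h.io_add, h.io_neg, h.io_ez, ← h.hy, h.e2, ← map_inv, ← map_mul, ← h.e2]
    exact nz h (i := i) (k := k) (by simp) (by simpa [hk] using h.hv k)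
  have b2 : bc (y i - ez) ≠ 0 := by simpa [bc, ez] using h.by0 i
  rw [z_nf h (h.by0 i)] at h1
  rw [z_nf h b2] at h2
  obtain ⟨a, b⟩ := fin_q (y i) (h.by0 i) (fun e => h1 (e ▸ h0)) fun e => h2 (e ▸ h0)
  refine ⟨a, fun q hq => ?_⟩
  rcases b q hq with rfl | rfl
  exacts [h1, h2]

theorem zt (x : F5) (x0 : x ≠ 0) : IsConj z (io ψ j x) ↔ qq x = 0 := by
  by_cases b : bc x = 0
  · have e : io ψ j x = ψ ⟨fun i => sc x i • a0, x.1⟩ := by
      rw [io, b, ZMod.val_zero, pow_zero, mul_one]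
    rw [fin_s x b]
    refine ⟨fun c => ?_, ?_⟩
    · refine or_iff_not_imp_left.2 fun c' i => ?_
      push Not at c'
      obtain ⟨k, hk⟩ := c'
      have := congrFun (h.toBs.supp (e ▸ c) (i := k) (by simp [hk])) i
      exact (smul_eq_zero.1 this).resolve_right a0_ne
    · rintro (c | c)
      · exact e ▸ h.full _ fun i => smul_ne_zero (c i) a0_ne
      · rcases fin_z x b x0 c with rfl | rfl
        · rw [h.io_ez]
        · rw [z_neg h, h.io_ez]
  · rw [z_nf h b]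
    refine ⟨fun c => by_contra fun c' => (qq_y h 0).2 _ c' c, fun c => ?_⟩
    rw [c, show nf 0 1 = ej by decide +kernel, h.io_ej]; exact h.cjj

theorem trv {e : G} (c : ∀ x, Commute e (io ψ j x)) (i : Fin 3) :
    ∃ t : F3, rr κ' i * e * (rr κ' i)⁻¹ = io ψ j (t • y i) * e := by
  obtain ⟨t, ht⟩ := h.h'.tr h.hv (h.e1 ▸ c _) (fun k => h.hy k ▸ c _) i
  exact ⟨t, by rw [ht, h.hy, h.io_smul]⟩

theorem act_y (i : Fin 3) : Act ψ j (rr κ' i) fun x => x + (bc (y i) * bb x (y i)) • y i := by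
  choose φ hφ using fun x => trv h (h.io_comm x) i
  have y0 : y i ≠ 0 := fun e => h.by0 i (e ▸ rfl)
  have a : Act ψ j (rr κ' i) fun x => x + φ x • y i := fun x => by
    rw [hφ, ← h.io_add, add_comm]
  obtain ⟨c, hc⟩ := exists_c (AddMonoidHom.mk' φ fun x x' => smul_left_injective F3 y0 (by
    have := a (x + x')
    rw [h.io_add, ← conj_mul, a, a, ← h.io_add, h.io_inj.eq_iff] at this
    simp only [add_smul]
    linear_combination (exp := 1) -this))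
  replace hc : ∀ x, φ x = bb x c := hc
  have h1 : φ (y i) = 1 := smul_left_injective F3 y0 (by
    have := a (y i)
    rw [← h.hy, rr, h.h'.κ_act, show (⟨_, _⟩ : Hs) = (⟨Pi.single i (v i), 0⟩ : Hs)⁻¹ from
      Hs.ext (funext fun k => by
        simp only [r_smul]
        by_cases c : k = i <;> simp [c]) (by simp), map_inv, h.hy, ← h.io_neg, h.io_inj.eq_iff] at this
    have e : ∀ x : F5, -x = x + x := by decide +kernel
    simp only [one_smul]
    rw [e] at this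
    exact (add_left_cancel this).symm)
  have h2 := fin_c (h.by0 i) (qq_y h i).1 (hc _ ▸ h1) fun x hx => by
    by_cases x0 : x = 0
    · subst x0; simp [qq, bb]
    by_cases x1 : x + bb x c • y i = 0
    · rw [x1]; rfl
    rw [← zt h _ x1, ← hc, act_z a, zt h _ x0, hx]
  intro x
  simp only [a x, hc, h2]
  congr 3
  simp [bb]; ring

theorem bb_y {i : Fin 3} {x : F5} (c : Commute (rr κ' i) (io ψ j x)) : bb x (y i) = 0 := by
  have := act_y h i x
  rw [conj_of_comm c, h.io_inj.eq_iff, left_eq_add, smul_eq_zero, mul_eq_zero] at this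
  exact (this.resolve_right fun e => h.by0 i (e ▸ rfl)).resolve_left (h.by0 i)

theorem bc_y : bc (y 0) = 1 := by
  obtain ⟨a, b⟩ := fin_b _ _ _ (h.by0 0) (h.by0 1) (h.by0 2) (congrArg bc (sum_y h))
  have e : ∀ b : F3, b ≠ 0 → b ≠ 1 → b = 2 := by decide
  by_contra c
  have c1 : bc (y 1) = 2 := a ▸ e _ (h.by0 0) c
  have c2 : bc (y 2) = 2 := b ▸ c1
  have q1 := (qq_y h 1).1.trans c1
  have q2 := (qq_y h 2).1.trans c2
  have k1 : bb (y 1) (y 2) = 0 := bb_y h (h.hy 1 ▸ (h.h'.ψ_rr.2 (by simp)).symm)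
  have k2 : ∀ i, bb e1 (y i) = 0 := fun i => bb_y h (h.e1 ▸ h.h'.rr_z i)
  have k3 := k2 1
  have k4 := k2 2
  refine fin_w (y 1 - y 2) (sub_eq_zero.2 b) ?_ ?_ <;>
    simp only [qq, bb, Prod.fst_sub, Prod.snd_sub] at *
  · linear_combination q1 + q2 - 2 * k1 + (by decide : (3 : F3) = 0)
  · linear_combination k3 - k4

theorem act_y0 : Act ψ j (rr κ' 0) (rf (y 0)) := by
  have := act_y h 0
  simp only [bc_y h, one_mul] at this
  exact this

theorem sieg_y0 : ∃ w, sieg w (y 0) = nf 1 1 :=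
  ⟨_, by rw [sieg_nf _ (h.by0 0), (qq_y h 0).1, bc_y h]⟩

theorem refl (u : F5) (q : qq u = 1) : ∃ n, Act ψ j n (rf u) := by
  by_cases b : bc u = 0
  · obtain ⟨i, e | e⟩ := fin_r u b q
    · exact e ▸ act_rf h.toBj (h.act_rr i) _
    · exact rf_neg u ▸ e ▸ act_rf h.toBj (h.act_rr i) _
  · obtain ⟨w, e⟩ := sieg_y0 h
    obtain ⟨n, a⟩ := act_rf h.toBj (act_y0 h) w
    have e' := sieg_nf u b
    generalize (fun i => bc u * sc u i) = w' at e'
    have a' : Act ψ j n (rf (sieg w' u)) := by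
      rw [e', q]
      rcases nf_neg 1 _ b with c | c <;> rw [c]
      · exact e ▸ a
      · rw [rf_neg]; exact e ▸ a
    have := act_rf h.toBj a' (-w')
    rwa [show sieg (-w') (sieg w' u) = u by simpa using sieg_neg (-w') u] at this

theorem exists_n : ∃ n, Act ψ j n (rf (nf 1 1)) ∧ ∀ e : G, (∀ x, Commute e (io ψ j x)) →
    ∃ t : F3, n * e * n⁻¹ = io ψ j (t • nf 1 1) * e := by
  obtain ⟨w, e⟩ := sieg_y0 h
  have a := act_sieg h.toBj w
  generalize ψ ⟨fun i => (0, w i), 0⟩ = g at a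
  refine ⟨g * rr κ' 0 * g⁻¹, fun x => ?_, fun b c => ?_⟩
  · obtain ⟨x, rfl⟩ := sieg_surj w x
    rw [← e, ← sieg_rf, ← a, ← a, ← act_y0 h]
    group
  · obtain ⟨t, ht⟩ := trv h (e := g⁻¹ * b * g) (fun x => by
      simpa [← a x, mul_assoc] using Commute.cj (c (sieg w x)) g⁻¹) 0
    refine ⟨t, ?_⟩
    rw [← e, ← sieg_smul, ← a, show g * rr κ' 0 * g⁻¹ * b * (g * rr κ' 0 * g⁻¹)⁻¹ =
      g * (rr κ' 0 * (g⁻¹ * b * g) * (rr κ' 0)⁻¹) * g⁻¹ by group, ht]
    group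

end Cfsg.Agent.E63.B3
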