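import Cfsg.Agent.E62.St
import Cfsg.Agent.U62S.St
import Cfsg.Agent.Loc3.Tools5

/-! Coordinates for a group `2^(1+20).Y` or `2^20:Y` with `U₆(2) ≤ Y ≤ U₆(2).S₃`. -/

set_option autoImplicit false

namespace Cfsg.Agent.E63

open Cfsg.Agent.Comp Cfsg.Agent.Comp.BM Cfsg.Agent.E62 Subgroup Cfsg.Agent.TT Cfsg.Agent.PLocal.Amb

variable {G : Type*} [Group G]

/-- the centraliser of `z` is `2^(1+20).Y`, `U₆(2) ≤ Y ≤ U₆(2).S₃` -/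
structure S6 (z : G) (ψ : ES →* G) (α : G → L) : Prop extends E62.Pre z ψ α where
  ker : ∀ c, c * z = z * c → α c = 1 → c ∈ ψ.range
  nrm : ∀ c, c * z = z * c → α c ∈ normalizer (Mb : Set L)
  onto : ∀ a ∈ Mb, ∃ c, c * z = z * c ∧ α c = a
  two : ∀ B : Subgroup G, (∀ b ∈ B, b * z = z * b) → IsPGroup 2 B →
    ∃ c, c * z = z * c ∧ ∀ b ∈ B, α (c * b * c⁻¹) ∈ T2

/-- the subgroup `N` of the centraliser of `z` is `2^(1+20).Y`, `U₆(2) ≤ Y ≤ U₆(2).S₃` -/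
structure SN (N : Subgroup G) (z : G) (ψ : ES →* G) (α : G → L) : Prop where
  inj : Function.Injective ψ
  z_eq : ψ zE = z
  cen : ∀ c ∈ N, c * z = z * c
  mem : ∀ e, ψ e ∈ N
  act : ∀ c ∈ N, ∀ e, ∃ e', c * ψ e * c⁻¹ = ψ e' ∧ e'.v = (α c).1 e.v
  ker : ∀ c ∈ N, α c = 1 → c ∈ ψ.range
  nrm : ∀ c ∈ N, α c ∈ normalizer (Mb : Set L)
  onto : ∀ a ∈ Mb, ∃ c ∈ N, α c = a
  two : ∀ B ≤ N, IsPGroup 2 B → ∃ c ∈ N, ∀ b ∈ B, α (c * b * c⁻¹) ∈ T2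

namespace SN

variable {N : Subgroup G} {z : G} {ψ : ES →* G} {α : G → L} (h : SN N z ψ α)
include h

theorem s6 (e : ∀ c, c * z = z * c → c ∈ N) : S6 z ψ α :=
  ⟨⟨h.inj, h.z_eq, fun c hc => h.act c (e c hc)⟩, fun c hc => h.ker c (e c hc),
    fun c hc => h.nrm c (e c hc), fun a ha => let ⟨c, h1, h2⟩ := h.onto a ha; ⟨c, h.cen c h1, h2⟩,
    fun B h1 h2 => let ⟨c, h3, h4⟩ := h.two B (fun b hb => e b (h1 b hb)) h2; ⟨c, h.cen c h3, h4⟩⟩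

/-- the structure inside the group `N` -/
theorem pre : E62.Pre (⟨z, h.z_eq ▸ h.mem zE⟩ : N) (ψ.codRestrict N h.mem) fun c => α c :=
  ⟨fun _ _ e => h.inj (congrArg Subtype.val e), Subtype.ext h.z_eq, fun c _ e =>
    let ⟨e', h1, h2⟩ := h.act c c.2 e; ⟨e', Subtype.ext h1, h2⟩⟩

theorem mul {c d : G} (hc : c ∈ N) (hd : d ∈ N) : α (c * d) = α c * α d :=
  h.pre.mul (c := ⟨c, hc⟩) (d := ⟨d, hd⟩) (Subtype.ext (h.cen c hc)) (Subtype.ext (h.cen d hd))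

theorem at_psi (e : ES) : α (ψ e) = 1 := h.pre.at_psi e

theorem one : α 1 = 1 := h.pre.one

theorem at_z : α z = 1 := h.pre.at_z

theorem inv {c : G} (hc : c ∈ N) : α c⁻¹ = (α c)⁻¹ :=
  h.pre.inv (c := ⟨c, hc⟩) (Subtype.ext (h.cen c hc))

theorem cj {c d : G} (hc : c ∈ N) (hd : d ∈ N) : α (c * d * c⁻¹) = α c * α d * (α c)⁻¹ := by
  rw [h.mul (mul_mem hc hd) (inv_mem hc), h.mul hc hd, h.inv hc]

theorem form {c : G} (hc : c ∈ N) (v : V) : β0 ((α c).1 v) ((α c).1 v) = β0 v v :=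
  h.pre.form (c := ⟨c, hc⟩) (Subtype.ext (h.cen c hc)) v

theorem act_v {c : G} (hc : c ∈ N) {e e' : ES} (he : c * ψ e * c⁻¹ = ψ e') : e'.v = (α c).1 e.v :=
  h.pre.act_v (c := ⟨c, hc⟩) (Subtype.ext (h.cen c hc)) (Subtype.ext he)

/-- the action as a homomorphism -/
def αh : N →* L := MonoidHom.mk' (fun c => α c) fun c d => h.mul c.2 d.2

theorem xs : XS ψ.range z := by
  have := xs0.map ψ fun x _ e => h.inj (by rw [e, map_one])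
  rwa [← MonoidHom.range_eq_map, h.z_eq] at this

theorem comm_iff {a b : ES} : ψ a * ψ b = ψ b * ψ a ↔ B0 a.v b.v = 0 := by
  rw [← E62.comm_iff, ← map_mul, ← map_mul, h.inj.eq_iff]

theorem eqv {a b : ES} (e : a.v = b.v) : ψ a = ψ b ∨ ψ a = ψ b * z := by
  rcases ESM.eq_or_of_v_eq e with rfl | rfl <;> simp [h.z_eq]

end SN

/-- `𝐍[A] = 2^20 : K` in the quotient by the central involution; `lam u = 1` says that the lifts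
of the involution `u` have order four. -/
structure SB (A K : Subgroup G) (a : V → G) (π : G → L) (lam : G → ZMod 2) : Prop
    extends U62S.Pre A a π where
  nrm : ∀ h ∈ 𝐍[A], π h ∈ normalizer (Mb : Set L)
  KH : K ≤ 𝐍[A]
  dec : ∀ h ∈ 𝐍[A], ∃ v, ∃ k ∈ K, h = a v * k
  fth : ∀ k ∈ K, π k = 1 → k = 1
  onto : ∀ m ∈ Mb, ∃ k ∈ K, π k = m
  two : ∀ B ≤ 𝐍[A], IsPGroup 2 B → ∃ c ∈ 𝐍[A], ∀ b ∈ B, π (c * b * c⁻¹) ∈ T2
  form : ∀ h ∈ 𝐍[A], ∀ v, β0 ((π h).1 v) ((π h).1 v) = β0 v v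
  lcj : ∀ g u, lam (g * u * g⁻¹) = lam u
  lA : ∀ v, lam (a v) = β0 v v
  lK : ∀ k ∈ K, k * k = 1 → lam k = 0
  quad : ∀ u ∈ 𝐍[A], u * u = 1 → ∀ v w, (π u).1 v = v → (π u).1 w = w →
    lam (a (v + w) * u) + lam u = lam (a v * u) + lam (a w * u) + B0 v w
  uf : ∀ y ∈ K, π y ∈ Mb → y ^ 3 = 1 → y ≠ 1 →
    729 ∣ Nat.card ↥(Mb ⊓ centralizer {π y}) → Loc3.UF 𝐍[A] y
  h3 : ∀ t ∈ 𝐍[A], t ^ 3 = 1 → 2 ^ 16 ≤ Nat.card {v // (π t).1 v = v} → t = 1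
  mx : ∀ M : Subgroup G, M.Normal → (Nat.card M).Coprime 3 → M ≤ 𝐍[A]

end Cfsg.Agent.E63
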