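import Cfsg.Agent.E63.Fr

/-! More definitions for the frame `3^5`. -/

set_option autoImplicit false

namespace Cfsg.Agent.E63

open Subgroup Cfsg.Agent.F22L Cfsg.Agent.F22L.Wr Cfsg.Agent.PLocal.Amb Cfsg.Agent.Loc3

variable {G : Type*} [Group G]

/-- `n` centralises `r₀`, `ρ₀` and acts on the frame as the isometry `w` -/
structure AK (ψ : Hs →* G) (κ : B8 →* G) (j n : G) (w : F5 → F5) : Prop where
  act : Act ψ j n w
  cr : Commute n (rr κ 0)
  fix : w (er 0) = er 0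
  iso : ∀ x y, bb (w x) (w y) = bb x y

/-- roots orthogonal to `ρ₀` -/
def Root (y : F5) : Prop := qq y = 1 ∧ sc y 0 = 0

instance (y : F5) : Decidable (Root y) := inferInstanceAs (Decidable (_ ∧ _))

/-- the group `3^(1+4)` -/
def Q12 (ψ : Hs →* G) : Subgroup G := (pre (Wi 0)).map ψ

/-- the group `3^(1+4).3` -/
def PP (ψ : Hs →* G) (j : G) : Subgroup G := Q12 ψ ⊔ zpowers j

/-- the product of the quaternion groups centralised by `a` -/
def SA (ψ : Hs →* G) (κ : B8 →* G) (j : G) (a : F5) : Subgroup G :=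
  ⨆ (y : F5) (_ : Sing y ∧ bb a y = 0), RY ψ κ j y

theorem mem_Q12 {ψ : Hs →* G} {g : G} : g ∈ Q12 ψ ↔ ∃ x : Hs, x.v 0 = 0 ∧ ψ x = g := Iff.rfl

theorem bb_er (i : Fin 3) (x : F5) : bb (er i) x = sc x i := by fin_cases i <;> simp [bb, er, sc]

theorem bb_ez (x : F5) : bb ez x = bc x := by simp [bb, ez, bc]

theorem bb_comm (x y : F5) : bb x y = bb y x := by simp only [bb]; ring

theorem sing_ez : Sing ez := by decide

variable {z : G} {ψ : Hs →* G} {ρ : G → Wr} {l : G → V →+ F3} {X : Subgroup Wr} {κ : B8 →* G} {j : G}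

theorem RY_le_Sig {y : F5} (h : Sing y) : RY ψ κ j y ≤ Sig ψ κ j := le_iSup₂_of_le y h le_rfl

theorem RY_le_SA {a y : F5} (h : Sing y) (e : bb a y = 0) : RY ψ κ j y ≤ SA ψ κ j a :=
  le_iSup₂_of_le y ⟨h, e⟩ le_rfl

theorem SA_le_Sig (a : F5) : SA ψ κ j a ≤ Sig ψ κ j := iSup₂_le fun _ h => RY_le_Sig h.1

theorem RY_le (y : F5) : RY ψ κ j y ≤ centralizer {rr κ 0} ⊓ centralizer {io ψ j y} := Op'_le _ _

theorem Sig_le : Sig ψ κ j ≤ centralizer {rr κ 0} := iSup₂_le fun y _ => (RY_le y).trans inf_le_left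

/-- a Sylow `3`-subgroup of the centraliser of `r₀` -/
def Bs.P1 (h : Bs z ψ ρ l X κ) : Subgroup G where
  carrier := {a | Commute a z ∧ Commute a (rr κ 0) ∧ (ρ a).s = 1 ∧ ∀ i, (ρ a).m i • a0 = a0}
  one_mem' := ⟨Commute.one_left _, Commute.one_left _, by rw [h.ρ_one]; rfl, fun i => by
    rw [h.ρ_one, one_m, one_smul]⟩
  mul_mem' := fun {a b} ha hb => ⟨ha.1.mul_left hb.1, ha.2.1.mul_left hb.2.1, by
    rw [h.ρ_mul ha.1 hb.1, mul_s, ha.2.2.1, hb.2.2.1, mul_one], fun i => by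
    rw [h.ρ_mul ha.1 hb.1, mul_m, mul_smul, hb.2.2.2, ha.2.2.2]⟩
  inv_mem' := fun {a} ha => ⟨ha.1.inv_left, ha.2.1.inv_left, by
    rw [h.ρ_inv ha.1, inv_s, ha.2.2.1, inv_one], fun i => by
    rw [h.ρ_inv ha.1, inv_m, inv_smul_eq_iff, ha.2.2.2]⟩

theorem Bs.mem_P1 (h : Bs z ψ ρ l X κ) {a : G} : a ∈ h.P1 ↔
    Commute a z ∧ Commute a (rr κ 0) ∧ (ρ a).s = 1 ∧ ∀ i, (ρ a).m i • a0 = a0 := Iff.rfl

theorem Act.mul {n n' : G} {w w' : F5 → F5} (h : Act ψ j n w) (h' : Act ψ j n' w') :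
    Act ψ j (n * n') (w ∘ w') := fun x => by
  rw [Function.comp, ← h, ← h']; group

theorem AK.mul {n n' : G} {w w' : F5 → F5} (h : AK ψ κ j n w) (h' : AK ψ κ j n' w') :
    AK ψ κ j (n * n') (w ∘ w') :=
  ⟨h.act.mul h'.act, h.cr.mul_left h'.cr, by rw [Function.comp, h'.fix, h.fix], fun x y => by
    rw [Function.comp, Function.comp, h.iso, h'.iso]⟩

theorem AK.one : AK ψ κ j 1 id := ⟨fun x => by simp, Commute.one_left _, rfl, fun _ _ => rfl⟩

theorem AK.cρ {n : G} {w : F5 → F5} (h : AK ψ κ j n w) : Commute n (rho ψ 0) :=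
  comm_of_conj (by rw [← Bj.io_er (j := j), h.act, h.fix])

theorem AK.sc0 {n : G} {w : F5 → F5} (h : AK ψ κ j n w) (x : F5) : sc (w x) 0 = sc x 0 := by
  rw [← bb_er, ← bb_er, ← h.iso (er 0) x, h.fix]

theorem AK.inj {n : G} {w : F5 → F5} (h : AK ψ κ j n w) : Function.Injective w := fun x y e => by
  have k : ∀ u, bb u x = bb u y := fun u => by rw [← h.iso, e, h.iso]
  refine Prod.ext ?_ (Prod.ext ?_ (Prod.ext ?_ (Prod.ext ?_ ?_)))
  · simpa [bb, ej] using k ej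
  · simpa [bb, er] using k (er 0)
  · simpa [bb, er] using k (er 1)
  · simpa [bb, er] using k (er 2)
  · simpa [bb, ez] using k ez

theorem AK.surj {n : G} {w : F5 → F5} (h : AK ψ κ j n w) : Function.Surjective w :=
  Finite.injective_iff_surjective.1 h.inj

theorem AK.zero {n : G} {w : F5 → F5} (h : AK ψ κ j n w) : w 0 = 0 := by
  have k : ∀ u, bb u (w 0) = 0 := fun u => by
    obtain ⟨u, rfl⟩ := h.surj u
    rw [h.iso]; simp [bb]
  refine Prod.ext ?_ (Prod.ext ?_ (Prod.ext ?_ (Prod.ext ?_ ?_)))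
  · simpa [bb, ej] using k ej
  · simpa [bb, er] using k (er 0)
  · simpa [bb, er] using k (er 1)
  · simpa [bb, er] using k (er 2)
  · simpa [bb, ez] using k ez

theorem AK.sing {n : G} {w : F5 → F5} (h : AK ψ κ j n w) {y : F5} : Sing (w y) ↔ Sing y := by
  rw [Sing, Sing, qq, qq, h.iso, h.sc0, ← h.inj.ne_iff (x := y), h.zero]

theorem AK.inv {n : G} {w : F5 → F5} (h : AK ψ κ j n w) :
    ∃ w', AK ψ κ j n⁻¹ w' ∧ (∀ x, w' (w x) = x) ∧ ∀ x, w (w' x) = x := by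
  let e := Equiv.ofBijective w ⟨h.inj, h.surj⟩
  have e1 : ∀ x, w (e.symm x) = x := e.apply_symm_apply
  have e2 : ∀ x, e.symm (w x) = x := e.symm_apply_apply
  exact ⟨e.symm, ⟨fun x => by
    conv_lhs => rw [← e1 x, ← h.act]
    group, h.cr.inv_left, by conv_lhs => rw [← h.fix, e2], fun x y => by rw [← h.iso, e1, e1]⟩, e2, e1⟩

theorem AK.cj_RY [Finite G] {n : G} {w : F5 → F5} (h : AK ψ κ j n w) (y : F5) :
    cj(n, RY ψ κ j y) = RY ψ κ j (w y) := by
  have k : ∀ {n : G} {w : F5 → F5}, AK ψ κ j n w → ∀ y, cj(n, RY ψ κ j y) ≤ RY ψ κ j (w y) := by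
    intro n w h y
    have e : cj(n, centralizer {rr κ 0} ⊓ centralizer {io ψ j y}) =
        centralizer {rr κ 0} ⊓ centralizer {io ψ j (w y)} := by
      ext g
      rw [mem_cj, mem_inf, mem_inf, mem_cent, mem_cent, mem_cent, mem_cent, ← h.act]
      have a := comm_conj_iff (g := n⁻¹) (x := g) (a := rr κ 0)
      have b := comm_conj_iff (g := n⁻¹) (x := g) (a := io ψ j y)
      rw [inv_inv, conj_of_comm h.cr] at a
      rw [inv_inv] at b
      rw [a, b]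
    refine le_Op' (e ▸ cj_mono n (RY_le y)) ?_ ?_
    · rw [normalizer_cj, ← e]; exact cj_mono n (le_norm_Op' _ _)
    · rw [card_cj]; exact coprime_Op' _ _
  obtain ⟨w', h1, h2, -⟩ := h.inv
  refine le_antisymm (k h y) ?_
  have := cj_mono n (k h1 (w y))
  rwa [cj_cj_inv, h2] at this

end Cfsg.Agent.E63
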