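import Cfsg.Agent.E63.GV6
import Cfsg.Agent.E62.GC

/-! A homomorphism from `²E₆(2)` to `G` (copy of `E62/GC`). -/

set_option autoImplicit false

namespace Cfsg.Agent.E63

open Cfsg.Agent.Comp Cfsg.Agent.Comp.BM Cfsg.Agent.WG Cfsg.Agent.E62 Subgroup Cfsg.Agent.TT Cfsg.Agent.XSC
  Cfsg.Agent.Chev Cfsg.Agent.Chev.BN
open scoped commutatorElement

namespace F6

variable {G M : Type*} [Group G] [Group M] [Finite G] [Finite M] {z : G} {ψ : ES →* G} {α : G → L}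
  {P : Subgroup G} {y : ℕ → M} {B : Cfsg.BNPair M} {e : Fin 4 → B.S} {ψ0 : ES →* M} {α0 : M → L}

theorem exists_GC (h : Pr6 z ψ α P) (m : Mt y B e ψ0 α0) : ∃ ΓV ΓC : Subgroup (G × M), Gr ΓV ∧ Gr ΓC ∧ Gl ΓC ∧
    (∀ c, c * y 40 = y 40 * c → ∃ γ ∈ ΓC, γ.2 = c) ∧ (∀ f, ψ.prod ψ0 f ∈ ΓC ⊓ ΓV) ∧
    cl y (E62.nw 2 :: E62.nw 3 :: hw :: E62.pos) ≤ (ΓC ⊓ ΓV).map (MonoidHom.snd G M) ∧ ∃ γ ∈ ΓV, γ.2 = y 80 := by
  have h0 := m.st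
  obtain ⟨ρ, Γ, g1, g2, g3, g4, g5, g6, g7⟩ := exists_GV h h0 m.rho m.le1 fun u hu => by
    obtain ⟨k, hk, h1, rfl⟩ : ∃ k < 19, 42 + 2 * k ∈ sl ∧ u = [2 * k] := by revert u; decide
    exact ⟨_, m.gd _ h1, by simpa using (m.al k hk).2⟩
  choose! Y Y1 Y2 using fun a ha => g7 _ (m.gd a ha)
  generalize hρ : (ρ, y 38 * y 80) = r at *
  have r2 : r.2 = y 38 * y 80 := hρ ▸ rfl
  have hA : ∀ k < 9, ∃ f : ES, f.v ∈ SP ∧ (r * ψ.prod ψ0 f * r⁻¹).2 = y (54 + 2 * k) := fun k hk =>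
    let ⟨f, a, b⟩ := m.aa k hk; ⟨f, a, by rw [b, ← r2]; rfl⟩
  let N := NN ψ ψ0
  let a : N →* L := MonoidHom.mk' (fun γ => α0 γ.1.2) fun b c => h0.mul (NN_z0 h0 b.2) (NN_z0 h0 c.2)
  have ra : a.range = Mb := le_antisymm (by rintro _ ⟨γ, rfl⟩; exact m.le1 _ (NN_z0 h0 γ.2)) fun g hg => by
    obtain ⟨c, h1, rfl⟩ := h0.onto g hg
    obtain ⟨d, hd⟩ := NN_onto h.toS6 h0 h1 hg
    exact ⟨⟨_, hd⟩, rfl⟩
  obtain ⟨s, hs⟩ := exists_sign (U := T1.comap a) (Λ := Γ.subgroupOf N) (t := ⟨_, z_mem_NN h.toS6⟩)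
    (fun g => Subtype.ext (Prod.ext (NN_z h.toS6 g.2) (by simp))) (Subtype.ext (Prod.ext h.zz (by simp)))
    (fun e => h.xs.z_ne (congrArg Prod.fst (g1 _ e rfl))) (by
      have := Grp.card_mul_relIndex T1_le_Mb
      rw [card_T1, card_Mb] at this
      rw [index_comap, ra, show T1.relIndex Mb = 280665 by omega]; decide) fun γ hγ => by
      obtain ⟨l, h1, h2⟩ := (cl_le_iff.2 (fun u hu => by
        obtain ⟨k, hk, rfl, h1 | ⟨j, hj, rfl⟩⟩ : ∃ k < 19, u = [2 * k] ∧ (42 + 2 * k ∈ sl ∨ ∃ j < 9, k = 6 + j) := by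
          revert u; decide
        · exact ⟨⟨_, (Y1 _ h1).1⟩, g4 (Y1 _ h1), by simpa [a, Y2 _ h1] using (m.al k hk).2⟩
        · obtain ⟨f, h1, h2⟩ := hA j hj
          exact ⟨⟨_, g5 f h1⟩, mul_mem (mul_mem g3 (g2 f)) (inv_mem g3), by
            change α0 _ = _
            rw [h2, show 54 + 2 * j = 42 + 2 * (6 + j) by ring, (m.al _ (by omega)).2]; simp⟩) :
        T1 ≤ (Γ.subgroupOf N).map a) hγ
      obtain ⟨f, hf⟩ := h0.ker _ (NN_z0 h0 (l⁻¹ * γ).2) (show a _ = 1 by rw [map_mul, map_inv, h2, inv_mul_cancel])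
      have h3 := mul_mem (inv_mem (d_mem f)) (l⁻¹ * γ).2
      have h4 : (ψ.prod ψ0 f)⁻¹ * (l⁻¹ * γ : N).1 = ((ψ f)⁻¹ * (l⁻¹ * γ : N).1.1, 1) := Prod.ext rfl (by simp [hf])
      rw [h4] at h3
      have h5 := Γ.mul_mem h1 (g2 f)
      refine (NN_ker h.toS6 h0 h3).imp (fun e => ?_) fun e => ?_ <;> rw [e] at h4
      · rwa [inv_mul_eq_one.1 h4, coe_mul, coe_inv, coe_subtype, mul_inv_cancel_left] at h5
      · rw [inv_mul_eq_iff_eq_mul, coe_mul, coe_inv, inv_mul_eq_iff_eq_mul] at h4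
        rw [mem_subgroupOf, coe_mul, h4, mul_assoc, mul_assoc, coe_mk, Prod.mk_mul_mk z, h.zz, mul_one,
          Prod.mk_one_one, mul_one]
        exact h5
  let C := s.ker.map N.subtype
  have zC : (z, 1) ∉ C := fun ⟨γ, h1, h2⟩ => by
    obtain rfl : γ = ⟨_, z_mem_NN h.toS6⟩ := Subtype.ext h2
    exact absurd (hs.symm.trans h1) (by decide)
  have cN : C ≤ N := map_subtype_le _
  have cm : ∀ b ∈ N, ∀ c ∈ N, b * c * b⁻¹ * c⁻¹ ∈ C := fun b hb c hc =>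
    ⟨⟨b, hb⟩ * ⟨c, hc⟩ * (⟨b, hb⟩ : N)⁻¹ * (⟨c, hc⟩ : N)⁻¹, by
      rw [SetLike.mem_coe, MonoidHom.mem_ker, map_mul, map_mul, map_mul, map_inv, map_inv, mul_inv_cancel_comm,
        mul_inv_cancel], rfl⟩
  have dC : ∀ f, ψ.prod ψ0 f ∈ C := fun f => by
    have hz : zE ∈ C.comap (ψ.prod ψ0) := by
      have := cm _ (d_mem (eE 19)) _ (d_mem (eE 0))
      rwa [← map_inv, ← map_inv, ← map_mul, ← map_mul, ← map_mul, conj_e19 _ (by decide), ESM.z_comm,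
        mul_inv_cancel_right] at this
    refine (mem_im (hz := hz)).1 (span_cm (fun g hg v => ?_) _)
    obtain ⟨γ, rfl⟩ := ra.ge hg
    obtain ⟨f, h1, h2⟩ := mem_NN.1 γ.2 ⟨v, 0⟩
    have := cm _ γ.2 _ (d_mem ⟨v, 0⟩)
    rw [show γ.1 * ψ.prod ψ0 ⟨v, 0⟩ * γ.1⁻¹ = ψ.prod ψ0 f from Prod.ext h1 h2, ← map_inv, ← map_mul] at this
    have h3 := (mem_im (hz := hz)).2 this
    rwa [ESM.mul_v, ESM.inv_v, h0.act_v (NN_z0 h0 γ.2) h2, CharTwo.neg_eq] at h3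
  have rC : ∀ f : ES, f.v ∈ SP → r * ψ.prod ψ0 f * r⁻¹ ∈ C := fun f hf => by
    have k : ∀ f : ES, f.v ∈ W0 → f ∈ C.comap ((MulAut.conj r).toMonoidHom.comp (ψ.prod ψ0)) := fun f hf => by
      obtain ⟨f', e⟩ := g6 f hf
      exact show r * ψ.prod ψ0 f * r⁻¹ ∈ C from e ▸ dC f'
    refine (mem_im (hz := k zE (zero_mem _))).1 (SP_le' (fun v hv => k ⟨v, 0⟩ hv) (fun g hg v hv => ?_) hf)
    obtain ⟨γ, h1, rfl⟩ := (cl_le_iff.2 (fun u hu => by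
      obtain ⟨k, hk, h1, rfl⟩ : ∃ k < 19, 42 + 2 * k ∈ sl ∧ u = [2 * k] := by revert u; decide
      exact ⟨⟨_, (Y1 _ h1).1⟩, (Y1 _ h1).2, by simpa [a, Y2 _ h1] using (m.al k hk).2⟩) :
      SS ≤ ((centralizer {r}).subgroupOf N).map a) hg
    obtain ⟨f, h2, h3⟩ := mem_NN.1 γ.2 ⟨v, 0⟩
    have := cm _ γ.2 _ (g5 ⟨v, 0⟩ hv)
    have h4 : γ.1 * r = r * γ.1 := mem_centralizer_singleton_iff.1 h1
    rw [show γ.1 * (r * ψ.prod ψ0 ⟨v, 0⟩ * r⁻¹) * γ.1⁻¹ = r * ψ.prod ψ0 f * r⁻¹ by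
      rw [← show γ.1 * ψ.prod ψ0 ⟨v, 0⟩ * γ.1⁻¹ = ψ.prod ψ0 f from Prod.ext h2 h3, ← mul_assoc, ← mul_assoc, h4,
        mul_assoc _ r⁻¹, ← mul_inv_rev, h4]; group, conj_inv, conj_mul, ← map_inv, ← map_mul] at this
    have h5 := (mem_im (hz := k zE (zero_mem _))).2 this
    rwa [ESM.mul_v, ESM.inv_v, h0.act_v (NN_z0 h0 γ.2) h3, CharTwo.neg_eq] at h5
  have w1 : ∀ w : List ℕ, (∀ i ∈ w, i ∈ sl) → el Y w ∈ N ⊓ centralizer {r} ∧ (el Y w).2 = el y w := fun w hw => by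
    induction w with
    | nil => exact ⟨one_mem _, rfl⟩
    | cons i w ih =>
      obtain ⟨h1, h2⟩ := List.forall_mem_cons.1 hw
      exact ⟨mul_mem (Y1 i h1) (ih h2).1, by rw [el_cons, el_cons, Prod.snd_mul, Y2 i h1, (ih h2).2]⟩
  have YC : ∀ i ∈ sl, Y i ∈ C := fun i hi => by
    obtain ⟨g, b, c, h1, h2⟩ := m.perf i hi
    simp only [List.forall_mem_append] at h1
    obtain ⟨⟨a1, a2⟩, ⟨b1, b2⟩, c1, c2⟩ := And.intro (w1 g h1.1) (And.intro (w1 b h1.2.1) (w1 c h1.2.2))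
    rw [(g1.mono g4).eq (Y1 i hi) (mul_mem (mul_mem a1 (mul_mem (mul_mem (mul_mem b1 c1) (inv_mem b1)) (inv_mem c1)))
      (inv_mem a1)) (by simp [Y2 i hi, h2, a2, b2, c2, commutatorElement_def])]
    convert cm _ (conj_mem_of_norm (le_normalizer a1.1) b1.1) _ (conj_mem_of_norm (le_normalizer a1.1) c1.1) using 1
    group
  have w2 : ∀ w : List ℕ, (∀ i ∈ w, i ∈ sl) → el y w ∈ (C ⊓ Γ).map (MonoidHom.snd G M) := fun w hw =>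
    list_prod_mem (List.forall_mem_map.2 fun i hi => ⟨_, ⟨YC i (hw i hi), g4 (Y1 i (hw i hi))⟩, Y2 i (hw i hi)⟩)
  refine ⟨Γ, C, g1, fun ⟨c, _⟩ hγ e => ?_, fun ⟨_, c⟩ hγ e => ?_, fun c hc => ?_, fun f => ⟨dC f, g2 f⟩,
    cl_le_iff.2 fun u hu => ?_, _, mul_mem (g2 (eE 19)) g3, ?_⟩
  · obtain rfl : _ = 1 := e
    rcases NN_ker h.toS6 h0 (cN hγ) with rfl | rfl
    exacts [rfl, (zC hγ).elim]
  · obtain rfl : _ = 1 := e
    rcases NN_ker0 h.toS6 h0 (cN hγ) with rfl | rfl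
    · rfl
    · exact (zC (by simpa [h.z_eq, h0.z_eq] using mul_mem (dC zE) (inv_mem hγ))).elim
  · obtain ⟨d, hd⟩ := NN_onto h.toS6 h0 hc (m.le1 c hc)
    rcases Int.units_eq_one_or (s ⟨_, hd⟩) with e | e
    · exact ⟨_, ⟨⟨_, hd⟩, e, rfl⟩, rfl⟩
    · exact ⟨(d * z, c * 1), ⟨(⟨_, hd⟩ : N) * ⟨(z, 1), z_mem_NN h.toS6⟩, by
        rw [SetLike.mem_coe, MonoidHom.mem_ker, map_mul, e, hs]; decide, rfl⟩, mul_one c⟩
  · rcases (show (∀ i ∈ u, i ∈ sl) ∨ (∃ i : Fin 20, u = [2 * (i : ℕ)]) ∨ u = [40] ∨ ∃ k < 9, u = [54 + 2 * k] by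
      revert u; decide) with h1 | ⟨i, rfl⟩ | rfl | ⟨k, hk, rfl⟩
    · exact w2 u h1
    · exact ⟨_, ⟨dC (eE i), g2 _⟩, by simp [m.psi]⟩
    · exact ⟨_, ⟨dC zE, g2 _⟩, by simp [h0.z_eq]⟩
    · obtain ⟨f, h1, h2⟩ := hA k hk
      exact ⟨_, ⟨rC f h1, Γ.mul_mem (Γ.mul_mem g3 (g2 f)) (Γ.inv_mem g3)⟩, by simpa using h2⟩
  · have : ψ0 (eE 19) = y 38 := m.psi 19
    rw [Prod.snd_mul, r2, ← this, ← mul_assoc]
    exact mul_eq_right.2 (sq_e ψ0 19)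

theorem exists_f (h : Pr6 z ψ α P) (m : Mt y B e ψ0 α0) : ∃ f : M →* G, ∀ a, f (ψ0 a) = ψ a := by
  obtain ⟨V, C, gV, gC, lC, hC, hd, hB, γ0, g0, e0⟩ := exists_GC h m
  have h0 := m.st
  let D := C ⊓ B.B.comap (MonoidHom.snd G M)
  have k1 : ∀ b ∈ B.B, ∃ γ ∈ C ⊓ V, γ.2 = b := fun b hb =>
    hB (cl_mono (fun _ hu => .tail _ (.tail _ hu)) (m.B_eq ▸ hb))
  have DV : D ≤ V := fun γ hγ => let ⟨_, h1, h2⟩ := k1 _ hγ.2; gC.eq h1.1 hγ.1 h2 ▸ h1.2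
  have ps : ∀ i < 20, (ψ.prod ψ0 (eE i)).2 = y (2 * i) := fun i hi => m.psi ⟨i, hi⟩
  have pB : ∀ a, [a] ∈ E62.pos → y a ∈ B.B := fun a ha => by simpa [m.B_eq] using el_mem_cl (x := y) (.tail hw ha)
  obtain ⟨ν, n1, n2, n3⟩ : ∃ ν : Fin 4 → G × M, (∀ i, (ν i).2 = el y (E62.nw i)) ∧ (∀ i, i ≠ 0 → ν i ∈ C) ∧
      ∀ i, i ≠ 1 → ν i ∈ V := by
    obtain ⟨ν1, a1, a2⟩ := hC (el y (E62.nw 1)) (by
      simpa [E62.nw, mul_assoc] using comm_mul_left (m.al 6 (by omega)).1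
        (comm_mul_left (m.al 15 (by omega)).1 (m.al 6 (by omega)).1))
    obtain ⟨ν2, b1, b2⟩ := hB (el_mem_cl (.head _))
    obtain ⟨ν3, c1, c2⟩ := hB (el_mem_cl (.tail _ (.head _)))
    refine ⟨![ψ.prod ψ0 (eE 19) * γ0 * ψ.prod ψ0 (eE 19), ν1, ν2, ν3], fun i => ?_, fun i hi => ?_, fun i hi => ?_⟩ <;>
      fin_cases i
    exacts [by simp [E62.nw, e0, ← ps 19 (by omega), mul_assoc], a2, b2, c2, (hi rfl).elim, a1, b1.1, c1.1,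
      mul_mem (mul_mem (hd _).2 g0) (hd _).2, (hi rfl).elim, b1.2, c1.2]
  let Γ : Fin 4 → Subgroup (G × M) := fun i => if i = 0 then V else C
  have nΓ : ∀ i, ν i ∈ Cl e Γ i := fun i => ⟨by
    by_cases hi : i = 0
    · simpa [Γ, hi] using n3 0 (by decide)
    · simpa [Γ, hi] using n2 i hi, n1 i ▸ m.md.cell i⟩
  have am : Am B e D Γ := ⟨m.md.bij, fun i => by dsimp only [Γ]; split_ifs; exacts [DV, inf_le_left],
    fun i => by dsimp only [Γ]; split_ifs; exacts [gV, gC], gC.mono inf_le_left, fun γ hγ => hγ.2,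
    fun b hb => let ⟨γ, h1, h2⟩ := k1 b hb; ⟨γ, ⟨h1.1, show γ.2 ∈ B.B from h2 ▸ hb⟩, h2⟩, fun i => ⟨_, nΓ i⟩⟩
  obtain ⟨x1, a1, a2⟩ := am.onto _ (pB 54 (by decide))
  have dD : ∀ i < 20, ψ.prod ψ0 (eE i) ∈ D := fun i hi => ⟨(hd _).1, show (_ : G × M).2 ∈ B.B from
    ps i hi ▸ pB _ (by revert i; decide)⟩
  have v0 := n3 0 (by decide)
  have v1 := n2 1 (by decide)
  have s0 : ν 0 * ν 0 = 1 := gV _ (mul_mem v0 v0) (by rw [Prod.snd_mul, n1, m.n0])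
  have s1 : ν 1 * ν 1 = 1 := gC _ (mul_mem v1 v1) (by rw [Prod.snd_mul, n1, m.n1])
  have hbr : ν 0 * ν 1 * ν 0 = ν 1 * ν 0 * ν 1 := by
    let O := D ⊓ (cl y os).comap (MonoidHom.snd G M)
    have oB : cl y os ≤ B.B := m.B_eq ▸ cl_mono (by decide)
    have no : ∀ i, el y (E62.nw i) ∈ normalizer (cl y os : Set M) → ν i ∈ normalizer (O : Set (G × M)) := fun i hi =>
      mem_normalizer_fintype fun γ hγ => by
        have : (ν i * γ * (ν i)⁻¹).2 ∈ cl y os := conj_mem_of_norm (n1 i ▸ hi) hγ.2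
        exact ⟨am.mem_B (mul_mem (mul_mem (nΓ i).1 (am.le i hγ.1)) (inv_mem (nΓ i).1)) (oB this), this⟩
    have no2 := mul_mem (no 0 m.o0) (no 1 m.o1)
    have y2 : ((ν 0 * ν 1) ^ 3).2 = 1 := by rw [Prod.pow_snd, Prod.snd_mul, n1, n1, m.n01]
    have dO : ∀ f : ES, f.v ∈ Sp 20 262143 → ψ.prod ψ0 f ∈ O := fun f hf => by
      have hz : zE ∈ O.comap (ψ.prod ψ0) := by
        have : (ψ.prod ψ0 zE).2 ∈ cl y os := by simpa [h0.z_eq] using el_mem_cl (x := y) (show [40] ∈ os by decide)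
        exact ⟨⟨(hd _).1, oB this⟩, this⟩
      refine (mem_im (hz := hz)).1 (Sp_le (fun i hi e => (mem_im (hz := hz) (e := eE i)).2 ⟨dD i hi, ?_⟩) hf)
      simpa [← ps i hi] using el_mem_cl (x := y) (show [2 * i] ∈ os by revert i; decide)
    have cy : ∀ f : ES, f.v ∈ Sp 20 262143 → ((ν 0 * ν 1) ^ 3).1 * ψ f = ψ f * ((ν 0 * ν 1) ^ 3).1 := fun f hf =>
      mul_inv_eq_iff_eq_mul.1 (congrArg Prod.fst (gC.eq (conj_mem_of_norm (pow_mem no2 3) (dO f hf)).1.1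
        (hd f).1 (by rw [Prod.snd_mul, Prod.snd_mul, Prod.snd_inv, y2]; simp)))
    obtain ⟨w, -, w1⟩ := h.cent_E fun f hf => cy f (Sp_mono (by decide +kernel) hf)
    have w2 : w.v ∈ Sp 20 3 := mem_Sp_of_B0 fun i hi => (h.comm_iff (a := eE (du i))).1 (by
      rw [← w1, cy _ (vec_mem_Sp (by revert i; decide +kernel))])
    have w3 := lC.eq (conj_mem_of_norm no2 (dO w (Sp_mono (by decide +kernel) w2))).1.1 (hd w).1 (by
      change (ν 0 * ν 1).1 * ψ w * (ν 0 * ν 1).1⁻¹ = ψ w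
      rw [← w1, Prod.pow_fst, ((Commute.refl _).pow_right 3).eq, mul_inv_cancel_right])
    have c1 : ν 1 * ψ.prod ψ0 (eE 19) * (ν 1)⁻¹ = ψ.prod ψ0 (eE 18) :=
      gC.eq (mul_mem (mul_mem v1 (hd _).1) (inv_mem v1)) (hd _).1 (by
        rw [Prod.snd_mul, Prod.snd_mul, Prod.snd_inv, n1, ps 19 (by omega), ps 18 (by omega), m.c1])
    have c0 : ν 0 * ψ.prod ψ0 (eE 18) * (ν 0)⁻¹ = x1 :=
      gV.eq (mul_mem (mul_mem v0 (hd _).2) (inv_mem v0)) (DV a1) (by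
        rw [Prod.snd_mul, Prod.snd_mul, Prod.snd_inv, n1, ps 18 (by omega), a2, m.c0])
    have c3 : (ν 0 * ψ.prod ψ0 (eE 19)) ^ 3 = 1 := gV _ (pow_mem (mul_mem v0 (hd _).2) 3) (by
      rw [Prod.pow_snd, Prod.snd_mul, n1, ps 19 (by omega), m.n0x])
    have c4 : ((ν 0 * ν 1) ^ 3 * ν 1 * x1) ^ 3 = 1 := by
      rw [show (ν 0 * ν 1) ^ 3 * ν 1 * x1 = ν 0 * ν 1 * (ν 0 * ψ.prod ψ0 (eE 19)) * (ν 0 * ν 1)⁻¹ by
        rw [← c0, ← c1, pow_three, mul_assoc _ _ (ν 1), mul_assoc _ _ (ν 1), mul_assoc _ _ (ν 1), s1]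
        simp only [mul_assoc, mul_inv_rev, mul_one, ← mul_assoc (ν 0) (ν 0), s0, ← mul_assoc (ν 1) (ν 1), s1, one_mul],
        conj_pow, c3, mul_one, mul_inv_cancel]
    have c5 := lC _ (pow_mem (mul_mem (mul_mem (hd w).1 v1) a1.1) 3) (by
      have := congrArg Prod.fst c4
      rwa [Prod.pow_fst, Prod.fst_mul, Prod.fst_mul, w1] at this)
    obtain rfl := m.pi w w2 (by simpa [n1] using congrArg Prod.snd w3) (by
      simpa [n1, a2] using congrArg Prod.snd c5)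
    have c6 : (ν 0 * ν 1) ^ 3 = 1 := Prod.ext (w1.trans (map_one _)) y2
    rw [← mul_inv_eq_one, ← c6, mul_inv_rev, mul_inv_rev, inv_eq_of_mul_eq_one_right s0,
      inv_eq_of_mul_eq_one_right s1, pow_three]
    simp only [mul_assoc]
  have i0 := inv_eq_of_mul_eq_one_right m.n0
  have i1 := inv_eq_of_mul_eq_one_right m.n1
  have t1 : (ν 1).2⁻¹ * (ψ.prod ψ0 (eE 19)).2 * (ν 1).2 = y 36 := by rw [n1, ps 19 (by omega), ← m.c1, i1]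
  have t2 : (ν 0).2⁻¹ * x1.2 * (ν 0).2 = y 36 := by rw [n1, a2, ← m.c0]; group
  obtain ⟨f, hf, -⟩ := am.exists_hom fun a b hab => by
    rcases (show a = 0 ∧ b = 1 ∨ a = 1 ∧ b = 0 ∨ a ≠ 0 ∧ b ≠ 0 ∨ a ≠ 1 ∧ b ≠ 1 by revert a b; decide) with
      ⟨rfl, rfl⟩ | ⟨rfl, rfl⟩ | ⟨p, q⟩ | ⟨p, q⟩
    · rw [m.md.ord]
      exact am.braid3 (nΓ 0) (nΓ 1) (dD 19 (by omega)) a1 (by rw [n1, ps 19 (by omega)]; exact m.Ha)
        (by rw [n1, a2]; exact m.Hb) (t1 ▸ pB 36 (by decide)) (t2 ▸ pB 36 (by decide))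
        (by rw [t1]; simpa only [n1, ← m.c0, i0] using pB 54 (by decide)) hbr
    · rw [← orderOf_inv, mul_inv_rev, involGen.inv_eq, involGen.inv_eq, m.md.ord]
      exact am.braid3 (nΓ 1) (nΓ 0) a1 (dD 19 (by omega)) (by rw [n1, a2]; exact m.Hb)
        (by rw [n1, ps 19 (by omega)]; exact m.Ha) (t2 ▸ pB 36 (by decide)) (t1 ▸ pB 36 (by decide))
        (by rw [t2, n1, ← m.c1]; simpa [mul_assoc] using pB 38 (by decide)) hbr.symm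
    · exact am.braid_of_le gC inf_le_left ⟨_, nΓ a, n2 a p⟩ ⟨_, nΓ b, n2 b q⟩
    · exact am.braid_of_le gV DV ⟨_, nΓ a, n3 a p⟩ ⟨_, nΓ b, n3 b q⟩
  have : closure (Set.range (fun i : Fin 20 => eE i) ∪ {zE}) ≤ D.comap (ψ.prod ψ0) := (closure_le _).2 (by
    rintro _ (⟨i, rfl⟩ | rfl)
    exacts [dD i i.2, ⟨(hd _).1, by simpa [h0.z_eq] using pB 40 (by decide)⟩])
  exact ⟨f, fun a => hf _ (this (closure_ES ▸ Subgroup.mem_top a))⟩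

end F6

end Cfsg.Agent.E63
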