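import Cfsg.Agent.E63.ScD
import Cfsg.Agent.E62.Md
import Cfsg.Agent.E62.Mt
import Cfsg.Agent.Class.U.Simple

/-! The normaliser of `U₆(2)` in `GL₂₀(2)`. -/

set_option autoImplicit false

namespace Cfsg.Agent.E63

open Cfsg.Agent.Comp Cfsg.Agent.Comp.BM Cfsg.Agent.E62 Subgroup Cfsg.Agent.PLocal.Amb

theorem card_norm : Nat.card (normalizer (Mb : Set L)) ∣ 6 * 9196830720 := by
  have := Fact.mk Nat.prime_two
  have hF : Fintype.card Class.GF4 = 4 := by decide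
  obtain ⟨e⟩ := exists_psu Class.GF4 hF
  obtain ⟨φ, h3, -, h4⟩ := S2603.result (K := Class.GF4) (p := 2) (f := 1) (q := 2) (n := 6) le_rfl rfl hF
    (by norm_num) (by norm_num)
  have c1 : Nat.card (Cfsg.Out (Cfsg.PSU 6 Class.GF4 2)) = 6 := by
    rw [← φ.ker.card_mul_index, h4, index_ker, MonoidHom.range_eq_top.2 h3]; simp
  have c2 : Nat.card (MulAut Mb) ∣ 6 * 9196830720 := by
    rw [← Nat.card_congr (MulAut.congr e).toEquiv,
      card_eq_card_quotient_mul_card_subgroup (Cfsg.Inn _), c1, ← card_Mb, ← Nat.card_congr e.toEquiv]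
    exact Nat.mul_dvd_mul_left _ (card_range_dvd _)
  exact (card_dvd_of_injective Mb.normalizerMonoidHom ((injective_iff_map_eq_one _).2 fun a ha =>
    Subtype.ext (eq_one_of_cent fun b hb => mul_inv_eq_iff_eq_mul.1
      (congrArg (fun f : MulAut Mb => (f ⟨b, hb⟩ : L)) ha)))).trans c2

theorem Mb2_le_norm : Mb2 ≤ normalizer (Mb : Set L) := fun _ ht => (mem_Mb2 ht).elim (le_normalizer ·)
  fun h => by simpa using mul_mem (inv_mem sig_norm) (le_normalizer h)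

theorem klein6 {Q : Type*} [Group Q] [Finite Q] (h6 : Nat.card Q ∣ 6) {a b : Q} (a2 : a * a = 1)
    (b2 : b * b = 1) (c : a * b * (a * b) = 1) (na : a ≠ 1) (nb : b ≠ 1) : a * b = 1 := by
  by_contra n
  have := Fact.mk Nat.prime_two
  have cm : b * a = a * b := by
    have := inv_eq_of_mul_eq_one_right c
    rwa [mul_inv_rev, inv_eq_of_mul_eq_one_right a2, inv_eq_of_mul_eq_one_right b2] at this
  let K : Subgroup Q :=
    { carrier := {g | g * g = 1 ∧ g ∈ centralizer (centralizer ({a, b} : Set Q) : Set Q) ∧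
        g ∈ centralizer ({a, b} : Set Q)}
      one_mem' := ⟨mul_one _, one_mem _, one_mem _⟩
      mul_mem' := fun {g h} hg hh => ⟨by
        rw [mul_assoc, ← mul_assoc h, hg.2.1 h hh.2.2, mul_assoc, hh.1, mul_one, hg.1],
        mul_mem hg.2.1 hh.2.1, mul_mem hg.2.2 hh.2.2⟩
      inv_mem' := fun {g} hg => ⟨by rw [← mul_inv_rev, hg.1, inv_one], inv_mem hg.2.1, inv_mem hg.2.2⟩ }
  have ha : a ∈ K := ⟨a2, fun g hg => (hg a (Or.inl rfl)).symm, by
    rintro g (rfl | rfl)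
    exacts [rfl, cm]⟩
  have hb : b ∈ K := ⟨b2, fun g hg => (hg b (Or.inr rfl)).symm, by
    rintro g (rfl | rfl)
    exacts [cm.symm, rfl]⟩
  obtain ⟨k, hk⟩ := (IsPGroup.iff_card (p := 2) (G := K)).1 fun g => ⟨1, Subtype.ext (by simpa [sq] using g.2.1)⟩
  have h1 := hk ▸ (card_subgroup_dvd_card K).trans h6
  have := Fintype.ofFinite K
  have h2 : 2 < Fintype.card K := Fintype.two_lt_card_iff.2 ⟨1, ⟨a, ha⟩, ⟨b, hb⟩,
    fun e => na (congrArg Subtype.val e).symm, fun e => nb (congrArg Subtype.val e).symm,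
    fun e => n (by rw [show a = b from congrArg Subtype.val e, b2])⟩
  rw [← Nat.card_eq_fintype_card, hk] at h2
  have h3 : 2 ≤ k := by
    by_contra h; interval_cases k <;> omega
  exact absurd ((pow_dvd_pow 2 h3).trans h1) (by norm_num)

theorem cube6 {Q : Type*} [Group Q] [Finite Q] (h6 : Nat.card Q ∣ 6) {a b : Q} (a2 : a * a = 1)
    (b2 : b * b = 1) (na : a ≠ 1) (nb : b ≠ 1) : (a * b) ^ 3 = 1 := by
  by_contra n
  have ia := inv_eq_of_mul_eq_one_right a2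
  have ib := inv_eq_of_mul_eq_one_right b2
  have c2 : (a * b) ^ 3 * (a * b) ^ 3 = 1 := by
    rw [← pow_add]; exact orderOf_dvd_iff_pow_eq_one.1 ((_root_.orderOf_dvd_natCard _).trans h6)
  have e1 : a * (a * b) * a⁻¹ = (a * b)⁻¹ := by rw [← mul_assoc, a2, mul_inv_rev, ib, one_mul]
  have e2 : b * (a * b) * b⁻¹ = (a * b)⁻¹ := by rw [mul_inv_rev, ia, ib, mul_assoc, mul_assoc, b2, mul_one]
  have k : ∀ {t : Q}, t * t = 1 → t ≠ 1 → t * (a * b) * t⁻¹ = (a * b)⁻¹ → t = ((a * b) ^ 3)⁻¹ := fun {t} t2 nt e =>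
    eq_inv_of_mul_eq_one_left (klein6 h6 t2 c2 (by
      rw [← mul_assoc]
      nth_rw 2 [← inv_eq_of_mul_eq_one_right t2]
      rw [← conj_pow, e, inv_pow, inv_mul_cancel]) nt n)
  exact n (by rw [(k a2 na e1).trans (k b2 nb e2).symm, b2, one_pow])

/-- `c3` in `E62.out_lem` with `F = Class.GF4`. -/
theorem index6 : Mb.relIndex (normalizer (Mb : Set L)) ∣ 6 := by
  have := (Grp.card_mul_relIndex (le_normalizer (H := Mb))).dvd.trans card_norm
  rw [card_Mb, mul_comm 6] at this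
  exact Nat.dvd_of_mul_dvd_mul_left (by norm_num) this

/-- `s` in `E62.out_lem`. -/
theorem sylT2 : IsSyl 2 T2 (normalizer (Mb : Set L)) := by
  have := Fact.mk Nat.prime_two
  have l := T2_le_Mb2.trans Mb2_le_norm
  have s : WG.SylIn 2 T2 (normalizer (Mb : Set L)) := ⟨l, IsPGroup.of_card card_T2, fun h => by
    have := (Nat.mul_dvd_mul_left _ h).trans ((Grp.card_mul_relIndex l).dvd.trans card_norm)
    rw [card_T2] at this
    norm_num at this⟩
  exact isSyl_of_sylow_eq l s.syl rfl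

/-- `exists_md Class.GF4`, `Md.exists_mt`, `St.onto`, `Pre.form` (see `E62.recog`). -/
theorem form_Mb {g : L} (hg : g ∈ Mb) (v : V) : β0 (g.1 v) (g.1 v) = β0 v v := by
  obtain ⟨y, P, e, md⟩ := exists_md Class.GF4 (by decide)
  have : Finite (Lie.twistedE6 Class.GF4 2) := Nat.finite_of_card_ne_zero (by rw [md.card]; norm_num)
  obtain ⟨ψ0, α0, m⟩ := md.exists_mt
  obtain ⟨c, hc, rfl⟩ := m.st.onto g hg
  exact m.st.form hc v

/-- `forms_eq form_Mb` for `b v w = B0 (n v) (n w)`, `q v = β0 (n v) (n v)`. -/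
theorem form_norm {n : L} (hn : n ∈ normalizer (Mb : Set L)) (v : V) :
    β0 (n.1 v) (n.1 v) = β0 v v := by
  have k : ∀ g : L, ∀ v, n.1 (g.1 v) = (n * g * n⁻¹).1 (n.1 v) := fun g v => by
    rw [← Module.End.mul_apply, ← Module.End.mul_apply, ← Units.val_mul, ← Units.val_mul, inv_mul_cancel_right]
  have k2 : ∀ w, n.1 ((n⁻¹).1 w) = w := fun w => by
    rw [← Module.End.mul_apply, ← Units.val_mul, mul_inv_cancel]; rfl
  refine (forms_eq (fun g hg => form_Mb hg) (b := fun v w => B0 (n.1 v) (n.1 w)) (q := fun v => β0 (n.1 v) (n.1 v))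
    (fun u v w => ?_) (fun v w => B0_comm _ _) (fun v hv => ?_) (fun g hg v w => ?_) (fun v w => ?_)
    fun g hg v => ?_).2 v
  · simp only [B0, map_add, LinearMap.add_apply]; ring
  · have : n.1 v = 0 := funext fun i => by
      have := hv ((n⁻¹).1 (ee (du i)))
      rwa [k2, B0_comm, B0_ee, du_du] at this
    simpa [← Module.End.mul_apply] using congrArg (n⁻¹).1 this
  · rw [k g, k g, B0_inv (form_Mb ((mem_normalizer_iff.1 hn g).1 hg))]
  · simp only [B0, map_add, LinearMap.add_apply]; ring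
  · rw [k g, form_Mb ((mem_normalizer_iff.1 hn g).1 hg)]

/-- Conjugate `A` into `T2` by `n ∈ N(Mb)` (`sylT2`), `J0`: `nAn⁻¹ = AA ≤ Mb`, so `A ≤ Mb`, then `Jlem`. -/
theorem Jlem6 {A : Subgroup L} (hA : A ≤ normalizer (Mb : Set L)) (h2 : ∀ a ∈ A, a * a = 1)
    (hc : 2 ^ 9 ≤ Nat.card A) : ∃ g ∈ Mb, A.map (MulAut.conj g).toMonoidHom = AA := by
  have := Fact.mk Nat.prime_two
  obtain ⟨g, hg, h⟩ := sylT2.exists_cj_le (R := A) (fun a => ⟨1, Subtype.ext (by simpa [pow_two] using h2 a a.2)⟩) hA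
  have e : A.map (MulAut.conj g).toMonoidHom = AA := J0 h
    (by rintro _ ⟨a, ha, rfl⟩; rw [← map_mul, h2 a ha, map_one])
    (by rwa [card_map_of_injective (MulAut.conj g).injective])
  refine Jlem (fun a ha => Mb_le_Mb2 ?_) h2 hc
  exact (mem_normalizer_iff.1 hg a).2 (AA_le_Mb (e ▸ ⟨a, ha, rfl⟩))

/-- in the quotient of order dividing 6, a Klein four-group cannot occur -/
theorem out6 {a b : L} (ha : a ∈ normalizer (Mb : Set L)) (hb : b ∈ normalizer (Mb : Set L))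
    (a2 : a * a ∈ Mb) (b2 : b * b ∈ Mb) (c : a * b * (a * b) ∈ Mb) (na : a ∉ Mb) (nb : b ∉ Mb) :
    a * b ∈ Mb := by
  let f := QuotientGroup.mk' (Mb.subgroupOf (normalizer (Mb : Set L)))
  have m : ∀ t : normalizer (Mb : Set L), f t = 1 ↔ (t : L) ∈ Mb := fun t => QuotientGroup.eq_one_iff t
  exact (m (⟨a, ha⟩ * ⟨b, hb⟩)).1 (map_mul f _ _ ▸ klein6 index6 (map_mul f _ _ ▸ (m _).2 a2) (map_mul f _ _ ▸ (m _).2 b2)
    (by rw [← map_mul, ← map_mul]; exact (m _).2 c) (mt (m _).1 na) (mt (m _).1 nb))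

/-- in the quotient of order dividing 6, `āb̄` has odd order, so `ā`, `b̄` are conjugate by a power of it -/
theorem out6' {a b : L} (ha : a ∈ normalizer (Mb : Set L)) (hb : b ∈ normalizer (Mb : Set L))
    (a2 : a * a ∈ Mb) (b2 : b * b ∈ Mb) (na : a ∉ Mb) (nb : b ∉ Mb) :
    ∃ k : ℕ, (a * b) ^ k * a * ((a * b) ^ k)⁻¹ * b ∈ Mb := by
  let f := QuotientGroup.mk' (Mb.subgroupOf (normalizer (Mb : Set L)))
  have m : ∀ t : normalizer (Mb : Set L), f t = 1 ↔ (t : L) ∈ Mb := fun t => QuotientGroup.eq_one_iff t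
  have a3 : f ⟨a, ha⟩ * f ⟨a, ha⟩ = 1 := map_mul f _ _ ▸ (m _).2 a2
  have b3 : f ⟨b, hb⟩ * f ⟨b, hb⟩ = 1 := map_mul f _ _ ▸ (m _).2 b2
  have := cube6 index6 a3 b3 (mt (m _).1 na) (mt (m _).1 nb)
  refine ⟨1, (m ((⟨a, ha⟩ * ⟨b, hb⟩) ^ 1 * ⟨a, ha⟩ * ((⟨a, ha⟩ * ⟨b, hb⟩) ^ 1)⁻¹ * ⟨b, hb⟩)).1 ?_⟩
  simp only [map_mul, map_inv, pow_one, mul_inv_rev]
  rw [inv_eq_of_mul_eq_one_right a3, inv_eq_of_mul_eq_one_right b3, ← this, pow_three]
  simp only [mul_assoc]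

theorem simple_Mb : IsSimpleGroup Mb := by
  have : IsSimpleGroup (PSU 6 Class.GF4 2) := Class.U.isSimpleGroup_PSU (by norm_num) (by norm_num)
  exact W4.iso.elim fun e => e.symm.isSimpleGroup

theorem toS6 {G : Type*} [Group G] [Finite G] {z : G} {ψ : ES →* G} {α : G → L} (h : St z ψ α) :
    S6 z ψ α := by
  have := Fact.mk Nat.prime_two
  refine ⟨h.toPre, h.ker, fun c hc => Mb2_le_norm (h.le2 c hc), h.onto, fun B h1 h2 => ?_⟩
  obtain ⟨g, hg, k⟩ := (sylT2.mono T2_le_Mb2 Mb2_le_norm).exists_cj_le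
    (R := (B.subgroupOf (centralizer {z})).map h.αh) ((isPGroup_subgroupOf h2 _).map _) (by
      rintro _ ⟨c, -, rfl⟩; exact h.le2 c (mem_centralizer_singleton_iff.1 c.2))
  have k2 : ∀ b ∈ B, g * α b * g⁻¹ ∈ T2 := fun b hb =>
    k ⟨_, ⟨⟨b, mem_centralizer_singleton_iff.2 (h1 b hb)⟩, hb, rfl⟩, rfl⟩
  rcases mem_Mb2 hg with e | e
  · obtain ⟨c, hc, rfl⟩ := h.onto g e
    exact ⟨c, hc, fun b hb => h.cj hc (h1 b hb) ▸ k2 b hb⟩
  · obtain ⟨c, hc, e⟩ := h.onto _ e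
    refine ⟨c, hc, fun b hb => ?_⟩
    rw [h.cj hc (h1 b hb), e]
    simpa [mul_assoc] using mul_mem (mul_mem sig_mem (k2 b hb)) (inv_mem sig_mem)

end Cfsg.Agent.E63
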