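import Cfsg.Agent.E63.Out6
import Cfsg.Agent.E62.Rho

/-! The extraspecial group of a conjugate of `z` in `Q` (copy of `E62/Pr` for `S6`). -/

set_option autoImplicit false

namespace Cfsg.Agent.E63

open Cfsg.Agent.Comp Cfsg.Agent.Comp.BM Cfsg.Agent.WG Cfsg.Agent.E62 Subgroup Cfsg.Agent.TT Cfsg.Agent.XSC

variable {G : Type*} [Group G] {z : G} {ψ : ES →* G} {α : G → L}

theorem S6.lx (h : S6 z ψ α) : LX ψ.range z :=
  ⟨h.xs, fun c hc => h.ker c (hc z h.xs.z_mem).symm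
    (h.eq_one_of_fix (hc z h.xs.z_mem).symm fun e => (hc _ ⟨e, rfl⟩).symm), by
    rintro c hc _ ⟨e, rfl⟩
    obtain ⟨e', h1, -⟩ := h.act c hc e
    exact ⟨e', h1.symm⟩⟩

/-- the second extraspecial group -/
structure Pr6 (z : G) (ψ : ES →* G) (α : G → L) (P : Subgroup G) : Prop extends S6 z ψ α where
  pair : LXPair ψ.range P z (ψ (eE 0))
  sub : ∀ p ∈ P, p * z = z * p → α p ∈ AA
  sur : ∀ a ∈ AA, ∃ p ∈ P, p * z = z * p ∧ α p = a
  cardP : Nat.card P = 2 ^ 21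

theorem S6.norm [Finite G] (h : S6 z ψ α) {g : G} (hb : g * z * g⁻¹ ∈ ψ.range) (hne : g * z * g⁻¹ ≠ z) :
    ∃ c, c * z = z * c ∧ α c ∈ Mb ∧ c * g * z * (c * g)⁻¹ = ψ (eE 0) ∧
      Pr6 z ψ α (ψ.range.map (MulAut.conj (c * g)).toMonoidHom) := by
  have k8 : 8 < Nat.card ψ.range := by rw [h.card]; norm_num
  have p := h.lx.pair hb hne (h.lx.mem_map_conj_of_card k8 hb)
  have c1 := LES.card_image_mul p h.αh fun c => ⟨h.ker c (mem_centralizer_singleton_iff.1 c.2), fun ⟨e, he⟩ => by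
    change α c = 1; rw [← he, h.at_psi]⟩
  have c2 := LES.card_E_sq_le p
  rw [LES.card_map_conj, h.card] at c1
  rw [h.card, show 2 * 2 ^ 21 = (2 ^ 11) ^ 2 by norm_num, Nat.pow_le_pow_iff_left two_ne_zero] at c2
  obtain ⟨a, ha, e⟩ := Jlem6 (A := ((ψ.range.map (MulAut.conj g).toMonoidHom).subgroupOf _).map h.αh)
    (by rintro _ ⟨c, -, rfl⟩; exact h.nrm c (mem_centralizer_singleton_iff.1 c.2)) (by
      rintro _ ⟨c, hc, rfl⟩
      rw [← map_mul]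
      change α (c * c) = 1
      rcases p.hP.toXS.sq (x := c) hc with e | e <;> rw [e]
      · exact h.one
      · obtain ⟨e, he⟩ := hb
        rw [← he, h.at_psi]) (by nlinarith)
  obtain ⟨c, hc, rfl⟩ := h.onto a ha
  have key : ∀ d, d * z = z * d → α d = α c → (∀ p ∈ ψ.range.map (MulAut.conj (d * g)).toMonoidHom,
      p * z = z * p → α p ∈ AA) ∧ ∀ a ∈ AA, ∃ p ∈ ψ.range.map (MulAut.conj (d * g)).toMonoidHom,
      p * z = z * p ∧ α p = a := fun d hd e1 => by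
    refine ⟨fun p hp hz => e ▸ ⟨_, ⟨⟨d⁻¹ * p * d, mem_centralizer_singleton_iff.2
      (comm_mul_left (comm_mul_left (comm_inv_left hd) hz) hd)⟩, ?_, rfl⟩, ?_⟩, fun a ha => ?_⟩
    · rw [mem_map_conj_iff] at hp
      exact mem_map_conj_iff.2 (by simpa [mul_assoc] using hp)
    · change α c * α _ * (α c)⁻¹ = _
      rw [← e1, ← h.cj hd (comm_mul_left (comm_mul_left (comm_inv_left hd) hz) hd)]
      congr 1; group
    · obtain ⟨_, ⟨p, hp, rfl⟩, rfl⟩ := e.ge ha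
      have hz := mem_centralizer_singleton_iff.1 p.2
      refine ⟨d * p * d⁻¹, mem_map_conj_iff.2 (by simpa [mul_assoc] using mem_map_conj_iff.1 hp),
        comm_mul_left (comm_mul_left hd hz) (comm_inv_left hd), by rw [h.cj hd hz, e1]; rfl⟩
  have fin : ∀ d, d * z = z * d → α d = α c → d * g * z * (d * g)⁻¹ = ψ (eE 0) → ∃ c, c * z = z * c ∧
      α c ∈ Mb ∧ c * g * z * (c * g)⁻¹ = ψ (eE 0) ∧
      Pr6 z ψ α (ψ.range.map (MulAut.conj (c * g)).toMonoidHom) := fun d hd e1 e2 => by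
    have m : d * g * z * (d * g)⁻¹ ∈ ψ.range := ⟨_, e2.symm⟩
    refine ⟨d, hd, e1 ▸ ha, e2, h, e2 ▸ h.lx.pair m (fun e3 => ?_) (h.lx.mem_map_conj_of_card k8 m),
      (key d hd e1).1, (key d hd e1).2, by rw [LES.card_map_conj, h.card]⟩
    exact absurd (congrFun (congrArg ESM.v (h.inj (e2.symm.trans (e3.trans h.z_eq.symm)))) 0) (by decide)
  obtain ⟨s, hs⟩ := hb
  obtain ⟨s', h1, -⟩ := h.act c hc s
  have h2 : c * g * z * (c * g)⁻¹ = ψ s' := by rw [← h1, hs]; group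
  have h3 : s'.v = ee 0 := (fix_AA fun a ha => by
    obtain ⟨p, hp, hz, rfl⟩ := (key c hc rfl).2 a ha
    exact (h.act_v hz (by rw [← h2, (h.lx.map_conj (c * g)).z_comm p hp, mul_inv_cancel_right])).symm).resolve_left
    fun e => by
      rcases ESM.v_eq_zero_iff.1 e with rfl | rfl
      · exact h.xs.z_ne (conj_eq_one_iff.1 (h2.trans (map_one _)))
      · rw [h.z_eq] at h1
        exact hne (hs ▸ mul_left_cancel ((mul_inv_eq_iff_eq_mul.1 h1).trans hc.symm))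
  rcases ESM.eq_or_of_v_eq (y := eE 0) h3 with rfl | rfl
  · exact fin c hc rfl h2
  · refine fin (ψ (eE 19) * c) (comm_mul_left (h.comm _) hc) (by rw [h.mul (h.comm _) hc, h.at_psi, one_mul]) ?_
    calc _ = ψ (eE 19) * (c * g * z * (c * g)⁻¹) * (ψ (eE 19))⁻¹ := by group
      _ = _ := by
        rw [h2, ← map_mul, ← map_inv, ← map_mul, conj_e19 _ (by decide), mul_assoc, ESM.z_sq, mul_one]

namespace Pr6

variable {P : Subgroup G} (h : Pr6 z ψ α P)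
include h

theorem comm_s {e : ES} : ψ e * ψ (eE 0) = ψ (eE 0) * ψ e ↔ e.v ∈ SP := by
  rw [eq_comm, h.comm_iff, B0_e0, mem_SP]

theorem mem_P {e : ES} : ψ e ∈ P ↔ e.v ∈ W0 := by
  have k0 : ∀ a b : ES, a.v = b.v → ψ b ∈ P → ψ a ∈ P := fun a b e hb => by
    rcases h.eqv e with e | e <;> rw [e]
    exacts [hb, mul_mem hb h.pair.z_mem]
  let U := sub2 (fun v => ψ ⟨v, 0⟩ ∈ P) (k0 _ 1 rfl (by simp)) fun a b p q =>
    k0 _ (⟨a, 0⟩ * ⟨b, 0⟩) rfl (by rw [map_mul]; exact mul_mem p q)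
  have k1 : W0 ≤ U := W0_le fun a ha v hv => by
    obtain ⟨p, hp, hz, rfl⟩ := h.sur a ha
    obtain ⟨f, h1, h2⟩ := h.act p hz ⟨v, 0⟩
    have := (LES.comm_mem_E h.pair ⟨_, rfl⟩ (h.comm_s.2 (show (⟨v, 0⟩ : ES).v ∈ SP from hv)) hp hz).2
    rw [h1, ← map_inv, ← map_mul] at this
    exact k0 _ _ (by rw [ESM.mul_v, ESM.inv_v, h2, CharTwo.neg_eq]) this
  have k : ∀ e : ES, e.v ∈ W0 → ψ e ∈ P := fun e he => k0 _ ⟨e.v, 0⟩ rfl (k1 he)
  exact ⟨fun he => mem_W0 fun j hj => (h.comm_iff (a := eE j)).1 (LES.E_comm h.pair ⟨⟨eE j, rfl⟩, k (eE j) hj⟩ ⟨⟨e, rfl⟩, he⟩),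
    k e⟩

theorem cent_P [Finite G] {p : G} (hp : p ∈ P) (hc : ∀ e : ES, e.v ∈ W0 → p * ψ e = ψ e * p) :
    p ∈ ψ.range := by
  have c1 := LES.card_image_mul h.pair h.αh fun c => ⟨h.ker c (mem_centralizer_singleton_iff.1 c.2),
    fun ⟨e, he⟩ => by change α c = 1; rw [← he, h.at_psi]⟩
  rw [show (P.subgroupOf _).map h.αh = AA from le_antisymm (by
    rintro _ ⟨c, hc, rfl⟩; exact h.sub c hc (mem_centralizer_singleton_iff.1 c.2)) fun a ha => by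
    obtain ⟨p, h1, h2, rfl⟩ := h.sur a ha
    exact ⟨⟨p, mem_centralizer_singleton_iff.2 h2⟩, h1, rfl⟩, card_AA, h.cardP] at c1
  have c2 := h.pair.hP.toXS.card_mul_card_centralizer (A := ψ.range ⊓ P) inf_le_right
    ⟨h.pair.s_mem, h.pair.hP.z_mem⟩
  rw [h.cardP, show Nat.card (ψ.range ⊓ P : Subgroup G) = 2 ^ 11 by omega] at c2
  refine ((eq_of_le_of_card_ge (H := ψ.range ⊓ P) (K := P ⊓ centralizer (ψ.range ⊓ P : Subgroup G))
    (fun x hx => ⟨hx.2, fun y hy => LES.E_comm h.pair hy hx⟩) (by omega)).ge ⟨hp, ?_⟩).1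
  rintro _ ⟨⟨e, rfl⟩, he⟩
  exact (hc e (h.mem_P.1 he)).symm

theorem cent_E [Finite G] {c : G} (hc : ∀ e : ES, e.v ∈ W0 → c * ψ e = ψ e * c) :
    ∃ e : ES, e.v ∈ W0 ∧ c = ψ e := by
  have e0 : (eE 0).v ∈ W0 := vec_mem_Sp (by decide +kernel)
  have hz : c * z = z * c := h.z_eq ▸ hc zE (zero_mem _)
  have a1 : ∀ w ∈ W0, (α c).1 w = w := fun w hw =>
    (h.act_v (e := ⟨w, 0⟩) (e' := ⟨w, 0⟩) hz (by rw [hc _ hw, mul_inv_cancel_right])).symm
  have a2 : α c * α c = 1 := Units.ext (LinearMap.ext fun v => by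
    have := a1 ((α c).1 v + v) (mem_W0 fun j hj => by
      have := B0_inv (h.form hz) (ee j) v
      rw [a1 _ hj] at this
      simp only [B0, map_add, LinearMap.add_apply] at this ⊢
      linear_combination this + zmod_two_add_self (β0 (ee j) v) + zmod_two_add_self (β0 v (ee j)))
    rwa [map_add, add_comm, add_right_inj] at this)
  have a3 : ∀ a ∈ AA, a * α c = α c * a := fun a ha => by
    obtain ⟨p, hp, h1, rfl⟩ := h.sur a ha
    obtain ⟨e, he⟩ := h.cent_P (mul_mem (h.pair.hP.norm c (hc _ e0) p hp) (inv_mem hp)) fun e he => by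
      obtain ⟨f, h2, -⟩ := h.act p⁻¹ (comm_inv_left h1) e
      have h3 := hc f (h.mem_P.1 (h2 ▸ mul_mem (mul_mem (inv_mem hp) (h.mem_P.2 he)) (inv_mem (inv_mem hp))))
      rw [← h2] at h3
      calc _ = c * p * c⁻¹ * (p⁻¹ * ψ e * p⁻¹⁻¹ * c) * c⁻¹ * p⁻¹ := by group
        _ = c * ψ e * (p * c⁻¹ * p⁻¹) := by rw [← h3]; group
        _ = _ := by rw [hc e he]; group
    have := h.at_psi e
    rw [he, h.mul (comm_mul_left (comm_mul_left hz h1) (comm_inv_left hz)) (comm_inv_left h1), h.cj hz h1,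
      h.inv h1, mul_inv_eq_one, mul_inv_eq_iff_eq_mul] at this
    exact this.symm
  have a4 : α c ∈ AA := by
    obtain ⟨g, -, e⟩ := Jlem6 (A := closure (insert (α c) AA)) ((closure_le _).2 (Set.insert_subset
      (h.nrm c hz) (AA_le_Mb.trans le_normalizer))) (fun g hg => sq_closure (Set.forall_mem_insert.2 ⟨a2, fun _ => AA_sq⟩)
        (Set.forall_mem_insert.2 ⟨Set.forall_mem_insert.2 ⟨rfl, fun a ha => (a3 a ha).symm⟩, fun a ha =>
          Set.forall_mem_insert.2 ⟨a3 a ha, AA_comm a ha⟩⟩) hg)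
      (card_AA ▸ card_le_of_le fun a ha => subset_closure (Or.inr ha))
    have := LES.card_map_conj (closure (insert (α c) AA)) g
    rw [e] at this
    exact (eq_of_le_of_card_ge (fun a ha => subset_closure (Or.inr ha)) this.ge).ge (subset_closure (Or.inl rfl))
  obtain ⟨p, hp, h1, h2⟩ := h.sur _ a4
  obtain ⟨e, he⟩ := h.ker (p⁻¹ * c) (comm_mul_left (comm_inv_left h1) hz) (by
    rw [h.mul (comm_inv_left h1) hz, h.inv h1, h2, inv_mul_cancel])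
  have a5 : ∀ f : ES, f.v ∈ W0 → ψ e * ψ f = ψ f * ψ e := fun f hf => by
    by_contra n
    have k := h.xs.conj_of_ne ⟨e, rfl⟩ ⟨f, rfl⟩ n
    rw [he, show p⁻¹ * c * ψ f * (p⁻¹ * c)⁻¹ = p⁻¹ * (c * ψ f * c⁻¹) * p⁻¹⁻¹ by group, hc f hf,
      mul_inv_cancel_right] at k
    rcases h.pair.hP.toXS.conj (inv_mem hp) (h.mem_P.2 hf) with e | e <;> rw [e] at k
    · exact h.xs.z_ne (by simpa using k.symm)
    · exact h.pair.ne (mul_left_cancel k)
  obtain ⟨f, rfl⟩ := h.cent_P hp fun f hf => by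
    rw [show p = c * (ψ e)⁻¹ by rw [he]; group]
    exact comm_mul_left (hc f hf) (comm_inv_left (a5 f hf))
  exact ⟨f * e, add_mem (h.mem_P.1 hp) (mem_W0 fun j hj => (h.comm_iff (a := eE j)).1 (a5 (eE j) hj).symm), by
    rw [map_mul, he]; group⟩

end Pr6

theorem Pr6.exists_rho [Finite G] {P : Subgroup G} (h : Pr6 z ψ α P) : ∃ ρ, Rho z ψ ρ ∧
    ∀ c, c * z = z * c → c * ψ (eE 0) = ψ (eE 0) * c → c * ψ (eE 19) = ψ (eE 19) * c →
      (∀ e ∈ EE, ∃ e' ∈ EE, c⁻¹ * ψ e * c = ψ e') → c * ρ = ρ * c ∨ z * c * ρ = ρ * (z * c) := by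
  have hP := h.pair.hP.toXS
  have k : ∀ p, p * z = z * p → p * ψ (eE 0) = ψ (eE 0) * p → (∀ e ∈ EE, p * ψ e = ψ e * p) →
      ∀ e : ES, e.v ∈ W0 → p * ψ e = ψ e * p := fun p h1 h2 h3 e he => by
    obtain ⟨ε, h4, w, hw, rfl⟩ := W0_dec he
    rw [map_mul]
    refine Commute.mul_right ?_ (h3 ε h4)
    rcases hw with rfl | rfl | rfl | rfl
    · simp
    · rwa [h.z_eq]
    · exact h2
    · rw [map_mul, h.z_eq]; exact Commute.mul_right h1 h2
  obtain ⟨p, hp, p2, pe, pz⟩ : ∃ p ∈ P, p * p = 1 ∧ (∀ e ∈ EE, p * ψ e = ψ e * p) ∧ p * z ≠ z * p := by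
    let A : Subgroup ES :=
      { carrier := {e | e.v ∈ W0 ∧ e.a = 0}
        one_mem' := ⟨zero_mem _, rfl⟩
        mul_mem' := fun ha hb => ⟨add_mem ha.1 hb.1, by rw [ESM.mul_a, ha.2, hb.2, β0_W0 ha.1]; rfl⟩
        inv_mem' := fun ha => ⟨neg_mem ha.1, by rw [ESM.inv_a, ha.2, β0_W0 ha.1]; rfl⟩ }
    obtain ⟨p, hp, h1, h2⟩ := hP.exists_comm_not_comm (A := A.map ψ)
      (by rintro _ ⟨e, he, rfl⟩; exact h.mem_P.2 he.1) ⟨_, ⟨e0_mem, rfl⟩, rfl⟩ h.pair.z_mem (by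
        rintro ⟨e, he, e1⟩
        obtain rfl := h.inj (e1.trans h.z_eq.symm)
        exact one_ne_zero he.2)
    have h3 : ∀ e ∈ EE, p * ψ e = ψ e * p := fun e he => (h1 _ ⟨e, ⟨le_W0 he.1, he.2⟩, rfl⟩).symm
    rcases hP.sq hp with e | e
    · exact ⟨p, hp, e, h3, h2⟩
    · refine ⟨p * z, mul_mem hp h.pair.z_mem, ?_, fun e he => Commute.mul_left (h3 e he) (h.comm e).symm,
        fun e => h2 (mul_right_cancel (e.trans (mul_assoc _ _ _).symm))⟩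
      calc _ = p * z * p⁻¹ * (p * p) * z := by group
        _ = _ := by rw [hP.conj_of_ne hp h.pair.z_mem h2, e, mul_assoc z, hP.z_sq, mul_one, h.zz]
  have ps := hP.z_comm p hp
  have pz' := hP.conj_of_ne hp h.pair.z_mem pz
  have r0 : ∀ e : ES, e.v ∈ W0 → ψ (eE 19) * p * ψ e * (ψ (eE 19) * p)⁻¹ ∈ (hat W0).map ψ := fun e he => by
    obtain ⟨f, hf⟩ : p * ψ e * p⁻¹ ∈ ψ.range := by
      rcases hP.conj hp (h.mem_P.2 he) with e1 | e1 <;> rw [e1]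
      exacts [⟨_, rfl⟩, mul_mem ⟨_, rfl⟩ ⟨_, rfl⟩]
    refine ⟨eE 19 * f * (eE 19)⁻¹, ?_, by rw [map_mul, map_mul, map_inv, hf]; group⟩
    have := h.mem_P.1 (hf ▸ mul_mem (mul_mem hp (h.mem_P.2 he)) (inv_mem hp))
    change (eE 19 * f * (eE 19)⁻¹).v ∈ W0
    simpa using this
  have tn : ψ (eE 19) * p ∈ normalizer (((hat W0).map ψ : Subgroup G) : Set G) :=
    mem_normalizer_fintype (by rintro _ ⟨e, he, rfl⟩; exact r0 e he)
  obtain ⟨m, hm⟩ : ∃ m, ((ψ (eE 19) * p) ^ (3 * m + 1)) ^ 3 = 1 := by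
    obtain ⟨-, -, t4, t5, t6⟩ := t_act h.toPre p2 pz' ps rfl
    generalize ψ (eE 19) * p = t at t4 t5 t6
    obtain ⟨j, hj⟩ := h.pair.R_isPGroup ⟨_, h.pair.comm_mem_R (mem_sup_left ⟨eE 19, rfl⟩) t5 t6⟩
    have hj := congrArg Subtype.val hj
    simp only [SubmonoidClass.coe_pow, ← conj_pow, t4, inv_pow, ← mul_inv_rev, ← pow_add, ← pow_mul,
      OneMemClass.coe_one, inv_eq_one] at hj
    have : 4 ^ (j + 1) % 3 = 1 := by simp [Nat.pow_mod]
    refine ⟨4 ^ (j + 1) / 3, ?_⟩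
    rw [show 3 * (4 ^ (j + 1) / 3) + 1 = 4 ^ (j + 1) by omega, ← pow_mul, show 4 ^ (j + 1) * 3 = (3 + 3) * 2 ^ j * (2 * 2 ^ j) by
      rw [show 4 = 2 * 2 from rfl, mul_pow]; ring, pow_mul, hj, one_pow]
  have r := rho_of h.toPre p2 pz' ps pe hm
  refine ⟨_, r, fun c c1 c2 c3 c4 => ?_⟩
  have hp' := h.pair.hP.norm c c2 p hp
  obtain ⟨e, he⟩ := h.cent_P (mul_mem (inv_mem hp) hp') (k _ (hP.mul_comm_of_not_comm h.pair.z_mem (inv_mem hp) hp'
    (fun e => pz (by simpa using comm_inv_left e)) fun e => pz (by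
      calc _ = c⁻¹ * (c * p * c⁻¹ * z) * c := by rw [mul_assoc (c * p), comm_inv_left c1]; group
        _ = _ := by rw [e, ← mul_assoc, ← mul_assoc, ← mul_assoc, comm_inv_left c1]; group))
    (hP.z_comm _ (mul_mem (inv_mem hp) hp')) fun e he => by
      obtain ⟨f, hf, e1⟩ := c4 e he
      refine comm_mul_left (comm_inv_left (pe e he)) ?_
      calc _ = c * (p * (c⁻¹ * ψ e * c)) * c⁻¹ := by group
        _ = c * ((c⁻¹ * ψ e * c) * p) * c⁻¹ := by rw [e1, pe f hf]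
        _ = _ := by group)
  obtain ⟨f, hf, e1⟩ := pow_mul_mem tn ⟨e, h.mem_P.1 (he ▸ mul_mem (inv_mem hp) hp'), rfl⟩ (3 * m + 1)
  rw [he, mul_assoc, mul_inv_cancel_left, ← mul_assoc, ← mul_assoc, ← c3, mul_assoc c, conj_pow] at e1
  generalize (ψ (eE 19) * p) ^ (3 * m + 1) = ρ at r e1
  obtain ⟨ε, h4, w, hw, rfl⟩ := W0_dec hf
  have hw' : w.v ∈ W0 := by
    have := mul_mem hf (inv_mem (show ε ∈ hat W0 from le_W0 h4.1))
    rwa [mul_inv_cancel_right] at this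
  have e2 : c * ρ * c⁻¹ = ρ * ψ w * ψ ε := by rw [mul_assoc ρ, ← map_mul, e1]; group
  have e3 : ψ ε = 1 := by
    have := congrArg (· ^ 3) e2
    simp only [conj_pow, r.cube] at this
    rw [(Commute.mul_left (r.comm ε h4) (h.comm_W0 hw' (le_W0 h4.1))).mul_pow, r.cube_mul h.toPre hw, pow_succ,
      sq, ← map_mul, ESM.sq_eq_one_iff.2 (β0_W0 (le_W0 h4.1) _)] at this
    simpa using this.symm
  rw [e3, mul_one] at e2
  have e4 : ρ * (ψ w)⁻¹ * ρ⁻¹ = ψ (eE 19) * ψ w * (ψ (eE 19))⁻¹ := by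
    calc _ = ρ * (c * ρ * c⁻¹)⁻¹ := by rw [e2]; group
      _ = ρ * (c * (ψ (eE 19) * ρ * (ψ (eE 19))⁻¹) * c⁻¹) := by rw [r.inv]; group
      _ = ρ * (ψ (eE 19) * (c * ρ * c⁻¹) * (ψ (eE 19))⁻¹) := by
        rw [← mul_assoc c, ← mul_assoc c, c3, mul_assoc _ _ c⁻¹, ← mul_inv_rev, c3]; group
      _ = ρ * (ψ (eE 19) * ρ * (ψ (eE 19))⁻¹) * (ψ (eE 19) * ψ w * (ψ (eE 19))⁻¹) := by rw [e2]; group
      _ = _ := by rw [r.inv]; group
  rcases hw with rfl | rfl | rfl | rfl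
  · exact Or.inl (mul_inv_eq_iff_eq_mul.1 (by simpa using e2))
  · rw [h.z_eq, h.xs.z_inv, r.z_eq, h.comm, mul_inv_cancel_right] at e4
    exact absurd e4 h.pair.ne
  · refine Or.inr ?_
    calc _ = ρ * (ψ (eE 0) * z) * ρ⁻¹ * (c * ρ * c⁻¹) * c := by rw [r.sz_eq h.toPre]; group
      _ = ρ * (ψ (eE 0) * z * ψ (eE 0)) * c := by rw [e2]; group
      _ = _ := by rw [h.comm, mul_assoc z, hP.z_sq, mul_one, mul_assoc]
  · rw [map_mul, h.z_eq, mul_inv_rev, h.xs.z_inv, hP.z_inv, r.sz_eq h.toPre, ← conj_mul, h.q_s, h.comm,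
      mul_inv_cancel_right, h.comm, ← mul_assoc, h.zz, one_mul] at e4
    exact absurd e4.symm h.pair.ne

end Cfsg.Agent.E63
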