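import Cfsg.Agent.E63.ScM
import Cfsg.Agent.U62S.Fus

/-! Weak closure of `2^20`. -/

set_option autoImplicit false

namespace Cfsg.Agent.E63

open Cfsg.Agent.Comp Cfsg.Agent.Comp.BM Cfsg.Agent.E62 Cfsg.Agent.U62S Subgroup Cfsg.Agent.PLocal.Amb
  Cfsg.Agent.Loc3

variable {X : Type*} [Group X] [Finite X] {A K : Subgroup X} {a : V → X} {π : X → L} {lam : X → ZMod 2}

theorem B0_add (u v w : V) : B0 (u + v) w = B0 u w + B0 v w := by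
  simp only [B0, map_add, LinearMap.add_apply]; ring

theorem B0_nd {v : V} (h : ∀ w, B0 v w = 0) : v = 0 := funext fun i => by
  have := B0_ee (du i) v
  rwa [du_du, B0_comm, h, eq_comm] at this

theorem perp_fix {k t : L} (fk : ∀ v, β0 (k.1 v) (k.1 v) = β0 v v) (ft : ∀ v, β0 (t.1 v) (t.1 v) = β0 v v)
    (k2 : k * k = 1) (e : ∀ w, k.1 w = w → t.1 w = w) (v : V) : k.1 (t.1 v + v) = t.1 v + v := by
  have kk : ∀ w, k.1 (k.1 w) = w := fun w => by rw [← ap_mul, k2]; rfl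
  refine eq_of_add (B0_nd fun y => ?_)
  have h1 : k.1 (k.1 y + y) = k.1 y + y := by rw [map_add, kk, add_comm]
  rw [B0_add, ← B0_inv fk, kk, B0_comm, B0_comm _ y, ← B0_add, B0_comm, B0_add, ← B0_inv ft v, e _ h1,
    CharTwo.add_self_eq_zero]

theorem span_DV (v : V) : v ∈ Submodule.span (ZMod 2) {v | DV v} := by
  obtain ⟨u, hu⟩ := exists_DV
  refine irr (fun g hg w hw => ?_) (Submodule.subset_span hu) (fun e => ?_) v
  · refine (show Submodule.span _ _ ≤ (Submodule.span (ZMod 2) {v | DV v}).comap g.1 from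
      Submodule.span_le.2 fun w (hw : DV w) => let ⟨h1, c, h2, h3⟩ := hw; Submodule.subset_span (show DV (g.1 w) from
        ⟨(form_Mb hg w).trans h1, _, h2.conj (le_normalizer hg), by rw [ap_mul, ap_inv, ap_mul, h3]⟩)) hw
  · have := hu.1
    simp [e] at this

theorem aux3 {G : Type*} [Group G] {b g : G} (b2 : b⁻¹ = b) (g3 : g ^ 3 = 1) (e : (b * g) ^ 3 = 1) :
    b * g = g * b * g⁻¹ * g * (g * b * g⁻¹)⁻¹ :=
  calc _ = b⁻¹ * (b * g) ^ 3 * g * (g ^ 3)⁻¹ := by rw [e, g3, b2]; group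
    _ = g * b * g * b * g⁻¹ := by rw [pow_three, pow_three]; group
    _ = _ := by nth_rw 2 [← b2]; group

namespace SB

variable (h : SB A K a π lam)
include h

theorem pi_mul (v : V) {c : X} (hc : c ∈ 𝐍[A]) : π (a v * c) = π c := by
  rw [h.mul (h.anm v) hc, h.at_a, one_mul]

theorem ker {g : X} (hg : g ∈ 𝐍[A]) (e : π g = 1) : g ∈ A := by
  obtain ⟨v, c, hc, rfl⟩ := h.dec g hg
  rw [h.fth c hc (h.pi_mul v (h.KH hc) ▸ e), mul_one]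
  exact h.amem v

theorem at_mem {g : X} (hg : g ∈ A) : π g = 1 := by
  obtain ⟨v, rfl⟩ := h.mem.1 hg
  exact h.at_a v

theorem rep {u : X} (hu : u ∈ 𝐍[A]) : ∃ v, Rep K a π u v (π u) := by
  obtain ⟨v, c, hc, rfl⟩ := h.dec u hu
  exact ⟨v, c, hc, (h.pi_mul v (h.KH hc)).symm, rfl⟩

theorem injK {c d : X} (hc : c ∈ K) (hd : d ∈ K) (e : π c = π d) : c = d :=
  mul_inv_eq_one.1 (h.fth _ (mul_mem hc (inv_mem hd)) (by
    rw [h.mul (h.KH hc) (inv_mem (h.KH hd)), h.inv (h.KH hd), e, mul_inv_cancel]))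

theorem fix_iff {u : X} (hu : u ∈ 𝐍[A]) {w : V} : a w * u = u * a w ↔ (π u).1 w = w := by
  rw [h.sw hu, mul_left_inj, h.inj.eq_iff, eq_comm]

section Rep

variable {u : X} {v : V} {k : L} (r : Rep K a π u v k)
include r

theorem rep_mem : u ∈ 𝐍[A] := by
  obtain ⟨c, hc, -, rfl⟩ := r
  exact mul_mem (h.anm v) (h.KH hc)

theorem rep_pi : π u = k := by
  obtain ⟨c, hc, rfl, rfl⟩ := r
  exact h.pi_mul v (h.KH hc)

theorem rep_fix (h2 : u * u = 1) : k * k = 1 ∧ k.1 v = v := by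
  have e : k * k = 1 := by rw [← h.rep_pi r, ← h.mul (h.rep_mem r) (h.rep_mem r), h2, h.one]
  obtain ⟨c, hc, rfl, rfl⟩ := r
  rw [mul_assoc, ← mul_assoc c, h.sw (h.KH hc), mul_assoc, h.fth _ (mul_mem hc hc)
    (h.mul (h.KH hc) (h.KH hc) ▸ e), mul_one, ← h.add, ← h.zero] at h2
  exact ⟨e, (eq_of_add (h.inj h2)).symm⟩

theorem rep_cjK {g : X} (hg : g ∈ K) : Rep K a π (g * u * g⁻¹) ((π g).1 v) (π g * k * (π g)⁻¹) := by
  obtain ⟨c, hc, rfl, rfl⟩ := r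
  exact ⟨g * c * g⁻¹, mul_mem (mul_mem hg hc) (inv_mem hg), h.cj (h.KH hg) (h.KH hc), by
    rw [← h.act g (h.KH hg), conj_mul]⟩

theorem rep_cjA (w : V) : Rep K a π (a w * u * (a w)⁻¹) (v + (k.1 w + w)) k := by
  obtain ⟨c, hc, rfl, rfl⟩ := r
  refine ⟨c, hc, rfl, ?_⟩
  rw [h.ainv, mul_assoc, mul_assoc, h.sw (h.KH hc), ← mul_assoc, ← mul_assoc, ← h.add, ← h.add]
  congr 2; abel

theorem rep_mulA (w : V) : Rep K a π (a w * u) (w + v) k := by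
  obtain ⟨c, hc, rfl, rfl⟩ := r
  exact ⟨c, hc, rfl, by rw [h.add, mul_assoc]⟩

theorem rep_cent {y : L} (hy : y ∈ Mb) (h1 : y * k = k * y) {w : V} (h2 : y.1 v + v = k.1 w + w) :
    ∃ p ∈ 𝐍[A] ⊓ centralizer {u}, π p = y := by
  obtain ⟨c, hc, rfl, rfl⟩ := r
  obtain ⟨g, hg, rfl⟩ := h.onto y hy
  refine ⟨a w * g, ⟨mul_mem (h.anm w) (h.KH hg), mem_centralizer_singleton_iff.2 ?_⟩, h.pi_mul w (h.KH hg)⟩
  have e : g * c = c * g := h.injK (mul_mem hg hc) (mul_mem hc hg) (by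
    rw [h.mul (h.KH hg) (h.KH hc), h.mul (h.KH hc) (h.KH hg), h1])
  rw [mul_assoc, mul_assoc, ← mul_assoc g, ← mul_assoc c, h.sw (h.KH hg), h.sw (h.KH hc), mul_assoc,
    mul_assoc, e, ← mul_assoc, ← mul_assoc (a v), ← h.add, ← h.add]
  congr 2
  linear_combination h2 + vv w - vv v

end Rep

theorem card {B : Subgroup X} (hB : B ≤ 𝐍[A]) : ∃ (W : Submodule (ZMod 2) V) (N : Subgroup L),
    (∀ v, v ∈ W ↔ a v ∈ B) ∧ (∀ y, y ∈ N ↔ ∃ b ∈ B, π b = y) ∧ Nat.card W = Nat.card ↥(B ⊓ A) ∧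
      Nat.card B = Nat.card W * Nat.card N := by
  let f := h.hom.comp (inclusion hB)
  let W := sub2 (fun v => a v ∈ B) (h.zero ▸ one_mem _) fun v w p q => h.add v w ▸ mul_mem p q
  have c : Nat.card W = Nat.card ↥(B ⊓ A) := Nat.card_congr (Equiv.ofBijective
    (fun v : W => (⟨a v, v.2, h.amem _⟩ : ↥(B ⊓ A))) ⟨fun v w e => Subtype.ext (h.inj (congrArg Subtype.val e)),
      fun y => let ⟨v, hv⟩ := h.mem.1 y.2.2; ⟨⟨v, show a v ∈ B from hv ▸ y.2.1⟩, Subtype.ext hv⟩⟩)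
  refine ⟨W, f.range, fun _ => Iff.rfl, fun y => ⟨fun ⟨b, e⟩ => ⟨b, b.2, e⟩, fun ⟨b, hb, e⟩ => ⟨⟨b, hb⟩, e⟩⟩,
    c, ?_⟩
  rw [← f.ker.card_mul_index, index_ker, c, show f.ker = (B ⊓ A).subgroupOf B from Subgroup.ext fun b =>
    ⟨fun e => ⟨b.2, h.ker (hB b.2) e⟩, fun e => h.at_mem e.2⟩,
    Nat.card_congr (subgroupOfEquivOfLe inf_le_left).toEquiv]

theorem card_A : Nat.card A = 2 ^ 20 := by
  rw [← Nat.card_congr (Equiv.ofBijective (fun v => (⟨a v, h.amem v⟩ : A))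
    ⟨fun v w e => h.inj (congrArg Subtype.val e), fun y => let ⟨v, hv⟩ := h.mem.1 y.2; ⟨v, Subtype.ext hv⟩⟩),
    Nat.card_fun, Nat.card_zmod, Nat.card_fin]

theorem cj_sq {g b : X} (hb : b ∈ cj(g, A)) : b * b = 1 := by
  obtain ⟨y, hy, rfl⟩ := hb
  obtain ⟨v, rfl⟩ := h.mem.1 hy
  rw [← map_mul, h.sq, map_one]

theorem cj_comm {g b c : X} (hb : b ∈ cj(g, A)) (hc : c ∈ cj(g, A)) : b * c = c * b := by
  obtain ⟨y, hy, rfl⟩ := hb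
  obtain ⟨v, rfl⟩ := h.mem.1 hy
  obtain ⟨y, hy, rfl⟩ := hc
  obtain ⟨w, rfl⟩ := h.mem.1 hy
  rw [← map_mul, h.comm, map_mul]

/-- `y = p⁴` has order 3 (`p³ ∈ A`); `g ∈ K` with `π g = π p` has `g³ = 1` (`fth`), is `UF` by `uf`, and `y`, `g` are conjugate
under `A` (Sylow in `A⟨g⟩`, congruent mod `A`); `UF.conj`. -/
theorem uf3 {p : X} (hp : p ∈ 𝐍[A]) (c : Cen3 (π p)) :
    ∃ y ∈ zpowers p, y ^ 3 = 1 ∧ π y = π p ∧ UF 𝐍[A] y := by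
  have p3 : ∀ {y}, y ∈ 𝐍[A] → π y = π p → π (y ^ 3) = 1 := fun hy e => by
    rw [pow_three, h.mul hy (mul_mem hy hy), h.mul hy hy, e, ← pow_three, c.2.1]
  obtain ⟨w, hw⟩ := h.mem.1 (h.ker (pow_mem hp 3) (p3 hp rfl))
  have e1 : π (p ^ 4) = π p := by rw [pow_succ, ← hw, h.pi_mul w hp]
  have e2 : (p ^ 4) ^ 3 = 1 := by
    rw [← pow_mul, mul_comm, pow_mul, ← hw, show 4 = 2 * 2 from rfl, pow_mul, sq (a w), h.sq, one_pow]
  obtain ⟨v, g, hg, e3, e4⟩ := h.rep (pow_mem hp 4)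
  rw [e1] at e3
  have g3 := h.fth _ (pow_mem hg 3) (p3 (h.KH hg) e3)
  have := (h.uf g hg (e3 ▸ c.1) g3 (fun e => c.2.2.1 (by rw [← e3, e, h.one])) (e3 ▸ c.2.2.2)).conj
    (h.anm ((π g).1 v))
  refine ⟨_, pow_mem (mem_zpowers p) 4, e2, e1, ?_⟩
  convert this
  rw [e4] at e2 ⊢
  rw [← h.act g (h.KH hg)]
  exact aux3 (h.ainv v) g3 e2

theorem wlog_T2 {u : X} (hu : u ∈ 𝐍[A]) (u2 : u * u = 1) : ∃ c ∈ 𝐍[A], π (c * u * c⁻¹) ∈ T2 :=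
  let ⟨c, h1, h2⟩ := h.two (zpowers u) (zpowers_le.2 hu) (by
    rintro ⟨_, k, rfl⟩
    refine ⟨1, Subtype.ext ?_⟩
    change (u ^ k) ^ 2 ^ 1 = 1
    rw [pow_one, ← zpow_natCast, zpow_comm, zpow_natCast, sq, u2, one_zpow])
  ⟨c, h1, h2 u (mem_zpowers u)⟩

theorem step0 {v : V} (hv : DV v) {g : X} (e : g * a v * g⁻¹ ∈ 𝐍[A]) (t : π (g * a v * g⁻¹) ∈ T2) :
    g * a v * g⁻¹ ∈ A := by
  have := Fact.mk Nat.prime_three
  by_contra n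
  obtain ⟨w, r⟩ := h.rep e
  obtain ⟨f1, f2⟩ := h.rep_fix r (h.cj_sq (conj_mem_cj g (h.amem v)))
  obtain ⟨c, hc, e1, e2⟩ := id r
  have cN := h.KH hc
  have c2 : c * c = 1 := h.fth _ (mul_mem hc hc) (by rw [h.mul cN cN, e1, f1])
  have l0 := h.lK c hc c2
  obtain ⟨c0, a1, a2, w', a3⟩ := F1 (T2_le_Mb2 t) f1 (fun k => n (h.ker e k)) (lam := fun x => lam (a x * c))
    (by simpa only [h.zero, one_mul] using l0)
    (fun x y hx hy => by simpa only [l0, add_zero] using h.quad c cN c2 x y (e1 ▸ hx) (e1 ▸ hy))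
    (fun x y _ => by
      obtain ⟨d, hd, b1, b2⟩ := h.rep_cjA (u := a x * c) ⟨c, hc, e1, rfl⟩ y
      rw [← h.lcj (a y) (a x * c), b2, h.injK hd hc (b1.trans e1.symm)])
    (fun k hk b x _ => by
      obtain ⟨d, hd, rfl⟩ := h.onto k hk
      obtain ⟨d', hd', b1, b2⟩ := h.rep_cjK (u := a x * c) ⟨c, hc, e1, rfl⟩ hd
      rw [← h.lcj d (a x * c), b2, h.injK hd' hc (by rw [b1, b, mul_inv_cancel_right, e1])])
    f2 (by rw [← e2, h.lcj, h.lA, hv.1])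
  obtain ⟨p, hp, rfl⟩ := h.rep_cent r a1.1 a2 a3
  obtain ⟨y, ⟨i, rfl⟩, y3, -, uy⟩ := h.uf3 hp.1 a1
  obtain ⟨c1, b1, b2⟩ := hv.2
  obtain ⟨d, hd, rfl⟩ := h.onto c1 b1.1
  obtain ⟨y', ⟨j, rfl⟩, y3', -, uy'⟩ := h.uf3 (h.KH hd) b1
  obtain ⟨k, hk, b3⟩ := uy'.fusion' uy y3' y3
    (Commute.zpow_left ((h.fix_iff (h.KH hd)).2 b2).symm j) (Commute.zpow_left (mem_cent.1 hp.2) i)
  exact n (b3 ▸ conj_mem_of_mem_normalizer hk (h.amem v))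

/-- `u = g (a v) g⁻¹`, `lam u = 1` (`lcj`, `lA`). Conjugating by `two`, wlog `k = π u ∈ T2 ≤ Mb2`; suppose `k ≠ 1`. `u = a w * c`, `c ∈ K`,
`c² = 1`, `k w = w`; `λ x = lam (a x * c)` satisfies the hypotheses of `F1` (`lK`, `quad`, `lcj` with `rep_cjA`, `rep_cjK`,
`onto`, `injK`), so `Gd3 w k`; `rep_cent`, `uf3` give a `UF` element of order 3 commuting with `u`; `a v` commutes with the
`UF` element `c' ∈ K`, `π c'` 3-central fixing `v`. `UF.fusion'`: `u` is conjugate to `a v` in `N(A)`, so `u ∈ A`. -/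
theorem step1 {v : V} (hv : DV v) {g : X} (e : g * a v * g⁻¹ ∈ 𝐍[A]) : g * a v * g⁻¹ ∈ A := by
  obtain ⟨c, hc, t⟩ := h.wlog_T2 e (h.cj_sq (conj_mem_cj g (h.amem v)))
  have e1 : c * (g * a v * g⁻¹) * c⁻¹ = c * g * a v * (c * g)⁻¹ := by group
  exact (mem_normalizer_iff.1 hc _).2
    (e1 ▸ h.step0 hv (e1 ▸ mul_mem (mul_mem hc e) (inv_mem hc)) (e1 ▸ t))

theorem span_le {g : X} {s : Set V} (hs : ∀ v ∈ s, DV v ∧ a v ∈ 𝐍[cj(g, A)]) {v : V}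
    (hv : v ∈ Submodule.span (ZMod 2) s) : a v ∈ cj(g, A) :=
  (Submodule.span_le (p := sub2 (fun v => a v ∈ cj(g, A)) (h.zero ▸ one_mem _) fun v w p q =>
    h.add v w ▸ mul_mem p q)).2 (fun w hw => mem_cj.2 (by
      have := (hs w hw).2
      rw [normalizer_cj, mem_cj] at this
      simpa using h.step1 (hs w hw).1 (g := g⁻¹) (by simpa using this))) hv

/-- the `v` with `g (a v) g⁻¹ ∈ A` for all... : the span of the `DV` vectors is `Mb`-invariant (`Cen3.conj`, `form_Mb`)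
and nonzero (`exists_DV`), so everything (`U62S.irr`). -/
theorem weak {g : X} (hg : cj(g, A) ≤ 𝐍[A]) : cj(g, A) = A := by
  refine eq_of_le_of_card_ge (cj_le_iff.2 fun b hb => ?_) (card_cj g A).ge
  obtain ⟨v, rfl⟩ := h.mem.1 hb
  exact h.span_le (fun w hw => ⟨hw, normalizer_cj g⁻¹ A ▸ cj_le_iff.1 hg (h.amem w)⟩) (span_DV v)

/-- as `U62S.St.le_norm`. -/
theorem le_norm {S : Subgroup X} (hS : IsPGroup 2 S) (hA : A ≤ S) : S ≤ 𝐍[A] := by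
  have := Fact.mk Nat.prime_two
  refine inf_eq_left.1 (eq_of_inf_normalizer_le hS inf_le_left fun n hn => ⟨hn.1, cj_eq_iff.1 (h.weak ?_)⟩)
  exact (cj_le_of_mem_normalizer (le_inf hA le_normalizer) hn.2).trans inf_le_right

theorem pg (g : X) : IsPGroup 2 cj(g, A) := isPGroup_cj g (.of_card h.card_A)

/-- `B = a (ker (π u + 1)) = A ⊓ C(u) = A ⊓ A'`, `A' = gAg⁻¹`, `C = C(B) ⊇ A, A'`, `T = C ⊓ N(A)`. For `t ∈ T`, `π t` fixes `ker` pointwise and preserves `B0`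
(`form`, `B0_inv`), so `im (π t + 1) ≤ ker^⊥ = im (π u + 1) ≤ ker` (`B0` is nondegenerate; dimension count, or:
`(π t + 1) v ⊥ ker`, and `ker^⊥ ≤ ker` since `ker = im^⊥ ⊇ im`, `ker^⊥ = im`); hence `(π s + 1)(π t + 1) = 0`, `π T` is elementary abelian, `T` is a 2-group, Sylow in `C`
(`le_norm`), and `T/B` is abelian (`T = A (T ⊓ K)`, `T ⊓ K ≅ π T` abelian, `[A,T] ≤ B`). `A' = c⁻¹ A c` with `c ∈ C` (Sylow, `weak`). Burnside's
argument in `C/B`: `c u c⁻¹ = a v`; `T` and `c⁻¹ T c` both centralise `u` modulo `B`, i.e. lie in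
`D = {d ∈ C | [d,u] ∈ B}` and are Sylow in it: `d c⁻¹ T c d⁻¹ = T`, `d ∈ D`; `n = d c⁻¹` normalises `T`, hence `A` (`weak`), and
`n (a v) n⁻¹ = d u d⁻¹ ∈ uB`. So `u ∈ A`. -/
theorem burn {g u : X} (hu : u ∈ cj(g, A)) (hn : u ∈ 𝐍[A])
    (e : ∀ v, (π u).1 v = v → a v ∈ cj(g, A)) : u ∈ A := by
  have := Fact.mk Nat.prime_two
  have k2 : π u * π u = 1 := by rw [← h.mul hn hn, h.cj_sq hu, h.one]
  let B := A ⊓ centralizer {u}
  have mB : ∀ {v}, a v ∈ B ↔ (π u).1 v = v := ⟨fun b => (h.fix_iff hn).1 (mem_cent.1 b.2), fun b =>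
    ⟨h.amem _, mem_cent.2 ((h.fix_iff hn).2 b)⟩⟩
  have l1 : ∀ {g}, (∀ v, (π u).1 v = v → a v ∈ cj(g, A)) → cj(g, A) ≤ 𝐂[B] := fun e y hy b hb => by
    obtain ⟨v, rfl⟩ := h.mem.1 hb.1
    exact h.cj_comm (e v (mB.1 hb)) hy
  have lA : A ≤ 𝐂[B] ⊓ 𝐍[A] := le_inf (cj_one A ▸ l1 fun v _ => (cj_one A).ge (h.amem v)) le_normalizer
  have t1 : ∀ t ∈ 𝐂[B] ⊓ 𝐍[A], ∀ v, (π u).1 ((π t).1 v + v) = (π t).1 v + v := fun t ht =>
    perp_fix (h.form u hn) (h.form t ht.2) k2 fun w hw => (h.fix_iff ht.2).1 (ht.1 _ (mB.2 hw))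
  have t2 : ∀ s ∈ 𝐂[B] ⊓ 𝐍[A], ∀ t ∈ 𝐂[B] ⊓ 𝐍[A], ∀ v, (π s).1 ((π t).1 v) = (π t).1 v + v + (π s).1 v :=
    fun s hs t ht v => by
      rw [← (h.fix_iff hs.2).1 (hs.1 _ (mB.2 (t1 t ht v))), map_add, add_assoc, vv, add_zero]
  have t3 : ∀ s ∈ 𝐂[B] ⊓ 𝐍[A], ∀ t ∈ 𝐂[B] ⊓ 𝐍[A], s * t * s⁻¹ * t⁻¹ ∈ B := fun s hs t ht => by
    obtain ⟨v, c, hc, e1, e2⟩ := h.rep hs.2
    obtain ⟨w, d, hd, e3, e4⟩ := h.rep ht.2
    have e5 : c * d = d * c := h.injK (mul_mem hc hd) (mul_mem hd hc) (by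
      rw [h.mul (h.KH hc) (h.KH hd), h.mul (h.KH hd) (h.KH hc), e1, e3]
      exact Units.ext (LinearMap.ext fun x => by
        rw [ap_mul, ap_mul, t2 s hs t ht, t2 t ht s hs]; abel))
    have e6 : s * t * s⁻¹ * t⁻¹ = a ((π s).1 w + w) * a ((π t).1 v + v) := by
      rw [mul_inv_eq_iff_eq_mul, mul_inv_eq_iff_eq_mul, ← e1, ← e3, e2, e4, mul_assoc, ← mul_assoc c,
        h.sw (h.KH hc), mul_assoc, mul_assoc _ (a w * d), mul_assoc (a w), ← mul_assoc d, h.sw (h.KH hd), e5]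
      simp only [← mul_assoc, ← h.add]
      congr 3
      linear_combination -vv w - vv ((π d).1 v)
    exact e6 ▸ mul_mem (mB.2 (t1 s hs w)) (mB.2 (t1 t ht v))
  have pT : IsPGroup 2 ↥(𝐂[B] ⊓ 𝐍[A]) := fun t => ⟨2, Subtype.ext (by
    obtain ⟨v, hv⟩ := h.mem.1 (h.ker (mul_mem t.2.2 t.2.2) (by
      rw [h.mul t.2.2 t.2.2]
      exact Units.ext (LinearMap.ext fun x => by rw [ap_mul, t2 _ t.2 _ t.2, add_comm, vv']; rfl)))
    rw [coe_pow, show 2 ^ 2 = 2 * 2 from rfl, pow_mul, sq t.1, ← hv, sq, h.sq, coe_one])⟩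
  have sT : IsSyl 2 (𝐂[B] ⊓ 𝐍[A]) 𝐂[B] := ⟨inf_le_left, pT, fun R h1 h2 h3 => le_inf h3 (h.le_norm h1 (lA.trans h2))⟩
  obtain ⟨c, hc, h1⟩ := sT.exists_cj_le (h.pg g) (l1 e)
  have h2 : c * u * c⁻¹ ∈ A := (h.weak (cj_mul c g A ▸ h1.trans inf_le_right)).le (cj_mul c g A ▸ conj_mem_cj c hu)
  have cB : ∀ {d b}, d ∈ 𝐂[B] → b ∈ B → d * b * d⁻¹ = b := fun hd hb => by rw [← hd _ hb, mul_inv_cancel_right]
  let D : Subgroup X :=
    { carrier := {d | d ∈ 𝐂[B] ∧ d * u * d⁻¹ * u⁻¹ ∈ B}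
      one_mem' := ⟨one_mem _, by simp⟩
      mul_mem' := fun {x y} hx hy => ⟨mul_mem hx.1 hy.1, by
        have := mul_mem hy.2 hx.2
        rw [← cB hx.1 hy.2] at this
        convert this using 1; group⟩
      inv_mem' := fun {x} hx => ⟨inv_mem hx.1, by
        have := inv_mem hx.2
        rw [← cB (inv_mem hx.1) this] at this
        convert this using 1; group⟩ }
  obtain ⟨d, hd, h3⟩ := (sT.mono (K := D) (fun t ht => ⟨ht.1, t3 t ht u ⟨l1 e hu, hn⟩⟩) fun _ hx => hx.1).exists_cj_eq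
    ((sT.cj_of_mem (inv_mem hc)).mono (K := D) (fun t ht => ⟨(sT.cj_of_mem (inv_mem hc)).le ht, by
      have := t3 _ (mem_cj.1 ht) _ (lA h2)
      rw [← cB (inv_mem hc) this] at this
      convert this using 1; group⟩) fun _ hx => hx.1)
  have h4 := (h.weak (g := d * c⁻¹) (((cj_mono _ lA).trans ((cj_mul _ _ _).trans h3).le).trans inf_le_right)).le
    (conj_mem_cj _ h2)
  have := mul_mem (A.inv_mem hd.2.1) h4
  convert this using 1; group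

/-- `S` Sylow in `C(u)` containing `gAg⁻¹`, `S ≤ N(gAg⁻¹)` (`le_norm`); conjugate `A ⊓ C(u)` into `S` by `c ∈ C(u)`,
`g' = c⁻¹ g`; `step1` for the last part. -/
theorem arr {g u : X} (hu : u ∈ cj(g, A)) (hn : u ∈ 𝐍[A]) : ∃ g', u ∈ cj(g', A) ∧
    (∀ v, (π u).1 v = v → a v ∈ 𝐍[cj(g', A)]) ∧ ∀ v ∈ WD (π u), a v ∈ cj(g', A) := by
  have := Fact.mk Nat.prime_two
  obtain ⟨S, hS, h1⟩ := exists_isSyl_ge (L := centralizer {u}) (h.pg g) fun b hb => mem_cent.2 (h.cj_comm hb hu)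
  obtain ⟨c, hc, h2⟩ := hS.exists_le_cj (R := A ⊓ centralizer {u})
    ((IsPGroup.of_card h.card_A).to_le inf_le_left) inf_le_right
  have h3 : ∀ v, (π u).1 v = v → a v ∈ 𝐍[cj(c * g, A)] := fun v hv => by
    rw [normalizer_cj, cj_mul]
    exact cj_mono c (le_cj_iff.2 (h.le_norm (isPGroup_cj _ hS.pgrp) (cj_le_iff.1 h1)))
      (h2 ⟨h.amem v, mem_cent.2 ((h.fix_iff hn).2 hv)⟩)
  refine ⟨c * g, ?_, h3, fun v => h.span_le fun w hw => ⟨hw.1, h3 w hw.2⟩⟩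
  rw [cj_mul, ← conj_of_comm (mem_cent.1 hc)]
  exact conj_mem_cj c hu

/-- conjugate by `two`; `F2`, `arr`, `burn`, `onto`. -/
theorem twoB {g u : X} (hu : u ∈ cj(g, A)) (hn : u ∈ 𝐍[A]) (e : u ∉ A) :
    ∃ n ∈ 𝐍[A], π (n * u * n⁻¹) = tau := by
  obtain ⟨c, hc, t⟩ := h.wlog_T2 hn (h.cj_sq hu)
  have u1 : c * u * c⁻¹ ∈ cj(c * g, A) := cj_mul c g A ▸ conj_mem_cj c hu
  have u2 := mul_mem (mul_mem hc hn) (inv_mem hc)
  have u3 : c * u * c⁻¹ ∉ A := mt (mem_normalizer_iff.1 hc _).2 e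
  rcases F2 (T2_le_Mb2 t) (by rw [← h.mul u2 u2, h.cj_sq u1, h.one]) fun k => u3 (h.ker u2 k) with f | ⟨k, hk, f⟩
  · obtain ⟨g', a1, -, a2⟩ := h.arr u1 u2
    exact absurd (h.burn a1 u2 fun v hv => a2 v (f v hv)) u3
  · obtain ⟨d, hd, rfl⟩ := h.onto k hk
    exact ⟨d * c, mul_mem (h.KH hd) hc, by rw [← f, ← h.cj (h.KH hd) u2]; congr 1; group⟩

end SB

end Cfsg.Agent.E63
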