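import Cfsg.Agent.E63.Defs
import Cfsg.Agent.U62S.Yp

/-! Definitions for the fusion analysis in `2^20 : Y`. -/

set_option autoImplicit false

namespace Cfsg.Agent.E63

open Cfsg.Agent.Comp Cfsg.Agent.Comp.BM Cfsg.Agent.E62 Cfsg.Agent.U62S Subgroup
open Cfsg.Agent.WG hiding vec vec_zero

/-- `3`-central elements of `U₆(2)` -/
def Cen3 (c : L) : Prop := c ∈ Mb ∧ c ^ 3 = 1 ∧ c ≠ 1 ∧ 729 ∣ Nat.card ↥(Mb ⊓ centralizer {c})

/-- nonsingular vectors fixed by a `3`-central element -/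
def DV (v : V) : Prop := β0 v v = 1 ∧ ∃ c, Cen3 c ∧ c.1 v = v

/-- the pair `(v, k)` commutes with a `3`-central element modulo `V` -/
def Gd3 (v : V) (k : L) : Prop := ∃ c, Cen3 c ∧ c * k = k * c ∧ ∃ w, c.1 v + v = k.1 w + w

/-- the span of the vectors of type `DV` fixed by `k` -/
def WD (k : L) : Submodule (ZMod 2) V := Submodule.span (ZMod 2) {v | DV v ∧ k.1 v = v}

/-- the space `WD tau` -/
def WT : Submodule (ZMod 2) V :=
  Submodule.span (ZMod 2) (vec 20 '' {a | a ∈ [1, 2, 4, 8, 16, 32, 192, 576, 3648, 33792]})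

/-- a `3`-central element commuting with `tau` -/
noncomputable def yB : L := el x [36, 30, 12, 6]

theorem Cen3.conj {c n : L} (h : Cen3 c) (hn : n ∈ normalizer (Mb : Set L)) : Cen3 (n * c * n⁻¹) := by
  refine ⟨conj_mem_of_norm hn h.1, by rw [conj_pow, h.2.1]; simp, fun e => h.2.2.1 (by simpa using e), ?_⟩
  have := h.2.2.2
  rwa [← PLocal.Amb.card_cj n, PLocal.Amb.cj_inf, PLocal.Amb.cj_of_mem_normalizer hn,
    ← PLocal.Amb.centralizer_singleton_conj] at this

end Cfsg.Agent.E63
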