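import Cfsg.Agent.E63.Out6

/-! Computations in `U₆(2).2` on `2^20`. -/

set_option autoImplicit false

namespace Cfsg.Agent.E63

open Cfsg.Agent.Comp Cfsg.Agent.Comp.BM Cfsg.Agent.E62 Cfsg.Agent.U62S Subgroup
open Cfsg.Agent.WG hiding vec vec_zero

namespace M2

def wl : List ℕ := [1, 2, 4, 8, 16, 32, 192, 576, 3648, 33792]

theorem wl_mem {a : ℕ} (h : a ∈ wl) : vec 20 a ∈ WT := Submodule.subset_span ⟨a, h, rfl⟩

/-- coordinates in the basis `wl` -/
def sel (v : ℕ) : ℕ :=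
  v % 64 + 64 * (v / 128 % 2) + 128 * ((v / 512 + v / 2048) % 2) + 256 * (v / 2048 % 2) + 512 * (v / 32768 % 2)

noncomputable def prB (u : List ℕ) : Bool :=
  allL wl fun a => force (wo R LL u a) fun v => Nat.beq (xs wl (sel v)) v

theorem maps {u : List ℕ} (h : prB u = true) {w : V} (hw : w ∈ WT) : (el x u).1 w ∈ WT := by
  refine (Submodule.span_le (p := WT.comap (el x u).1)).2 ?_ hw
  rintro _ ⟨a, ha, rfl⟩
  have := (allL_iff _ _).1 h a ha
  rw [force_eq, beq_iff] at this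
  change (el x u).1 _ ∈ WT
  rw [← vw, ← this]
  exact xs_mem (fun _ => wl_mem) _

theorem YY_pres : YY ≤ Pres WT := cl_le_iff.2 fun u hu => by
  have := (allL_iff _ _).1 (show allL ds (fun u => and' (prB u) (prB (invW u))) = true by decide +kernel) u hu
  rw [and'_eq_true] at this
  exact mem_Pres (fun _ => maps this.1) fun _ hv => wd.el_invW u ▸ maps this.2 hv

theorem not_28 (g : L) : g * x 28 * g⁻¹ ≠ tau := fun e => by
  have k : ∀ m : Sp 20 2239, g⁻¹.1 m ∈ Sp 20 1103 := fun m => by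
    obtain ⟨w, hw⟩ := im_tau m.2
    have := (op_nO [28]).maps (m := 1048575) (m' := 1103) (by decide +kernel) (g⁻¹.1 w) (mem_top _)
    rw [hw, ← e, map_add, ap_mul, ap_mul, ap_inv]
    simpa using this
  have := Nat.card_le_card_of_injective (fun m : Sp 20 2239 => (⟨_, k m⟩ : Sp 20 1103)) fun a b h =>
    Subtype.ext (by simpa only [ap_inv'] using congrArg (fun v : Sp 20 1103 => g.1 v.1) h)
  rw [card_im, show Nat.card (Sp 20 1103) = 2 ^ 6 from (card_Sp _).trans (by decide +kernel)] at this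
  omega

theorem AA_fl {a : L} (ha : a ∈ AA) {v : V} (hv : v ∈ W0) : a.1 v + v ∈ Sp 20 1 :=
  (cl_le_Fl ok (m := 1023) (m' := 1) (hm := by decide +kernel) (ws := as) (by decide +kernel) ha).1 v hv

theorem fix_T1 {y : L} (hy : y ∈ T1) (h : ∀ w ∈ WT, y.1 w = w) (c : y ≠ 1 → ∃ g : L, g * y * g⁻¹ = tau) :
    y = 1 ∨ y = tau := by
  obtain ⟨j, hj, a, ha, rfl⟩ := exists_nf_app (ts := ts.drop 1) (as := as) (pc.drop 1).ser le_rfl hy
  have k1 : ∀ j < 64, j = 0 ∨ ∃ v ∈ [2, 4, 8, 16, 32, 192, 576], v ∈ wl ∧ sb v 1023 = true ∧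
      wo R LL (nfW 2 (ts.drop 1) j) 1 = 1 ∧ ∃ i : Fin 20, i ≠ 0 ∧
        (wo R LL (nfW 2 (ts.drop 1) j) v ^^^ v).testBit i = true := by decide +kernel
  rcases k1 j hj with rfl | ⟨v, -, h1, h2, h3, i, h4, h5⟩
  swap
  · exfalso
    have h6 := h _ (wl_mem h1)
    have h7 : vec 20 (wo R LL (nfW 2 (ts.drop 1) j) v ^^^ v) ∈ Sp 20 1 := by
      rw [vec_xor, vw]
      nth_rw 2 [← h6]
      rw [ap_mul, ← map_add, add_comm]
      rcases eq_of_mem_Sp_one (AA_fl ha (vec_mem_Sp h2)) with e | e <;> rw [e]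
      · simp
      · rw [← vw, h3]; exact vec_mem_Sp (by decide +kernel)
    have := h7 i ((by decide : ∀ i : Fin 20, i ≠ 0 → Nat.testBit 1 i = false) i h4)
    rw [vec, if_pos h5] at this
    exact one_ne_zero this
  rw [el_nfW_zero, one_mul] at h c ⊢
  obtain ⟨i, hi, rfl⟩ := AA_nf ha
  have k2 : ∀ i < 512, (∃ v ∈ wl, ∃ j : Fin 20, (wo R LL (nfW 2 as i) v).testBit j ≠ v.testBit j) ∨
      i = 0 ∨ Q (nfW 2 as i) [26] = true ∨ ∃ g ∈ [[36, 4], [36, 4, 6]], Q (cjW g (nfW 2 as i)) [28] = true := by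
    decide +kernel
  rcases k2 i hi with ⟨v, h1, j, h2⟩ | rfl | e | ⟨g, -, e⟩
  · have := congrFun ((vw _ v).trans (h _ (wl_mem h1))) j
    revert this h2
    simp only [vec]
    cases (wo R LL (nfW 2 as i) v).testBit j <;> cases v.testBit j <;> simp
  · exact .inl (el_nfW_zero _ _)
  · exact .inr (wd.eq e)
  · refine .inl (not_not.1 fun n => ?_)
    obtain ⟨k, hk⟩ := c n
    have e' := wd.conj_eq e
    refine not_28 (k * (el x g)⁻¹) ?_
    rw [← hk, show x 28 = el x [28] by simp, ← e']; group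

theorem cen_AA {a : L} (ha : a ∈ AA) (h : ∀ t ∈ T1, t * a = a * t) : a = 1 ∨ a = x 28 := by
  obtain ⟨i, hi, rfl⟩ := AA_nf ha
  have k : ∀ i < 512, (∃ u ∈ ts.drop 1, ∃ j : Fin 20, (wo R LL u (wo R LL (nfW 2 as i) 524288)).testBit j ≠
      (wo R LL (nfW 2 as i) 524288).testBit j) ∨ i = 0 ∨ Q (nfW 2 as i) [28] = true := by decide +kernel
  rcases k i hi with ⟨u, h1, j, h2⟩ | rfl | e
  · have h3 : (el x u).1 _ = _ := ts_fix (el_mem_cl (List.mem_of_mem_drop h1))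
    have h4 := ap_comm (h (el x u) (el_mem_cl (List.mem_append_left as h1))) (vec 20 524288)
    rw [h3, ← vw, ← vw] at h4
    have := congrFun h4 j
    revert this h2
    simp only [vec]
    cases (wo R LL u (wo R LL (nfW 2 as i) 524288)).testBit j <;>
      cases (wo R LL (nfW 2 as i) 524288).testBit j <;> simp
  · exact .inl (el_nfW_zero _ _)
  · exact .inr (by simpa using wd.eq e)

theorem tau_fix {w : V} (hw : w ∈ WT) : tau.1 w = w :=
  ker_tau.2 ((Submodule.span_le (p := Sp 20 36607)).2 (by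
    rintro _ ⟨a, ha, rfl⟩
    exact vec_mem_Sp ((by decide +kernel : ∀ a ∈ wl, sb a 36607 = true) a ha)) hw)

theorem YY_T1 : YY ≤ T1 :=
  (wd.kn_of_mem (ws := (ts ++ as).drop 1) le_rfl (K := 32767) (by decide +kernel)).cl_le (by decide +kernel)

theorem AA_YY : AA ≤ YY := cl_le_iff.2 fun u hu => by
  have k : ∀ u ∈ as, u ∈ ds ∨ Q u (appendR [22, 24] [24]) = true := by decide +kernel
  rcases k u hu with e | e
  · exact el_mem_cl e
  · rw [wd.eq e, el_appendR]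
    exact mul_mem (el_mem_cl (by decide)) (el_mem_cl (by decide))

open Cfsg.Agent.PLocal.Amb in
theorem syl : IsSyl 2 YY (Mb ⊓ Pres WT) := by
  have := Fact.mk Nat.prime_two
  refine ⟨le_inf YY_le YY_pres, IsPGroup.of_card card_YY, fun P hP h1 h2 => ?_⟩
  obtain ⟨g, -, h3⟩ := (sylIn_of_card Nat.prime_two T1_le_Mb (m := 280665) card_T1
    (by rw [card_Mb]; norm_num) (by norm_num)).exists_conj hP (h2.trans inf_le_left)
  have h4 : cj(g, P) ≤ T1 := cj_le_iff_forall.2 h3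
  have h5 : g ∈ 𝐍[AA] := mem_normalizer_iff_map_conj_eq.2 (J0
    ((cj_mono g (AA_YY.trans h1)).trans (h4.trans T1_le_T2))
    (by rintro _ ⟨a, ha, rfl⟩; rw [← map_mul, AA_sq ha, map_one]) (card_AA ▸ (card_cj g AA).ge))
  have tA : tau ∈ AA := el_mem_cl (by decide)
  have h6 : ∀ r ∈ P, r * tau * r⁻¹ = tau := fun r hr => by
    have k : r ∈ 𝐍[AA] := by
      simpa [mul_assoc] using mul_mem (mul_mem (inv_mem h5) (T2_norm (T1_le_T2 (h3 r hr)))) h5
    refine (fix_T1 (AA_le_T1 (WG.conj_mem_of_norm k tA)) (fun w hw => ?_)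
      fun _ => ⟨r⁻¹, by group⟩).resolve_left fun e => tau_ne (by simpa using e)
    rw [ap_mul, ap_mul, tau_fix (((inv_mem (h2 hr).2 : r⁻¹ ∈ Pres WT) w).2 hw), ap_inv']
  by_contra n
  obtain ⟨k, hk⟩ := IsPGroup.iff_card.1 hP
  have h7 : Nat.card YY < Nat.card P := lt_of_le_of_ne (card_le_of_le h1) fun e =>
    n (eq_of_le_of_card_ge h1 e.ge).ge
  rw [card_YY, hk, Nat.pow_lt_pow_iff_right (by norm_num)] at h7
  have h8 : cj(g, P) = T1 := eq_of_le_of_card_ge h4 (by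
    rw [card_cj, card_T1, hk]; exact Nat.pow_le_pow_right (by norm_num) h7)
  rcases cen_AA (WG.conj_mem_of_norm h5 tA) (fun t ht => by
    obtain ⟨r, hr, rfl⟩ := h8.ge ht
    change g * r * g⁻¹ * _ = _ * (g * r * g⁻¹)
    rw [conj_mul, conj_mul, mul_inv_eq_iff_eq_mul.1 (h6 r hr)]) with e | e
  · exact tau_ne (by simpa using e)
  · exact not_28 g⁻¹ (by rw [← e]; group)

end M2

open M2

theorem yB_WT {w : V} (hw : w ∈ WT) : yB.1 w ∈ WT := maps (by decide +kernel) hw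

theorem WT_im {v : V} (hv : tau.1 v = v) : ∃ w ∈ WT, ∃ u, v = w + (tau.1 u + u) := by
  have := Sp_le_of_spanB (U := WT ⊔ Sp 20 2239) (vs := wl ++ [128, 2048]) (sel := [1, 2, 4, 8, 16, 32, 1088, 1024, 0, 1216, 2432, 2048, 0, 0, 0, 2944, 0, 0, 0, 0]) (m := 36607)
    (by decide +kernel) (List.forall_mem_append.2 ⟨fun a ha => Submodule.mem_sup_left (wl_mem ha),
      fun a ha => Submodule.mem_sup_right (vec_mem_Sp (by revert a; decide +kernel))⟩) (ker_tau.1 hv)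
  obtain ⟨w, hw, m, hm, rfl⟩ := Submodule.mem_sup.1 this
  obtain ⟨u, rfl⟩ := im_tau hm
  exact ⟨w, hw, u, rfl⟩

theorem WT_three {t : L} (f : ∀ v, β0 (t.1 v) (t.1 v) = β0 v v) (t3 : t ^ 3 = 1)
    (h : ∀ w ∈ WT, t.1 w = w) : 2 ^ 16 ≤ Nat.card {v // t.1 v = v} := by
  let φ : V →+ (Fin 4 → ZMod 2) := AddMonoidHom.mk' (fun v i => (t.1 v + v) (![6, 7, 11, 15] i))
    fun a b => funext fun i => by simp only [map_add, Pi.add_apply]; ring
  have k : ∀ v ∈ φ.ker, t.1 v = v := fun v hv => by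
    have o : ∀ a ∈ wl, B0 (vec 20 a) (t.1 v + v) = 0 := fun a ha => by
      have := B0_inv f (vec 20 a) v
      rw [h _ (wl_mem ha)] at this
      simp only [B0, map_add, LinearMap.add_apply] at this ⊢
      linear_combination this + TT.zmod_two_add_self (β0 (vec 20 a) v) + TT.zmod_two_add_self (β0 v (vec 20 a))
    have z : ∀ i, B0 (ee (du (![6, 7, 11, 15] i))) (t.1 v + v) = 0 := fun i => by
      rw [B0_ee, du_du]; exact congrFun hv i
    have m : t.1 v + v ∈ Sp 20 63 := by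
      generalize t.1 v + v = u at o z
      have := Sp_le_of_spanB (U := sub2 (B0 · u = 0) (by simp [B0]) fun a b p q => by
          simp only [B0, map_add, LinearMap.add_apply] at p q ⊢; linear_combination p + q)
        (vs := wl ++ [32768, 4096, 256, 64]) (sel := [1, 2, 4, 8, 16, 32, 8192, 8256, 4096, 8320, 1536, 1920, 2048, 0, 0, 1024, 0, 0, 0, 0]) (m := 40959) (by decide +kernel)
        (List.forall_mem_append.2 ⟨o, by
          simp only [List.forall_mem_cons]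
          exact ⟨z 0, z 1, z 2, z 3, by simp⟩⟩)
      exact mem_Sp_of_B0 fun i hi => this (vec_mem_Sp (by revert i; decide +kernel))
    have e := h _ (Sp_le (U := WT) (fun i _ e => wl_mem (by revert i; decide)) m)
    rw [map_add, add_comm (t.1 v) v, add_left_inj] at e
    have e3 : t.1 (t.1 (t.1 v)) = v := by
      rw [← ap_mul, ← ap_mul, ← pow_three', t3]; rfl
    rw [e] at e3
    exact e3
  have c1 := φ.ker.card_mul_index
  have c2 : φ.ker.index ≤ 16 := by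
    rw [AddSubgroup.index_ker]
    refine (Nat.card_le_card_of_injective _ φ.range.subtype_injective).trans ?_
    rw [Nat.card_fun, Nat.card_zmod, Nat.card_fin]; rfl
  have c3 : Nat.card φ.ker ≤ Nat.card {v // t.1 v = v} :=
    Nat.card_le_card_of_injective (fun v => ⟨v.1, k v.1 v.2⟩) fun a b e =>
      Subtype.ext (congrArg (fun v : {v // t.1 v = v} => v.1) e)
  rw [Nat.card_fun, Nat.card_zmod, Nat.card_fin] at c1
  nlinarith

theorem WT_two {E : Subgroup L} (hE : E ≤ Mb) (p : IsPGroup 2 E) (h : ∀ e ∈ E, ∀ w ∈ WT, e.1 w = w)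
    (c : ∀ e ∈ E, e ≠ 1 → ∃ g : L, g * e * g⁻¹ = tau) :
    ∃ n ∈ Mb, (∀ w, n.1 w ∈ WT ↔ w ∈ WT) ∧ ∀ e ∈ E, n * e * n⁻¹ = 1 ∨ n * e * n⁻¹ = tau := by
  have := Fact.mk Nat.prime_two
  obtain ⟨n, hn, h1⟩ := syl.exists_cj_le p (le_inf hE fun e he => mem_Pres
    (fun w hw => (h e he w hw).symm ▸ hw) fun w hw => (h _ (inv_mem he) w hw).symm ▸ hw)
  refine ⟨n, hn.1, hn.2, fun e he => fix_T1 (YY_T1 (h1 ⟨e, he, rfl⟩)) (fun w hw => ?_) fun n1 => ?_⟩
  · rw [ap_mul, ap_mul, h e he _ (((inv_mem hn.2 : n⁻¹ ∈ Pres WT) w).2 hw), ap_inv']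
  · obtain ⟨g, hg⟩ := c e he fun e1 => n1 (by simp [e1])
    exact ⟨g * n⁻¹, by rw [← hg]; group⟩

end Cfsg.Agent.E63
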