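import Cfsg.Agent.E63.Out6

/-! Computations in `U₆(2).2` on `2^20`: the class `2A`. -/

set_option autoImplicit false

namespace Cfsg.Agent.E63

open Cfsg.Agent.Comp Cfsg.Agent.Comp.BM Cfsg.Agent.E62 Cfsg.Agent.U62S Subgroup
open Cfsg.Agent.WG hiding vec vec_zero

theorem el28 : el x [28] = x 28 := by simp

/-- a nondegenerate fixed space of dimension `≥ 6` forces the class `2A` -/
theorem cls_2A {k : L} (hk : k ∈ Mb) (k2 : k * k = 1) (k1 : k ≠ 1) {W : Submodule (ZMod 2) V}
    (h1 : ∀ w ∈ W, k.1 w = w) (h2 : ∀ w ∈ W, (∀ u ∈ W, B0 w u = 0) → w = 0) (h3 : 2 ^ 6 ≤ Nat.card W) :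
    ∃ g ∈ Mb, g * k * g⁻¹ = x 28 := by
  obtain ⟨r, hr, g, hg, h⟩ := (cls (Mb_le_Mb2 hk) (by rwa [sq])).resolve_left k1
  have e : g * k * g⁻¹ = el x r := h.elim id fun h => by
    rw [← inv_inv (el x r), ← h, eq_comm, inv_eq_iff_mul_eq_one, conj_mul, k2]; simp
  have m : el x r ∈ Mb := e ▸ conj_mem_of_norm (Mb2_norm hg) hk
  have f : ∀ w ∈ W, (el x r).1 (g.1 w) = g.1 w := fun w hw => by rw [← e, ap_mul, ap_mul, ap_inv, h1 w hw]
  have z : ∀ w ∈ W, (∃ v, g.1 w = (el x r).1 v + v) → w = 0 := fun w hw ⟨v, hv⟩ => h2 w hw fun u hu => by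
    have := B0_inv (form_Mb m) v (g.1 u)
    rw [← B0_inv (form_norm (Mb2_norm hg)), hv]
    simp only [f u hu, B0, map_add, LinearMap.add_apply] at this ⊢
    linear_combination this + TT.zmod_two_add_self (β0 v (g.1 u) + β0 (g.1 u) v)
  simp only [List.mem_cons, List.not_mem_nil, or_false] at hr
  rcases hr with rfl | rfl | rfl | rfl | rfl
  · refine (mem_Mb2 hg).elim (fun hg => ⟨g, hg, e.trans el28⟩) fun h => ⟨_, h, ?_⟩
    have s : x 38 * x 28 = x 28 * x 38 := by
      simpa using wd.eq (show Q [38, 28] [28, 38] = true by decide +kernel)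
    rw [← mul_inv_eq_iff_eq_mul.2 s, ← el28, ← e]; group
  · have := Nat.card_le_card_of_injective (fun p : W × Sp 20 2239 => (⟨g.1 p.1 + p.2,
      add_mem (ker_tau.1 (f _ p.1.2)) (Sp_mono (by decide +kernel) p.2.2)⟩ : Sp 20 36607))
      fun ⟨⟨a, ha⟩, b, hb⟩ ⟨⟨c, hc⟩, d, hd⟩ e => by
        have e : g.1 a + b = g.1 c + d := congrArg Subtype.val e
        obtain rfl := eq_of_add (z _ (add_mem ha hc) (im_tau (by
          convert add_mem hb hd using 1
          rw [map_add]
          linear_combination e + vv (g.1 c) - vv b)))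
        obtain rfl := add_left_cancel e
        rfl
    rw [Nat.card_prod, card_ker, card_im] at this
    omega
  · have : W = ⊥ := eq_bot_iff.2 fun w hw => z w hw ((ke_ok (Y := 1236127205932013833500893438352906072314862001427307264158550935246649844250245960641182750933669297394300181544962)
      (m := 0) (by decide +kernel) (f w hw)).imp fun v h => eq_of_add (eq_zero_of_mem_Sp h))
    simp [this] at h3
  · exact absurd (by simpa using m) sig_not_mem
  · exact absurd ((mul_mem_cancel_right (kn_Mb 28 (by decide))).1 (by simpa using m)) sig_not_mem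

/-- the minimal submodule for the centraliser of `x 28` -/
theorem min_2A {W : Submodule (ZMod 2) V} (h : ∀ g ∈ Mb, g * x 28 = x 28 * g → ∀ w ∈ W, g.1 w ∈ W)
    (h0 : W ≠ ⊥) (v : V) : (x 28).1 v + v ∈ W := by
  obtain ⟨u, hu, h0⟩ := W.exists_mem_ne_zero_of_ne_bot h0
  have k : ∀ l : List (List ℕ), (∀ a ∈ l, el x a ∈ AA) → ∃ w ∈ W, w ≠ 0 ∧ ∀ a ∈ l, (el x a).1 w = w := by
    intro l
    induction l with
    | nil => exact fun _ => ⟨u, hu, h0, by simp⟩
    | cons a l ih =>
      intro hl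
      obtain ⟨h1, h2⟩ := List.forall_mem_cons.1 hl
      obtain ⟨w, w1, w2, w3⟩ := ih h2
      by_cases e : (el x a).1 w = w
      · exact ⟨w, w1, w2, List.forall_mem_cons.2 ⟨e, w3⟩⟩
      refine ⟨_, W.add_mem (h _ (AA_le_Mb h1) (AA_comm _ h1 _ (kn_AA 28 (by decide))) w w1) w1,
        fun e1 => e (eq_of_add e1), List.forall_mem_cons.2 ⟨?_, fun b hb => ?_⟩⟩
      · rw [map_add, ← ap_mul, AA_sq h1, add_comm]; rfl
      · rw [map_add, ap_comm (AA_comm _ (h2 b hb) _ h1).eq, w3 b hb]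
  obtain ⟨w, w1, w2, w3⟩ := k as fun a ha => el_mem_cl ha
  obtain rfl := (fix_AA (v := w) (show AA ≤ Fx w from cl_le_iff.2 w3)).resolve_left w2
  refine Sp_le_of_spanB (vs := imV R LL [([], 1), ([12, 30], 1), ([32, 12, 30], 1), ([34, 12, 30], 1),
    ([2, 32, 12, 30], 1), ([16, 12, 30, 32, 30], 1)]) (sel := [1, 2, 22, 26, 0, 0, 16, 0, 0, 0, 32]) (m := 1103)
    (by decide +kernel) (imV_mem ok (by norm_num) fun p hp => ?_)
    (el28 ▸ (op_nO [28]).maps (m := 1048575) (by decide +kernel) v (mem_top v))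
  have := (allL_iff _ (fun p : List ℕ × ℕ => and' (inK 524287 p.1) (and' (Q (appendR p.1 [28]) (28 :: p.1))
    (Nat.beq p.2 1)))).1 (by decide +kernel) p hp
  simp only [and'_eq_true, beq_iff] at this
  rw [this.2.2]
  exact h _ (kn_Mb.word this.1) (by simpa [el_appendR] using wd.eq this.2.1) _ w1

/-- a totally singular fixed subspace -/
theorem sing_2A {v : V} (hv : v ∈ Sp 20 1535) : (x 28).1 v = v ∧ β0 v v = 0 :=
  ⟨el28 ▸ eq_of_add (eq_zero_of_mem_Sp ((op_nO [28]).maps (by decide +kernel) v hv)), by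
    rw [β0_apply, hv 19 (by decide), hv 18 (by decide), hv 17 (by decide), hv 16 (by decide), hv 14 (by decide),
      hv 13 (by decide), hv 15 (by decide), hv 12 (by decide), hv 11 (by decide), hv 9 (by decide)]; simp⟩

/-- a complement to part of the kernel -/
theorem free_2A : ∃ a b c : V, ∀ i j k : ZMod 2, (x 28).1 (i • a + j • b + k • c) = i • a + j • b + k • c →
    i = 0 ∧ j = 0 ∧ k = 0 := by
  refine ⟨vec 20 512, vec 20 32768, vec 20 65536, ?_⟩
  simp only [map_add, map_smul, ← el28, ← vw]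
  decide +kernel

end Cfsg.Agent.E63
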