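import Cfsg.Agent.E63.ScM1
import Cfsg.Agent.E63.ScM2
import Cfsg.Agent.E63.ScM3

/-! Computations in `U₆(2).2` on `2^20`. -/
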