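import Cfsg.Agent.E63.Out6

/-! Computations in `U₆(2).2` on `2^20`: the `3`-central elements. -/

set_option autoImplicit false

namespace Cfsg.Agent.E63

open Cfsg.Agent.Comp Cfsg.Agent.Comp.BM Cfsg.Agent.E62 Cfsg.Agent.U62S Subgroup
open Cfsg.Agent.WG hiding vec vec_zero

namespace M1

/-- no word lies in the span of the later ones -/
noncomputable def stB (cs : List (List ℕ)) : Bool :=
  List.rec (motive := fun _ => Bool) true (fun c l ih =>
    and' (allLT (Nat.pow 3 l.length) fun e => not' (Q c (nfW 3 l e))) ih) cs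

theorem str_of {P : Subgroup L} {cs : List (List ℕ)} (hs : Ser x 3 P cs) (hP : cl x cs ≤ P) (h : stB cs = true) :
    Str x cs := by
  induction cs with
  | nil => trivial
  | cons c l ih =>
    change and' _ (stB l) = true at h
    rw [and'_eq_true, allLT_iff] at h
    have hl := (cl_le_cons c l).trans hP
    refine ⟨fun hm => ?_, ih hs.2.2 hl h.2⟩
    obtain ⟨e, he, e1⟩ := wd.exists_nf (by norm_num) hs.2.2 hl hm
    exact wd.ne (h.1 e he) e1

def c3 : List (List ℕ) := [[36, 6], [32, 36, 24, 34, 8, 14, 30, 34, 36, 32, 22], [34, 0, 30, 32, 24, 36, 34, 36, 30, 18, 0, 34],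
  [4, 12, 18, 36, 34, 2, 18, 30, 24, 34, 36, 4], [0, 4, 16, 36, 32, 30, 2, 32, 36, 12, 4, 0], [36, 30, 12, 6]]

theorem card_c3 : Nat.card (cl x c3) = 3 ^ 6 :=
  have s : Ser x 3 (cl x c3) c3 := wd.ser_of (es := [(0, [0, 186, 189, 216, 0, 0]), (0, [58, 0, 27, 0, 0, 0]),
    (0, [24, 18, 0, 0, 18, 0]), (0, [7, 0, 0, 0, 3, 0]), (0, [0, 0, 1, 2, 0, 0]), (0, [0, 0, 0, 0, 0, 0])])
    (by decide +kernel)
  s.card_eq Nat.prime_three wd le_rfl (str_of s le_rfl (by decide +kernel))

end M1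

open M1

theorem cen3_yB : Cen3 yB := by
  have := Fact.mk Nat.prime_three
  have o : orderOf yB = 3 := wd.orderOf_eq (by decide +kernel)
  refine ⟨kn_Mb.word (by decide +kernel), o ▸ pow_orderOf_eq_one yB, fun e => by simp [e] at o, ?_⟩
  refine (card_c3 ▸ dvd_rfl : 729 ∣ Nat.card (cl x c3)).trans (card_dvd_of_le (le_inf (kn_Mb.cl_le (by decide +kernel))
    fun a ha => mem_centralizer_singleton_iff.2 ?_))
  exact wd.commute_of_comB (vs := [[36, 30, 12, 6]]) (by decide +kernel) a ha _ (el_mem_cl List.mem_cons_self)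

theorem DV.conj {v : V} {n : L} (h : DV v) (hn : n ∈ normalizer (Mb : Set L)) : DV (n.1 v) :=
  let ⟨h1, c, h2, h3⟩ := h
  ⟨(form_norm hn v).trans h1, _, h2.conj hn, by rw [ap_mul, ap_mul, ap_inv, h3]⟩

theorem dv0 : DV (vec 20 2304) := by
  have h : DV (vec 20 3712) :=
    ⟨by rw [β0_apply]; decide +kernel, yB, cen3_yB, (vw _ _).symm.trans (congrArg (vec 20) (by decide +kernel))⟩
  have := h.conj (le_normalizer (kn_Mb.word (u := [36, 4]) (by decide +kernel)))
  rwa [← vw, show wo R LL [36, 4] 3712 = 2304 by decide +kernel] at this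

theorem exists_DV : ∃ v, DV v := ⟨_, dv0⟩

theorem Gd3.conj {v : V} {k n : L} (h : Gd3 v k) (hn : n ∈ normalizer (Mb : Set L)) :
    Gd3 (n.1 v) (n * k * n⁻¹) := by
  obtain ⟨c, h1, h3, w, h4⟩ := h
  refine ⟨n * c * n⁻¹, h1.conj hn, by rw [conj_mul, h3, conj_mul], n.1 w, ?_⟩
  simp only [ap_mul, ap_inv]
  rw [← map_add, h4, map_add]

theorem Gd3.back {v : V} {k n : L} (hn : n ∈ normalizer (Mb : Set L)) (h : Gd3 (n.1 v) (n * k * n⁻¹)) : Gd3 v k := by
  simpa [ap_inv, mul_assoc] using h.conj (inv_mem hn)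

theorem Gd3.add {v : V} {k : L} (h : Gd3 v k) (m : V) : Gd3 (v + (k.1 m + m)) k := by
  obtain ⟨c, h1, h3, w, h4⟩ := h
  refine ⟨c, h1, h3, w + (c.1 m + m), ?_⟩
  simp only [map_add, ap_comm h3]
  linear_combination h4

namespace M1

/-- the hypotheses on the invariant function -/
structure Lm (k : L) (lam : V → ZMod 2) : Prop where
  k2 : k * k = 1
  h0 : lam 0 = 0
  hq : ∀ v w, k.1 v = v → k.1 w = w → lam (v + w) = lam v + lam w + B0 v w
  hi : ∀ v w, k.1 v = v → lam (v + (k.1 w + w)) = lam v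
  hc : ∀ g ∈ Mb, g * k = k * g → ∀ v, k.1 v = v → lam (g.1 v) = lam v

theorem Lm.conj {k n : L} {lam : V → ZMod 2} (h : Lm k lam) (hn : n ∈ normalizer (Mb : Set L)) :
    Lm (n * k * n⁻¹) fun v => lam (n⁻¹.1 v) := by
  have f : ∀ v, (n * k * n⁻¹).1 v = v → k.1 (n⁻¹.1 v) = n⁻¹.1 v := fun v e => by
    conv_rhs => rw [← e, ap_mul, ap_mul, ap_inv]
  refine ⟨by rw [conj_mul, h.k2]; simp, by simp [h.h0], fun v w hv hw => ?_, fun v w hv => ?_, fun g hg c v hv => ?_⟩
  · rw [map_add, h.hq _ _ (f v hv) (f w hw), B0_inv (form_norm (inv_mem hn))]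
  · rw [map_add, map_add, ap_mul, ap_mul, ap_inv, h.hi _ _ (f v hv)]
  · rw [← h.hc _ (conj_mem_of_norm' hn hg) (by
      rw [← mul_left_cancel_iff (a := n), ← mul_right_cancel_iff (a := n⁻¹)]; simpa [mul_assoc] using c) _ (f v hv),
      ap_mul, ap_mul, ap_inv']

variable {k : List ℕ} {lam : V → ZMod 2}

/-- the claim for one vector -/
def Pl (k : L) (lam : V → ZMod 2) (v : V) : Prop := k.1 v = v → lam v = 1 → Gd3 v k

theorem Lm.zero {k : L} (h : Lm k lam) : Pl k lam (vec 20 0) := fun _ e => by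
  rw [vec_zero, h.h0] at e; exact absurd e zero_ne_one

theorem Lm.add {k : L} (h : Lm k lam) {v : V} (w : V) (p : Pl k lam v) : Pl k lam (v + (k.1 w + w)) := fun e e' => by
  have : k.1 v = v := by
    rw [map_add, map_add, ← ap_mul, h.k2, add_comm (k.1 w)] at e
    exact add_right_cancel e
  exact (p this (h.hi _ w this ▸ e')).add w

theorem Lm.cl (h : Lm (el x k) lam) {Y im K tab m : ℕ} {cs es : List ℕ}
    (b : and' (keB k Y m) (clB k Y im K tab 0 m cs es []) = true) (he : ∀ e ∈ es, Pl (el x k) lam (vec 20 e))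
    (v : V) : Pl (el x k) lam v := fun hv => by
  simp only [clB, and'_eq_true, allL_iff, allLT_iff, or'_eq_true, not'_eq_true, tb_eq, blt_iff] at b
  obtain ⟨h0, h1, -, h3, h4, h5⟩ := b
  obtain ⟨w, hw⟩ := ke_ok h0 hv
  have := h.add w (cov_ok (P := Pl (el x k) lam) h5 (fun v => run_ok (P := Pl (el x k) lam) (fun a ha v p => ?_)
    (fun v m hm p => ?_) fun b hb => he b (by simpa [appendR_eq, mapR_eq] using hb)) hw)
  · rw [vec_zero, zero_add, add_assoc, vv, add_zero] at this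
    exact this hv
  · have a1 : a < 19 := by
      by_contra hc
      rw [Nat.testBit_lt_two_pow (h4.trans_le (Nat.pow_le_pow_right two_pos (not_lt.1 hc)))] at ha
      exact Bool.false_ne_true ha
    have a2 : x (2 * a) * el x k = el x k * x (2 * a) := by
      simpa [el_appendR] using wd.eq ((h3 a a1).resolve_left (not_not.2 ha))
    have a3 : x (2 * a) ∈ Mb := kn_Mb _ (by
      rw [Nat.mul_div_cancel_left _ two_pos]
      exact (Nat.testBit_two_pow_sub_one 19 a).trans (decide_eq_true a1))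
    exact fun e e' => Gd3.back (le_normalizer a3) (by
      rw [a2, mul_inv_cancel_right]
      exact p (by rw [← ap_comm a2, e]) (by rw [h.hc _ a3 a2 _ e, e']))
  · obtain ⟨w, rfl⟩ := im_ok h1 hm
    exact h.add w p

/-- three vectors of one orbit on a line -/
theorem Lm.line (h : Lm (el x k) lam) {Y im a : ℕ} {u w : List ℕ} (b : and' (imB k Y im) (and' (allL [u, w] fun u =>
    and' (inK 524287 u) (Q (appendR u k) (appendR k u))) (sb (Nat.xor (Nat.xor a (wo R LL u a)) (wo R LL w a)) im)) = true)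
    (b0 : B0 (vec 20 a) (vec 20 (wo R LL u a)) = 0) : Pl (el x k) lam (vec 20 a) := fun e e' => by
  simp only [and'_eq_true, allL_iff, List.forall_mem_cons] at b
  obtain ⟨h1, ⟨⟨u1, u2⟩, ⟨w1, w2⟩, -⟩, h2⟩ := b
  have u3 : el x u * el x k = el x k * el x u := by simpa [el_appendR] using wd.eq u2
  have w3 : el x w * el x k = el x k * el x w := by simpa [el_appendR] using wd.eq w2
  obtain ⟨m, hm⟩ := im_ok h1 (vec_mem_Sp h2)
  change vec 20 (a ^^^ wo R LL u a ^^^ wo R LL w a) = _ at hm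
  rw [vw] at b0
  rw [vec_xor, vec_xor, vw, vw] at hm
  have h3 := h.hi ((el x w).1 (vec 20 a)) m (by rw [← ap_comm w3, e])
  rw [← hm, add_comm, add_assoc, vv, add_zero, h.hq _ _ e (by rw [← ap_comm u3, e]), b0,
    h.hc _ (kn_Mb.word u1) u3 _ e, h.hc _ (kn_Mb.word w1) w3 _ e, e'] at h3
  exact absurd h3 (by decide)

theorem gd {Y im a : ℕ} {u : List ℕ} (b : and' (imB k Y im) (and' (inK 524287 u) (forceW (cjW u [36, 30, 12, 6]) fun c =>
    and' (Q (appendR c k) (appendR k c)) (sb (Nat.xor (wo R LL c a) a) im))) = true) : Pl (el x k) lam (vec 20 a) :=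
  fun _ _ => by
    simp only [and'_eq_true, forceW_eq] at b
    obtain ⟨h1, h2, h3, h4⟩ := b
    refine ⟨el x (cjW u [36, 30, 12, 6]), wd.el_cjW _ _ ▸ cen3_yB.conj (le_normalizer (kn_Mb.word h2)),
      by simpa only [el_appendR] using wd.eq h3, ?_⟩
    rw [← vw, ← vec_xor]
    exact im_ok h1 (vec_mem_Sp h4)

def Y1 : ℕ := 842498333348457493583344569918507185592147500815790409622180856320
def Y3 : ℕ := 1236127205932013833500893438352906072314862001427307264158550935246649844250245960641182750933669297394300181544962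
def Y4 : ℕ := 279968092772225526350034486512089453244669070012236109535005333429292604996355114579925279353285378048
def Y5 : ℕ := 279985180668512893630693646685738810504084224996872456340509479680662368346308709404316363249476960768

theorem reps {k : L} (hk : k ∈ Mb2) (k2 : k * k = 1) (k1 : k ≠ 1) :
    ∃ g ∈ Mb2, ∃ r ∈ [[28], [26], [12, 26], [38], [38, 28]], g * k * g⁻¹ = el x r := by
  obtain ⟨r, hr, g, hg, h⟩ := (cls hk (by rwa [sq])).resolve_left k1
  exact ⟨g, hg, r, hr, h.elim id fun h => by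
    rw [← inv_inv (el x r), ← h, eq_comm, inv_eq_iff_mul_eq_one, conj_mul, k2]; simp⟩

/-- vectors of type `DV` fixed by `k` -/
theorem wd_mem {us : List (List ℕ)} (b : allL us (fun u => and' (inK 524287 u)
    (force (wo R LL u 2304) fun a => Nat.beq (wo R LL k a) a)) = true) :
    ∀ a ∈ mapR (fun u => wo R LL u 2304) us, vec 20 a ∈ WD (el x k) := fun a ha => by
  rw [mapR_eq] at ha
  obtain ⟨u, hu, rfl⟩ := List.mem_map.1 ha
  have := (allL_iff _ _).1 b u hu
  rw [and'_eq_true, force_eq, beq_iff] at this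
  exact Submodule.subset_span ⟨vw u _ ▸ dv0.conj (le_normalizer (kn_Mb.word this.1)), by rw [← vw, this.2]⟩

theorem ker_le {Y m : ℕ} {us : List (List ℕ)} {sel sel' : List ℕ} (b : and' (keB k Y m) (and' (allL us (fun u =>
    and' (inK 524287 u) (force (wo R LL u 2304) fun a => Nat.beq (wo R LL k a) a)))
      (forceW (mapR (fun u => wo R LL u 2304) us) fun vs => and' (spanB 20 vs sel m)
        (allLT 20 fun i => Nat.beq (xs vs (getL 0 sel' i)) (nO k (Nat.pow 2 i))))) = true)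
    {v : V} (hv : (el x k).1 v = v) : v ∈ WD (el x k) := by
  simp only [and'_eq_true, forceW_eq, allLT_iff, beq_iff] at b
  obtain ⟨h1, h2, h3, h4⟩ := b
  obtain ⟨w, hw⟩ := ke_ok h1 hv
  have h5 := Sp_le (U := (WD (el x k)).comap ((el x k).1 + 1)) (fun i hi _ => by
    have := xs_mem (wd_mem h2) (getL 0 sel' i)
    rwa [h4 i hi, (op_nO k).vec (by norm_num)] at this) (mem_top w)
  have h6 := add_mem (Sp_le_of_spanB h3 (wd_mem h2) hw) h5
  rwa [LinearMap.add_apply, Module.End.one_apply, add_assoc, vv, add_zero] at h6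

end M1

theorem F1 {k : L} (hk : k ∈ Mb2) (k2 : k * k = 1) (k1 : k ≠ 1) {lam : V → ZMod 2} (h0 : lam 0 = 0)
    (hq : ∀ v w, k.1 v = v → k.1 w = w → lam (v + w) = lam v + lam w + B0 v w)
    (hi : ∀ v w, k.1 v = v → lam (v + (k.1 w + w)) = lam v)
    (hc : ∀ g ∈ Mb, g * k = k * g → ∀ v, k.1 v = v → lam (g.1 v) = lam v)
    {v : V} (hv : k.1 v = v) (e : lam v = 1) : Gd3 v k := by
  obtain ⟨g, hg, r, hr, e1⟩ := reps hk k2 k1
  have h := Lm.conj ⟨k2, h0, hq, hi, hc⟩ (Mb2_norm hg)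
  refine Gd3.back (Mb2_norm hg) ?_
  have h1 : (g * k * g⁻¹).1 (g.1 v) = g.1 v := by rw [ap_mul, ap_mul, ap_inv, hv]
  rw [e1] at h h1 ⊢
  refine (?_ : Pl (el x r) (fun v => lam (g⁻¹.1 v)) (g.1 v)) h1 (by simp only [ap_inv, e])
  simp only [List.mem_cons, List.not_mem_nil, or_false] at hr
  rcases hr with rfl | rfl | rfl | rfl | rfl
  · exact h.cl (Y := Y1) (im := 1103) (K := 262143) (m := 31152) (cs := [4, 5, 7, 8, 11, 12, 13, 14])
      (tab := 0x8441002e000420f80007805f0442000ae308c0e68ae318c5e18c5718c6310440f0bdef0bc0109e01805010c1eb33e3080608046088ae2004611882268c6205be21044113c408404280042f0802f384273be317c5018a10f5862b7bce0018d1784085802b3c0278410141a105860b59c218c0215a02f5802b7bde78be318c411318c77c62079def8be3131cc684030842013bdef398c6006210c6200820184400)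
      (es := [0, 16, 8224]) (by decide +kernel) (by
        simp only [List.forall_mem_cons]
        exact ⟨h.zero, h.line (Y := Y1) (im := 1103) (u := [2, 32]) (w := [32]) (by decide +kernel) (by decide +kernel),
          gd (Y := Y1) (im := 1103) (u := [2, 32, 36, 4, 0]) (by decide +kernel), by simp⟩) _
  · exact h.cl (Y := Yt) (im := 2239) (K := 327675) (m := 34368) (cs := [6, 9, 10, 15])
      (tab := 0x93e5278cc3181e690c00) (es := [0, 64, 1536]) (by decide +kernel) (by
        simp only [List.forall_mem_cons]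
        exact ⟨h.zero, h.line (Y := Yt) (im := 2239) (u := [6, 36]) (w := [36]) (by decide +kernel) (by decide +kernel),
          gd (Y := Yt) (im := 2239) (u := []) (by decide +kernel), by simp⟩) _
  · exact h.cl (Y := Y3) (im := 0) (K := 0) (m := 0) (cs := []) (tab := 0) (es := [0]) (by decide +kernel)
      (by simpa using h.zero) _
  · exact h.cl (Y := Y4) (im := 75924) (K := 388458) (m := 820803) (cs := [0, 1, 6, 9, 10, 15, 18, 19])
      (tab := 0x7bd4f7bdef7aa4f7bdef7bde87bdea7bdef7bd4a7bdef7bdef2a108421087bdef7bdef43d08420a8318c654210840c63421031a0681950804d08420a318c6318c64210841908318c6318c632168420c8842108421082e1082e0b2c210816059197032e060843208421906520ac2b084a109425584a50ac2b94a527be4f94a5294a527bdef18c633486618c6358503415007bde8340c894a5218c638402179800)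
      (es := [0, 1, 1536]) (by decide +kernel) (by
        simp only [List.forall_mem_cons]
        exact ⟨h.zero, h.line (Y := Y4) (im := 75924) (u := [12, 30]) (w := [30]) (by decide +kernel) (by decide +kernel),
          gd (Y := Y4) (im := 75924) (u := []) (by decide +kernel), by simp⟩) _
  · exact h.cl (Y := Y5) (im := 0) (K := 0) (m := 0) (cs := []) (tab := 0) (es := [0]) (by decide +kernel)
      (by simpa using h.zero) _

theorem F2 {k : L} (hk : k ∈ Mb2) (k2 : k * k = 1) (k1 : k ≠ 1) :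
    (∀ v, k.1 v = v → v ∈ WD k) ∨ ∃ g ∈ Mb, g * k * g⁻¹ = tau := by
  obtain ⟨g, hg, r, hr, e1⟩ := reps hk k2 k1
  have t : (∀ v, (el x r).1 v = v → v ∈ WD (el x r)) → ∀ v, k.1 v = v → v ∈ WD k := fun h v hv => by
    have h1 : WD (el x r) ≤ (WD k).comap g⁻¹.1 := Submodule.span_le.2 fun w hw =>
      Submodule.subset_span ⟨hw.1.conj (Mb2_norm (inv_mem hg)), by
        conv_rhs => rw [← hw.2, ← e1, ap_mul, ap_mul, ap_inv]⟩
    simpa [ap_inv] using h1 (h (g.1 v) (by rw [← e1, ap_mul, ap_mul, ap_inv, hv]))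
  simp only [List.mem_cons, List.not_mem_nil, or_false] at hr
  rcases hr with rfl | rfl | rfl | rfl | rfl
  · exact .inl (t fun v => ker_le (Y := Y1) (m := 31152)
      (us := [[], [0], [2], [4], [6], [8], [10], [12], [24], [26], [30], [32], [34], [34, 0]])
      (sel := [0, 0, 0, 0, 3, 5, 0, 129, 12418, 0, 0, 12419, 1025, 2049, 4097, 0, 0, 0, 0, 0])
      (sel' := [0, 0, 0, 0, 0, 0, 0, 0, 0, 513, 0, 0, 0, 0, 0, 257, 33, 96, 17, 24]) (by decide +kernel))
  · refine .inr ((mem_Mb2 hg).elim (fun h => ⟨g, h, e1⟩) fun h => ⟨_, h, ?_⟩)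
    have s : x 38 * tau = tau * x 38 := by
      simpa [tau] using wd.eq (show Q [38, 26] [26, 38] = true by decide +kernel)
    rw [← mul_inv_eq_iff_eq_mul.2 s, tau, ← e1]; group
  · exact .inl (t fun v => ker_le (Y := Y3) (m := 0)
      (us := [[2, 32, 30, 32, 36, 2], [2, 32, 30, 0, 32, 36], [2, 32, 30, 32, 4, 36, 0], [2, 32, 30, 14, 32, 36, 0],
        [2, 32, 30, 32, 36, 26, 2], [2, 32, 30, 32, 20, 36, 2], [2, 32, 30, 24, 32, 36, 2], [2, 32, 12, 30, 32, 36, 2],
        [2, 32, 14, 30, 32, 36, 2], [2, 32, 18, 30, 32, 36, 2]]) (sel := [])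
      (sel' := [0, 525, 0, 0, 0, 0, 0, 0, 525, 0, 540, 9, 576, 48, 65, 394, 258, 10, 516, 962]) (by decide +kernel))
  · exact .inl (t fun v => ker_le (Y := Y4) (m := 820803)
      (us := [[4, 36], [4, 36, 12], [4, 36, 24], [4, 36, 26], [4, 36, 30], [2, 4, 36], [10, 4, 36], [32, 4, 36],
        [8, 32, 36, 2], [4, 36, 30, 12], [32, 4, 36, 30], [2, 32, 4, 36], [36, 32, 4, 36], [30, 32, 4, 36, 30]])
      (sel := [9, 5, 0, 0, 0, 0, 390, 0, 0, 919, 2738, 0, 0, 0, 0, 2224, 0, 0, 5249, 9233])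
      (sel' := [0, 0, 0, 101, 0, 33, 0, 0, 389, 0, 0, 0, 2209, 0, 129, 0, 0, 4241, 0, 0]) (by decide +kernel))
  · exact .inl (t fun v => ker_le (Y := Y5) (m := 0)
      (us := [[36, 32, 6, 2], [36, 32, 10, 2], [36, 24, 32, 2], [24, 36, 32, 2], [18, 36, 32, 6], [36, 32, 36, 10],
        [18, 36, 32, 24], [14, 10, 36, 32], [6, 36, 32, 6, 2], [36, 30, 32, 36, 10]]) (sel := [])
      (sel' := [0, 0, 0, 10, 0, 12, 0, 0, 17, 85, 0, 0, 192, 0, 257, 3, 10, 458, 43, 544]) (by decide +kernel))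

theorem WT_le : WT ≤ WD tau := Submodule.span_le.2 (by
  rintro _ ⟨a, ha, rfl⟩
  have h := xs_mem (wd_mem (k := [26]) (us := [[4, 36], [4, 36, 0], [4, 36, 2], [4, 36, 8], [4, 36, 10], [4, 36, 12],
    [4, 36, 24], [4, 36, 26], [4, 36, 30], [4, 36, 30, 12]]) (by decide +kernel))
  have : ∀ a ∈ [1, 2, 4, 8, 16, 32, 192, 576, 3648, 33792], ∃ j ∈ [129, 65, 10, 29, 30, 18, 33, 769, 32, 544],
      xs (mapR (fun u => wo R LL u 2304) [[4, 36], [4, 36, 0], [4, 36, 2], [4, 36, 8], [4, 36, 10], [4, 36, 12],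
        [4, 36, 24], [4, 36, 26], [4, 36, 30], [4, 36, 30, 12]]) j = a := by decide +kernel
  obtain ⟨j, -, e⟩ := this a ha
  exact e ▸ h j)

end Cfsg.Agent.E63
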