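import Cfsg.Agent.E63.ApiC
import Cfsg.Agent.E63.O2

/-! The quaternion groups `R(y)` commute. -/

set_option autoImplicit false
set_option synthInstance.maxSize 4000
set_option synthInstance.maxHeartbeats 400000

namespace Cfsg.Agent.E63

open Subgroup Cfsg.Agent.F22L Cfsg.Agent.F22L.Wr Cfsg.Agent.PLocal.Amb Cfsg.Agent.Loc3

variable {G : Type*} [Group G] [Finite G] {z : G} {ψ : Hs →* G} {ρ : G → Wr} {l : G → V →+ F3}
  {X : Subgroup Wr} {κ : B8 →* G} {j : G}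

theorem sb_iso {y : F5} (hy : qq y = 1) (x x' : F5) : bb (rf y x) (rf y x') = bb x x' := by
  have e : bb (rf y x) (rf y x') = bb x x' + (2 + bb y y) * (bb x y * bb x' y) := by
    simp only [rf, bb, Prod.fst_add, Prod.snd_add, Prod.smul_fst, Prod.smul_snd, smul_eq_mul]; ring
  rw [e, show bb y y = 1 from hy, show (2 + 1 : F3) = 0 from rfl, zero_mul, add_zero]

theorem sb_mv : ∀ y, Sing y → y = ez ∨ y = -ez ∨ ∃ u, Root u ∧ (rf u ez = y ∨ rf u (-ez) = y) := by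
  decide +kernel

theorem sb_pair : ∀ y, Sing y → ∀ y', Sing y' → y' ≠ y → y' ≠ -y →
    bb y y' ≠ 0 ∧ ∃ a, Root a ∧ bb a y = 0 ∧ bb a y' = 0 := by
  decide +kernel

/-- the centre of `O₂(C_Y(t)) / ⟨t⟩` in `Y = U₆(2)` -/
theorem sb_D {Y : Subgroup G} (e : Y ≃* PSU 6 Class.GF4 2) {t : G} (ht : t ∈ Y) (t1 : t ≠ 1) (t2 : t * t = 1) :
    ∃ D ≤ Y ⊓ centralizer {t}, centralizer {t} ⊓ 𝐍[Y] ≤ 𝐍[D] ∧ IsPGroup 2 D ∧ ¬ D ≤ zpowers t ∧
      ∀ u ∈ D, ∀ w ∈ D, u * w * u⁻¹ * w⁻¹ ∈ zpowers t := by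
  have := Fact.mk Nat.prime_two
  obtain ⟨D', d1, d2, d3, d4⟩ : ∃ D' ≤ Y ⊓ centralizer {t}, centralizer {t} ⊓ 𝐍[Y] ≤ 𝐍[D'] ∧ IsPGroup 2 D' ∧
      ¬ D' ≤ zpowers t := by
    obtain ⟨D, a1, a2, a3, a4⟩ := o2_U e (t := ⟨t, ht⟩) (fun e => t1 (congrArg Subtype.val e)) (Subtype.ext t2)
    refine ⟨_, pCoreOf_le 2 _, fun x hx => normalizer_le_normalizer_pCoreOf 2 _ (le_normalizer_inf inf_le_right
      (inf_le_left.trans le_normalizer) hx), isPGroup_pCoreOf 2 _, fun k => a4 fun d hd => ?_⟩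
    obtain ⟨i, hi⟩ := k (le_pCoreOf (R := D.map Y.subtype) (a3.map _) (by
      rintro _ ⟨d, hd, rfl⟩
      exact ⟨d.2, mem_cent.2 (congrArg Subtype.val (mem_cent.1 (a1 hd)).eq)⟩) (fun x hx =>
        mem_normalizer_fintype (by
          rintro _ ⟨d, hd, rfl⟩
          exact ⟨_, conj_mem_of_mem_normalizer (a2 (x := ⟨x, hx.1⟩)
            (mem_cent.2 (Subtype.ext (mem_cent.1 hx.2).eq))) hd, rfl⟩)) ⟨d, hd, rfl⟩)
    exact ⟨i, Subtype.ext (by simpa using hi)⟩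
  have cz {a s : G} (ha : a ∈ centralizer {t}) (hs : s ∈ zpowers t) : a * s * a⁻¹ = s := by
    obtain ⟨i, rfl⟩ := hs
    exact conj_of_comm ((mem_cent.1 ha).zpow_right i)
  let D : Subgroup G :=
    { carrier := {d | d ∈ D' ∧ ∀ w ∈ D', d * w * d⁻¹ * w⁻¹ ∈ zpowers t}
      one_mem' := ⟨one_mem _, fun w _ => by simp⟩
      mul_mem' := fun {a b} ha hb => ⟨mul_mem ha.1 hb.1, fun w hw => by
        have := mul_mem (hb.2 w hw) (ha.2 w hw)
        rw [← cz (d1 ha.1).2 (hb.2 w hw)] at this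
        convert this using 1; group⟩
      inv_mem' := fun {a} ha => ⟨inv_mem ha.1, fun w hw => by
        have := inv_mem (ha.2 w hw)
        rw [← cz (inv_mem (mem_inf.1 (d1 ha.1)).2) this] at this
        convert this using 1; group⟩ }
  refine ⟨D, fun d hd => d1 hd.1, fun x hx => mem_normalizer_fintype fun d hd =>
    ⟨conj_mem_of_mem_normalizer (d2 hx) hd.1, fun w hw => ?_⟩, d3.to_le fun d hd => hd.1, fun k => ?_,
    fun u hu w hw => hu.2 w hw.1⟩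
  · have := hd.2 _ (inv_conj_mem_of_mem_normalizer (d2 hx) hw)
    rw [← cz hx.1 this] at this
    convert this using 1; group
  · have : ((zpowers t).subgroupOf D').Normal := ⟨fun s hs a => by
      rw [mem_subgroupOf, coe_mul, coe_mul, coe_inv, cz (d1 a.2).2 (mem_subgroupOf.1 hs)]; exact hs⟩
    have : Nontrivial (D' ⧸ (zpowers t).subgroupOf D') := QuotientGroup.nontrivial_iff.2 fun e =>
      d4 (subgroupOf_eq_top.1 e)
    obtain ⟨⟨x, hx⟩, x1⟩ := @exists_ne _ (d3.to_quotient ((zpowers t).subgroupOf D')).center_nontrivial 1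
    obtain ⟨d, rfl⟩ := QuotientGroup.mk_surjective x
    refine x1 (Subtype.ext ((QuotientGroup.eq_one_iff d).2 (k ⟨d.2, fun w hw => ?_⟩)))
    refine (QuotientGroup.eq_one_iff (N := (zpowers t).subgroupOf D') (d * ⟨w, hw⟩ * d⁻¹ * ⟨w, hw⟩⁻¹)).1 ?_
    simp [← mem_center_iff.1 hx]

omit [Finite G] in
theorem sb_cube {c w u t : G} (cu : Commute u c) (ct : Commute t c) (e : u * w * u⁻¹ = c * w) (tw : Commute t w)
    (k : Commute (u * (t * u * t⁻¹) * (t⁻¹ * u * t)) w) : c ^ 3 = 1 := by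
  have k1 {a b c1 c2 : G} (e1 : a * w * a⁻¹ = c1 * w) (e2 : b * w * b⁻¹ = c2 * w) (c : Commute a c2) :
      a * b * w * (a * b)⁻¹ = c2 * c1 * w := by
    rw [mul_assoc c2, ← e1, ← conj_of_comm c, conj_mul, ← e2]; group
  have k2 {t : G} (ct : Commute t c) (tw : Commute t w) : t * u * t⁻¹ * w * (t * u * t⁻¹)⁻¹ = c * w := by
    simpa only [one_mul, mul_one] using k1 (k1 (c1 := 1) (by rw [conj_of_comm tw, one_mul]) e ct) (c2 := 1)
      (by rw [conj_of_comm tw.inv_left, one_mul]) (Commute.one_right _)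
  have k3 := k2 ct.inv_left tw.inv_left
  rw [inv_inv] at k3
  have := k1 (k1 e (k2 ct tw) cu) k3 (cu.mul_left ((ct.mul_left cu).mul_left ct.inv_left))
  rw [conj_of_comm k] at this
  rw [pow_three]; exact right_eq_mul.1 this

variable {U : Subgroup G}

namespace Fr

variable (h : Fr z ψ ρ l X κ j) (hU : Xs z ψ κ j U)
include h hU

theorem rflU {y : F5} (hy : Root y) : ∃ n ∈ U, AK ψ κ j n (rf y) := by
  obtain ⟨n, w, a, rfl⟩ := h.mv1 hy
  have m : n * rr κ 1 * n⁻¹ ∈ U := conj_mem_of_mem_normalizer (hU.nrm (centralizer_le_normalizer' _ (by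
    rw [centralizer_zpowers]; exact mem_cent.2 a.cρ))) (hU.mR 1 (by decide) (rr_mem κ 1))
  refine ⟨_, m, fun x => ?_, hU.cr _ m, by rw [rf, bb_er, hy.2, zero_smul, add_zero], sb_iso hy.1⟩
  obtain ⟨x, rfl⟩ := a.surj x
  rw [← a.act, show n * rr κ 1 * n⁻¹ * (n * io ψ j x * n⁻¹) * (n * rr κ 1 * n⁻¹)⁻¹ =
    n * (rr κ 1 * io ψ j x * (rr κ 1)⁻¹) * n⁻¹ by group, h.act_rr, rf, rf, h.io_add, h.io_add, h.io_smul,
    h.io_smul, ← conj_mul, ← conj_pow, a.act, a.act, a.iso]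

theorem mvU {y : F5} (hy : Sing y) : ∃ n ∈ U, ∃ w, AK ψ κ j n w ∧ w ez = y := by
  obtain ⟨n0, m0, w0, a0, e0⟩ : ∃ n ∈ U, ∃ w, AK ψ κ j n w ∧ w ez = -ez := by
    obtain ⟨n1, m1, a1⟩ := h.rflU hU (y := (0, 0, 0, 1, 1)) (by decide)
    obtain ⟨n2, m2, a2⟩ := h.rflU hU (y := (0, 0, 1, 0, 1)) (by decide)
    obtain ⟨n3, m3, a3⟩ := h.rflU hU (y := (1, 0, 2, 2, 1)) (by decide)
    exact ⟨_, mul_mem m1 (mul_mem m2 m3), _, a1.mul (a2.mul a3), by decide⟩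
  rcases sb_mv y hy with rfl | rfl | ⟨u, hu, e⟩
  · exact ⟨1, one_mem _, id, AK.one, Eq.refl _⟩
  · exact ⟨n0, m0, w0, a0, e0⟩
  obtain ⟨n, m, a⟩ := h.rflU hU hu
  rcases e with e | e
  · exact ⟨n, m, _, a, e⟩
  · exact ⟨_, mul_mem m m0, _, a.mul a0, by rw [Function.comp, e0, e]⟩

theorem sb_main : (centralizer {rr κ 0} ⊓ centralizer {io ψ j (er 1)} ≤ 𝐍[SA ψ κ j (er 1)]) ∧
    ∀ u ∈ SA ψ κ j (er 1), ∀ w ∈ SA ψ κ j (er 1), u * w * u⁻¹ * w⁻¹ ∈ zpowers (rr κ 0) := by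
  have := Fact.mk Nat.prime_two
  obtain ⟨p, p1, p2, p3, p4⟩ := h.cyc
  have e1 : p * rr κ 2 * p⁻¹ = rr κ 0 := by rw [h.conj_rr ⟨p1, p2⟩, p3]; rfl
  have e2 : p * rho ψ 0 * p⁻¹ = io ψ j (er 1) := by
    rw [Bj.io_er, rho, h.act0 ⟨p1, p2⟩, smul_single, p4, p3]; rfl
  obtain ⟨e⟩ := hU.iso
  obtain ⟨D, d1, d2, d3, d4, d5⟩ := sb_D ((U.equivMapOfInjective _ (MulAut.conj p).injective).symm.trans e)
    (t := rr κ 0) (e1 ▸ conj_mem_cj p (hU.mR 2 (by decide) (rr_mem κ 2))) (h.rr_ne 0) (rr_sq κ 0)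
  replace d2 : centralizer {rr κ 0} ⊓ centralizer {io ψ j (er 1)} ≤ 𝐍[D] := (inf_le_inf_left _ (by
    rw [← e2, centralizer_singleton_conj, ← centralizer_zpowers]
    exact (cj_mono p ((centralizer_le_normalizer' _).trans hU.nrm)).trans (normalizer_cj p U).ge)).trans d2
  have cr d (hd : d ∈ D) : Commute d (rr κ 0) := mem_cent.1 (d1 hd).2
  have cρ d (hd : d ∈ D) : Commute d (io ψ j (er 1)) := by
    obtain ⟨u, hu, rfl⟩ := mem_cj_iff_exists.1 (d1 hd).1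
    exact e2 ▸ Commute.cj (hU.cρ u hu) p
  have hT : TT ψ j ≤ 𝐍[D] := fun t ht => d2 (by
    obtain ⟨x, x0, rfl⟩ := h.mem_TT.1 ht
    exact ⟨mem_cent.2 (h.io_rr.2 x0), mem_cent.2 (h.io_comm _ _)⟩)
  have c3 : (Nat.card D).Coprime 3 := by
    obtain ⟨i, e⟩ := d3.exists_card_eq
    rw [e]; exact Nat.Coprime.pow_left _ (by decide)
  have fp {y} (hy : Sing y) (e : sc y 1 ≠ 0) : D ⊓ RY ψ κ j y ≤ zpowers (rr κ 0) := fun u hu =>
    h.RY_fpf hy (x := er 1) (Eq.refl _) (by rwa [bb_er]) hu.2 (cρ u hu.1)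
  have key {y} (hy : Sing y) (e : sc y 1 = 0) : RY ψ κ j y ≤ D ↔ RY ψ κ j ez ≤ D := by
    obtain ⟨n, w, a, a1, -, a2⟩ := h.mv2 hy e
    have a3 : cj(n, D) = D := cj_of_mem_normalizer (d2 ⟨mem_cent.2 a.cr, mem_cent.2 (comm_of_conj (by
      rw [a.act, a1]))⟩)
    rw [← cj_le_cj_iff (g := n) (Q := RY ψ κ j ez), a3, a.cj_RY]
    rcases a2 with a2 | a2
    · rw [a2]
    · rw [a2, RY_neg h.toBj]
  have k0 : RY ψ κ j ez ≤ D := by_contra fun k => d4 (h.le_of_RY cr hT c3 fun y hy => by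
    by_cases e : sc y 1 = 0
    · exact (h.RY_irr hy inf_le_right (le_normalizer_inf hT (h.TT_norm_RY y))).resolve_right fun e' =>
        k ((key hy e).1 (e'.ge.trans inf_le_left))
    · exact fp hy e)
  have eD : SA ψ κ j (er 1) = D := le_antisymm (iSup₂_le fun y hy => (key hy.1 (bb_er 1 y ▸ hy.2)).2 k0)
    (h.le_of_RY cr hT c3 fun y hy => by
      by_cases e : sc y 1 = 0
      · exact inf_le_right.trans (RY_le_SA hy (by rwa [bb_er]))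
      · exact (fp hy e).trans (zpowers_le.2 (RY_le_SA sing_ez (by decide) (h.xs_RY sing_ez).z_mem)))
  rw [eD]
  exact ⟨d2, d5⟩

theorem SA_main {a : F5} (ha : Root a) :
    (centralizer {rr κ 0} ⊓ centralizer {io ψ j a} ≤ 𝐍[SA ψ κ j a]) ∧
      ∀ u ∈ SA ψ κ j a, ∀ w ∈ SA ψ κ j a, u * w * u⁻¹ * w⁻¹ ∈ zpowers (rr κ 0) := by
  obtain ⟨n, w, a, rfl⟩ := h.mv1 ha
  obtain ⟨k1, k2⟩ := h.sb_main hU
  rw [← h.cj_SA a, ← a.act]
  refine ⟨?_, fun u hu w hw => ?_⟩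
  · rw [← conj_of_comm a.cr, centralizer_singleton_conj, centralizer_singleton_conj, ← cj_inf, normalizer_cj]
    exact cj_mono n k1
  · obtain ⟨u, hu', rfl⟩ := mem_cj_iff_exists.1 hu
    obtain ⟨w, hw', rfl⟩ := mem_cj_iff_exists.1 hw
    obtain ⟨i, e⟩ := k2 u hu' w hw'
    exact ⟨i, (conj_of_comm (a.cr.zpow_right i)).symm.trans (by rw [show rr κ 0 ^ i = _ from e]; group)⟩

theorem RY_comm {y y' : F5} (hy : Sing y) (hy' : Sing y') (n1 : y' ≠ y) (n2 : y' ≠ -y) {u w : G}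
    (hu : u ∈ RY ψ κ j y') (hw : w ∈ RY ψ κ j y) : Commute u w := by
  obtain ⟨e, a, ha, a1, a2⟩ := sb_pair y hy y' hy' n1 n2
  have k := (h.SA_main hU ha).2 u (RY_le_SA hy' a2 hu) w (RY_le_SA hy a1 hw)
  have cz {x s : G} (c : Commute x (rr κ 0)) (hs : s ∈ zpowers (rr κ 0)) : Commute x s := by
    obtain ⟨i, rfl⟩ := hs
    exact c.zpow_right i
  have c3 := sb_cube (cz (mem_cent.1 (RY_le y' hu).1) k) (cz (h.io_rr.2 hy.2.2) k) (by group)
    (mem_cent.1 (RY_le y hw).2).symm (cz (mem_cent.1 (RY_le y hw).1) (h.RY_norm hy' hy.2.2 e hu)).symm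
  refine comm_of_conj (mul_inv_eq_one.1 (((mem_zpowers_two (rr_sq κ 0)).1 k).resolve_right fun e => h.rr_ne 0 ?_))
  rwa [e, pow_three, rr_sq, mul_one] at c3

end Fr

end Cfsg.Agent.E63
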