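import Cfsg.Agent.E63.SigB
import Cfsg.Agent.Grp.Card

/-! The extraspecial group of order `2^21`. -/

set_option autoImplicit false
set_option synthInstance.maxSize 4000
set_option synthInstance.maxHeartbeats 400000

namespace Cfsg.Agent.E63

open Subgroup Cfsg.Agent.F22L Cfsg.Agent.F22L.Wr Cfsg.Agent.PLocal.Amb Cfsg.Agent.Loc3

variable {G : Type*} [Group G] [Finite G] {z : G} {ψ : Hs →* G} {ρ : G → Wr} {l : G → V →+ F3}
  {X : Subgroup Wr} {κ : B8 →* G} {j : G}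

omit [Finite G] in
theorem xs_sup {r : G} {R M : Subgroup G} (h1 : TT.XS R r) (h2 : TT.XS M r)
    (c : ∀ a ∈ R, ∀ b ∈ M, Commute a b) :
    TT.XS (R ⊔ M) r ∧ Nat.card (R ⊔ M : Subgroup G) * 2 = Nat.card R * Nat.card M := by
  have n : R ≤ 𝐍[M] := fun a ha => centralizer_le_normalizer' _ (mem_centralizer_iff.2 fun b hb => (c a ha b hb).eq.symm)
  have e : R ⊓ M = zpowers r := le_antisymm
    (fun x hx => (mem_zpowers_two h1.z_sq).2 (h2.cent x hx.2 fun y hy => c x hx.1 y hy))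
    (zpowers_le.2 ⟨h1.z_mem, h2.z_mem⟩)
  have m4 {a b a' b' : G} (hb : b ∈ M) (ha' : a' ∈ R) : a * b * (a' * b') = a * a' * (b * b') := by
    rw [mul_assoc, ← mul_assoc b, ← (c a' ha' b hb).eq]; group
  refine ⟨⟨mem_sup_left h1.z_mem, h1.z_ne, h1.z_sq, fun x hx => ?_, fun x hx y hy => ?_, fun x hx k => ?_,
    h1.nonab.imp fun x hx => ⟨mem_sup_left hx.1, hx.2⟩⟩, ?_⟩
  · obtain ⟨a, ha, b, hb, rfl⟩ := (mem_sup_of_le_normalizer_right n).1 hx
    exact Commute.mul_left (h1.z_comm a ha) (h2.z_comm b hb)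
  · obtain ⟨a, ha, b, hb, rfl⟩ := (mem_sup_of_le_normalizer_right n).1 hx
    obtain ⟨a', ha', b', hb', rfl⟩ := (mem_sup_of_le_normalizer_right n).1 hy
    rw [m4 hb ha', m4 hb' ha]
    have k := h2.z_comm _ (mul_mem hb' hb)
    rcases h1.comm a ha a' ha' with e | e <;> rcases h2.comm b hb b' hb' with e' | e' <;> rw [e, e']
    · exact Or.inl rfl
    · exact Or.inr (mul_assoc _ _ _).symm
    · exact Or.inr (by rw [mul_assoc, ← k, ← mul_assoc])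
    · exact Or.inl (by rw [mul_assoc, ← mul_assoc r, ← k, h1.mul_z_z])
  · obtain ⟨a, ha, b, hb, rfl⟩ := (mem_sup_of_le_normalizer_right n).1 hx
    have a1 := h1.cent a ha fun y hy => by
      simpa using (Commute.mul_left (k y (mem_sup_left hy)) (c y hy b hb).symm.inv_left).eq
    have a2 := h2.cent b hb fun y hy => by
      simpa using (Commute.mul_left (c a ha y hy).inv_left (k y (mem_sup_right hy))).eq
    rcases a1 with rfl | rfl <;> rcases a2 with rfl | rfl <;> simp [h1.z_sq]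
  · rw [← Grp.card_sup_mul_card_inf_of_le_normalizer n, e, Nat.card_zpowers, h1.orderOf_z]

theorem xs_iSup {ι : Type*} {r : G} (R : ι → Subgroup G) (s : Finset ι) (hs : s.Nonempty)
    (h1 : ∀ i ∈ s, TT.XS (R i) r) (h2 : ∀ i ∈ s, Nat.card (R i) = 8)
    (h3 : ∀ i ∈ s, ∀ k ∈ s, i ≠ k → ∀ a ∈ R i, ∀ b ∈ R k, Commute a b) :
    TT.XS (⨆ i ∈ s, R i) r ∧ Nat.card (⨆ i ∈ s, R i : Subgroup G) = 2 * 4 ^ s.card := by
  classical
  induction hs using Finset.Nonempty.cons_induction with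
  | singleton i =>
    rw [Finset.iSup_singleton]
    exact ⟨h1 i (Finset.mem_singleton_self i), h2 i (Finset.mem_singleton_self i)⟩
  | cons i s hi _ ih =>
    have m k (hk : k ∈ s) : k ∈ s.cons i hi := Finset.mem_cons_of_mem hk
    have m0 : i ∈ s.cons i hi := Finset.mem_cons_self i s
    obtain ⟨a1, a2⟩ := ih (fun k hk => h1 k (m k hk)) (fun k hk => h2 k (m k hk))
      fun k hk k' hk' => h3 k (m k hk) k' (m k' hk')
    have le : ⨆ k ∈ s, R k ≤ 𝐂[R i] := iSup₂_le fun k hk b hb => mem_centralizer_iff.2 fun a ha =>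
      h3 i m0 k (m k hk) (fun e => hi (e ▸ hk)) a ha b hb
    obtain ⟨b1, b2⟩ := xs_sup (h1 i m0) a1 fun a ha b hb => mem_centralizer_iff.1 (le hb) a ha
    rw [Finset.card_cons, Finset.cons_eq_insert, Finset.iSup_insert]
    rw [h2 i m0, a2] at b2
    exact ⟨b1, by omega⟩

/-- representatives of the ten singular points -/
def ys : Fin 10 → F5 := ![(0, 0, 0, 0, 1), (1, 0, 0, 0, 0), (1, 0, 0, 1, 1), (1, 0, 0, 2, 1), (1, 0, 1, 0, 1),
  (1, 0, 1, 1, 2), (1, 0, 1, 2, 2), (1, 0, 2, 0, 1), (1, 0, 2, 1, 2), (1, 0, 2, 2, 2)]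

theorem ys_sing : ∀ i, Sing (ys i) := by decide +kernel

theorem ys_all : ∀ y, Sing y → ∃ i, y = ys i ∨ y = -ys i := by decide +kernel

theorem ys_ne : ∀ i k, i ≠ k → ys i ≠ ys k ∧ ys i ≠ -ys k := by decide +kernel

theorem ys_four : ∀ x, sc x 0 = 0 → x ≠ 0 → (Finset.univ.filter fun i => bb x (ys i) = 0).Nonempty ∧
    (Finset.univ.filter fun i => bb x (ys i) = 0).card ≤ 4 := by decide +kernel

variable {U : Subgroup G}

namespace Fr

variable (h : Fr z ψ ρ l X κ j) (hU : Xs z ψ κ j U)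
include h

theorem SA_eq (a : F5) : SA ψ κ j a = ⨆ i ∈ Finset.univ.filter fun i => bb a (ys i) = 0, RY ψ κ j (ys i) := by
  refine le_antisymm (iSup₂_le fun y hy => ?_) (iSup₂_le fun i hi => RY_le_SA (ys_sing i) (Finset.mem_filter.1 hi).2)
  obtain ⟨i, rfl | rfl⟩ := ys_all y hy.1
  · exact le_iSup₂_of_le i (Finset.mem_filter.2 ⟨Finset.mem_univ _, hy.2⟩) le_rfl
  · exact le_iSup₂_of_le i (Finset.mem_filter.2 ⟨Finset.mem_univ _, neg_eq_zero.1 (by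
      rw [← hy.2]; simp only [bb, Prod.fst_neg, Prod.snd_neg]; ring)⟩) (RY_neg h.toBj _).le

include hU

theorem xs_ys (s : Finset (Fin 10)) (hs : s.Nonempty) : TT.XS (⨆ i ∈ s, RY ψ κ j (ys i)) (rr κ 0) ∧
    Nat.card (⨆ i ∈ s, RY ψ κ j (ys i) : Subgroup G) = 2 * 4 ^ s.card :=
  xs_iSup _ s hs (fun i _ => h.xs_RY (ys_sing i)) (fun i _ => h.card_RY (ys_sing i)) fun i _ k _ e _ ha _ hb =>
    h.RY_comm hU (ys_sing k) (ys_sing i) (ys_ne i k e).1 (ys_ne i k e).2 ha hb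

theorem xs_Sig : TT.XS (Sig ψ κ j) (rr κ 0) ∧ Nat.card (Sig ψ κ j) = 2 ^ 21 := by
  have e : Sig ψ κ j = ⨆ i ∈ Finset.univ, RY ψ κ j (ys i) := by
    refine le_antisymm (iSup₂_le fun y hy => ?_) (iSup₂_le fun i _ => RY_le_Sig (ys_sing i))
    obtain ⟨i, rfl | rfl⟩ := ys_all y hy
    · exact le_iSup₂_of_le i (Finset.mem_univ _) le_rfl
    · exact le_iSup₂_of_le i (Finset.mem_univ _) (RY_neg h.toBj _).le
  rw [e]
  exact h.xs_ys hU _ Finset.univ_nonempty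

theorem xs_SA : TT.XS (SA ψ κ j (er 1)) (rr κ 0) ∧ Nat.card (SA ψ κ j (er 1)) = 2 ^ 9 := by
  rw [h.SA_eq]
  exact (h.xs_ys hU _ (by decide +kernel)).imp_right fun e => e.trans (by decide +kernel)

theorem card_fix {x : F5} (x0 : sc x 0 = 0) (x1 : x ≠ 0) :
    Nat.card ↥(Sig ψ κ j ⊓ centralizer {io ψ j x}) ≤ 2 ^ 9 := by
  have := Fact.mk Nat.prime_two
  obtain ⟨a1, a2⟩ := ys_four x x0 x1
  obtain ⟨b1, b2⟩ := h.xs_ys hU _ a1
  rw [← h.SA_eq] at b1 b2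
  refine (card_le_of_le (h.le_of_RY (M := SA ψ κ j x) (fun d hd => mem_cent.1 (Sig_le (mem_inf.1 hd).1)) (fun t ht => ?_) ?_
    fun y hy => ?_)).trans (b2.trans_le ?_)
  · have k := le_normalizer ht
    obtain ⟨u, u0, rfl⟩ := h.mem_TT.1 ht
    exact le_normalizer_inf (zpowers_le.2 (h.norm_Sig (h.io_rr.2 u0) k))
      (zpowers_le.2 (le_normalizer (mem_cent.2 (h.io_comm u x)))) (mem_zpowers _)
  · obtain ⟨i, e⟩ := (h.xs_Sig hU).1.isPGroup.to_inf_left.exists_card_eq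
    rw [e]; exact Nat.Coprime.pow_left _ (by decide)
  · by_cases e : bb x y = 0
    · exact inf_le_right.trans (RY_le_SA hy e)
    · exact fun u hu => zpowers_le.2 b1.z_mem (h.RY_fpf hy x0 e hu.2 (mem_cent.1 hu.1.2))
  · exact Nat.mul_le_mul_left 2 (Nat.pow_le_pow_right (by decide) a2)

theorem nw : ∃ g, g * rr κ 0 * g⁻¹ ∈ U ∧ ∃ M ≤ Sig ψ κ j, rr κ 0 ∈ M ∧ 2 ^ 7 ≤ Nat.card M ∧
    (∀ m ∈ M, Commute m (g * rr κ 0 * g⁻¹)) ∧
      ∀ m ∈ M, (∀ m' ∈ M, Commute m m') → m = 1 ∨ m = rr κ 0 := by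
  obtain ⟨p, p1, p2, p3, -⟩ := h.cyc
  have e1 : p * rr κ 0 * p⁻¹ = rr κ 1 := by rw [h.conj_rr ⟨p1, p2⟩, p3]; rfl
  obtain ⟨a1, a2⟩ := h.xs_SA hU
  have le : SA ψ κ j (er 1) ≤ centralizer {rr κ 1} := iSup₂_le fun y hy u hu =>
    mem_cent.2 (h.RY_r1 hy.1 (bb_er 1 y ▸ hy.2) hu)
  exact ⟨p, e1 ▸ hU.mR 1 (by decide) (rr_mem κ 1), _, SA_le_Sig (er 1), a1.z_mem, by rw [a2]; decide,
    fun m hm => e1 ▸ mem_cent.1 (le hm), a1.cent⟩

end Fr

end Cfsg.Agent.E63
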