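import Cfsg.Agent.E63.SigC
import Cfsg.Agent.Grp.CardProduct

/-! The normaliser of the extraspecial group. -/

set_option autoImplicit false
set_option linter.unusedSectionVars false

namespace Cfsg.Agent.E63

open Subgroup Cfsg.Agent.F22L Cfsg.Agent.F22L.Wr Cfsg.Agent.PLocal.Amb Cfsg.Agent.Loc3

variable {G : Type*} [Group G] [Finite G] {z : G} {ψ : Hs →* G} {ρ : G → Wr} {l : G → V →+ F3}
  {X : Subgroup Wr} {κ : B8 →* G} {j : G}

variable {U : Subgroup G}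

namespace Fr

variable (h : Fr z ψ ρ l X κ j) (hU : Xs z ψ κ j U)
include h hU

theorem norm_of_rho {i : Fin 3} (hi : i ≠ 0) {c : G} (cr : Commute c (rr κ 0)) (cz : Commute c z)
    (cρ : Commute c (rho ψ i)) : c ∈ 𝐍[Sig ψ κ j] := by
  have e : ∀ i : Fin 3, i ≠ 0 → ∀ y, Sing y → ∃ k : F3, Root (er i + k • ez) ∧ bb (er i + k • ez) y = 0 := by
    decide +kernel
  refine mem_normalizer_of_cj_le ?_
  rw [Sig, cj_iSup]
  refine iSup_le fun y => ?_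
  rw [cj_iSup]
  refine iSup_le fun hy => ?_
  obtain ⟨k, h1, h2⟩ := e i hi y hy
  refine (cj_le_of_mem_normalizer (RY_le_SA hy h2) ((h.SA_main hU h1).1 ⟨mem_cent.2 cr, mem_cent.2 ?_⟩)).trans
    (SA_le_Sig _)
  rw [h.io_add, Bj.io_er, h.io_smul, h.io_ez]
  exact cρ.mul_right (cz.pow_right _)

theorem ψ_norm {x : Hs} (x0 : x.v 0 = 0) : ψ x ∈ 𝐍[Sig ψ κ j] := by
  have k : ∀ (i : Fin 3) (x : Hs), i ≠ 0 → x.v 0 = 0 → x.v i = 0 → ψ x ∈ 𝐍[Sig ψ κ j] := fun i x hi h0 h1 =>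
    h.norm_of_rho hU hi (h.toBs.ψ_rr.2 h0) (h.cψ x) (Commute.map (Hs.commute_iff.2 (by
      rw [om_single_right, h1]; simp [o2])) ψ)
  have e : x = ⟨Pi.single 1 (x.v 1), x.c⟩ * ⟨Pi.single 2 (x.v 2), 0⟩ := by
    rw [Hs.mk_mul, om_single_left]
    refine Hs.ext ?_ (by simp [o2])
    conv_lhs => rw [eq_sum x.v, x0]
    simp
  rw [e, map_mul]
  exact mul_mem (k 2 _ (by decide) (by simp) (by simp)) (k 1 _ (by decide) (by simp) (by simp))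

theorem κ_norm (b : B8) : κ b ∈ 𝐍[Sig ψ κ j] := by
  have k : ∀ (i m : Fin 3) (u : SL.Q8), i ≠ 0 → i ≠ m → κ (sgQ m u) ∈ 𝐍[Sig ψ κ j] := fun i m u hi hm =>
    h.norm_of_rho hU hi (rr_comm κ _ 0) (h.κz _) (comm_of_conj (by
      rw [rho, h.κ_act, sgQ_coe, smul_single, sg_m]
      change ψ ⟨Pi.single i (_ • a0), 0⟩ = _
      rw [show (sg m u.1).s i = i from Eq.refl _, Pi.mulSingle_eq_of_ne hm, one_smul]))
  rw [show b = sgQ 0 ⟨_, b.2.2 0⟩ * sgQ 1 ⟨_, b.2.2 1⟩ * sgQ 2 ⟨_, b.2.2 2⟩ from Subtype.ext (eq_prod b.2.1),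
    map_mul, map_mul]
  exact mul_mem (mul_mem (k 1 0 _ (by decide) (by decide)) (k 2 1 _ (by decide) (by decide)))
    (k 1 2 _ (by decide) (by decide))

/-- For `i = 1, 2`: the roots `a_k = er i + k • ez`; every singular `y` is orthogonal to some `a_k` (decide), so
`Sig = ⨆ SA a_k` is normalised by everything centralising `r₀, z, ρᵢ` (`SA_main`). This covers `ψ⟨single m _, _⟩`,
`RQ κ m` (`m ≠ i`), hence `Q12` and `κ B8` (`eq_prod`); finish with `decK`, `H0_norm`, `norm_Sig`. -/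
theorem CK_le {a : G} (cz : Commute a z) (cr : Commute a (rr κ 0)) : a ∈ 𝐍[Sig ψ κ j] := by
  obtain ⟨_, ⟨x, x0, rfl⟩, b, n, hn, c, e, rfl⟩ := h.decK cz cr
  exact mul_mem (mul_mem (h.ψ_norm hU x0) (h.κ_norm hU b)) (h.norm_Sig c (h.H0_norm hn c e).1)

theorem mem_of_io {g : G} {y : F5} (hy : Sing y) (cr : Commute g (rr κ 0)) (e : g * z * g⁻¹ = io ψ j y) :
    g ∈ 𝐍[Sig ψ κ j] := by
  obtain ⟨n, w, a, rfl⟩ := h.mv hy
  rw [← a.act, h.io_ez] at e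
  have := mul_mem (h.norm_Sig a.cr (h.norm_TT a)) (h.CK_le hU (a := n⁻¹ * g) (comm_of_conj (by
    calc _ = n⁻¹ * (g * z * g⁻¹) * n := by group
      _ = _ := by rw [e]; group)) (a.cr.inv_left.mul_left cr))
  rwa [mul_inv_cancel_left] at this

/-- `Xs.gen`; `norm_Sig`; `mv` and `CK_le`. -/
theorem UN : U ≤ 𝐍[Sig ψ κ j] := by
  refine hU.gen _ (fun u hu => h.norm_Sig (hU.cr u hu.1) hu.2) fun y hy u hu => ?_
  obtain ⟨n, w, a, rfl⟩ := h.mv hy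
  have := mul_mem (h.mem_of_io hU (g := u * n) hy ((hU.cr u hu.1).mul_left a.cr) (by
    rw [← conj_of_comm (mem_cent.1 hu.2), ← a.act, h.io_ez]; group)) (inv_mem (h.norm_Sig a.cr (h.norm_TT a)))
  rwa [mul_inv_cancel_right] at this

theorem N_le : 𝐍[Sig ψ κ j] ≤ centralizer {rr κ 0} := fun n hn => by
  have := (h.xs_Sig hU).1.map_conj n
  rw [show (Sig ψ κ j).map (MulAut.conj n).toMonoidHom = Sig ψ κ j from cj_of_mem_normalizer hn] at this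
  exact mem_cent.2 (comm_of_conj (this.unique (h.xs_Sig hU).1))

/-- `P1 ≤ N(Sig) ≤ C(r₀)`, so `P1` is Sylow in `N(Sig)`. -/
theorem sylN : IsSyl 3 h.toBs.P1 𝐍[Sig ψ κ j] :=
  h.syl.mono (fun _ ha => h.CK_le hU ha.1 ha.2.1) (h.N_le hU)

omit hU in
theorem io_of_zp {a : G} (ha : a ∈ zpowers z) (a1 : a ≠ 1) : ∃ k : F3, k ≠ 0 ∧ a = io ψ j (k • ez) := by
  obtain ⟨k, rfl⟩ := h.of_zp ha
  exact ⟨k, fun e => a1 (by rw [e, Hs.mk_one, map_one]), by rw [h.io_smul, h.io_ez, h.cen]⟩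

/-- `C = C(Sig)` is normal in `N(Sig)`. `C ⊓ P1` is normal in `P1`; if nontrivial it meets `Z(P1) ≤ ⟨z⟩` (`cent12`), but `z`
does not centralise `RY ej` (`RY_fpf`, `card_RY`). So `C` is a `3'`-group (a Sylow 3-subgroup of `C` is conjugate
in `N(Sig)` into `P1`), and `le_of_RY` applies. -/
theorem cent_Sig : 𝐂[Sig ψ κ j] ≤ Sig ψ κ j := by
  have : Fact (Nat.Prime 3) := ⟨Nat.prime_three⟩
  have hN := normalizer_le_normalizer_centralizer (Sig ψ κ j)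
  have hP := (h.sylN hU).le.trans hN
  have hb : h.toBs.P1 ⊓ 𝐂[Sig ψ κ j] = ⊥ := by
    by_contra hne
    obtain ⟨⟨a, ⟨h1, h2⟩, h3⟩, a1⟩ := ne_bot_iff_exists_ne_one.1 (inf_centralizer_ne_bot h.P1_pgrp
      (h.P1_pgrp.to_le inf_le_left) (le_normalizer_inf le_normalizer hP) hne)
    obtain ⟨k, k0, rfl⟩ := h.io_of_zp (h.cent12 h1 fun q hq => (h3 q (h.PP_le (mem_sup_left hq))).symm)
      fun e => a1 (Subtype.ext e)
    have s : Sing ej := by decide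
    obtain ⟨u, hu, u1, u2⟩ := (h.xs_RY s).nonab
    exact ((TT.mem_zpowers_invol (rr_sq κ 0)).1 (h.RY_fpf (x := k • ez) s (by simp [sc, ez])
      (by simpa [bb, ez, ej] using k0) hu (h2 u (RY_le_Sig s hu)))).elim u1 u2
  have h3 := ((h.sylN hU).inf_of_le (centralizer_le_normalizer' _) hN).eq_bot_iff.1 hb
  exact h.le_of_RY (fun d hd => (hd _ (h.xs_Sig hU).1.z_mem).symm) ((h.TT_le.trans h.PP_le).trans hP)
    ((Nat.prime_three.coprime_iff_not_dvd.2 h3).symm) fun y hy => inf_le_right.trans (RY_le_Sig hy)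

theorem exists_P1 {t : G} (ht : t ∈ 𝐍[Sig ψ κ j]) (t3 : t ^ 3 = 1) :
    ∃ n ∈ 𝐍[Sig ψ κ j], n * t * n⁻¹ ∈ h.toBs.P1 := by
  have : Fact (Nat.Prime 3) := ⟨Nat.prime_three⟩
  obtain ⟨n, hn, e⟩ := (h.sylN hU).exists_cj_le (isPGroup_zpowers ⟨1, by rw [pow_one, t3]⟩) (zpowers_le.2 ht)
  exact ⟨n, hn, e (conj_mem_cj n (mem_zpowers t))⟩

theorem uf0 {g : G} (cg : Commute g (rr κ 0)) (e : g * z * g⁻¹ ∈ 𝐍[Sig ψ κ j]) : g ∈ 𝐍[Sig ψ κ j] := by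
  obtain ⟨n, hn, h1⟩ := h.exists_P1 hU e (by rw [conj_pow, h.z3]; simp)
  rw [show n * (g * z * g⁻¹) * n⁻¹ = n * g * z * (n * g)⁻¹ by group] at h1
  have c : IsConj z (n * g * z * (n * g)⁻¹) := isConj_iff.2 ⟨_, Eq.refl _⟩
  obtain ⟨y, y0, hy⟩ := h.mem_TT.1 (h.zP _ c h1.1 h1.2.1 h1.2.2.1 h1.2.2.2)
  have y1 : y ≠ 0 := fun e => h.z1 (by rw [← hy, e, h.io_zero] at c; exact isConj_one_left.1 c)
  have := mul_mem (inv_mem hn) (h.mem_of_io hU ⟨y1, (h.zt y y1).1 (hy ▸ c), y0⟩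
    ((mem_cent.1 (h.N_le hU hn)).mul_left cg) hy.symm)
  rwa [inv_mul_cancel_left] at this

/-- `Xs.cen`: wlog `x = z`. Conjugate `g z g⁻¹` into `P1` by `n ∈ N` (`sylN`); it lies in `TT` (`zP`), is `io y` with `y`
singular (`zt`); `mv`, `norm_TT`, `norm_Sig` move it to `z`; `CK_le`. -/
theorem uf {x : G} (hx : x ∈ U) (x3 : x ^ 3 = 1) (x1 : x ≠ 1)
    (c : 729 ∣ Nat.card ↥(U ⊓ centralizer {x})) {g : G} (cg : Commute g (rr κ 0))
    (e : g * x * g⁻¹ ∈ 𝐍[Sig ψ κ j]) : g ∈ 𝐍[Sig ψ κ j] := by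
  obtain ⟨u, hu, h1⟩ := hU.cen x hx x3 x1 c
  have := mul_mem (h.uf0 hU (g := g * u⁻¹) (cg.mul_left (hU.cr u hu).inv_left) (by
    rw [show g * x * g⁻¹ = g * u⁻¹ * (u * x * u⁻¹) * (g * u⁻¹)⁻¹ by group] at e
    rcases h1 with h1 | h1 <;> rw [h1] at e
    · exact e
    · simpa [mul_assoc] using inv_mem e)) (h.UN hU hu)
  rwa [inv_mul_cancel_right] at this

omit h hU in
theorem card_cj_fix {S : Subgroup G} {n : G} (hn : n ∈ 𝐍[S]) (t : G) :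
    cj(n, S ⊓ centralizer {t}) = S ⊓ centralizer {n * t * n⁻¹} := by
  rw [cj_inf, cj_of_mem_normalizer hn, centralizer_singleton_conj]

/-- Wlog `t ∈ P1`, `t ≠ 1`. If `t` centralises `Q12` then `t = z^±1` (`cent12`), contradicting `card_fix`. Otherwise
`x = t q t⁻¹ q⁻¹ ≠ 1` lies in `TT` (`comm_P1`) and centralises `F ⊓ qFq⁻¹`, `F = Sig ⊓ C(t)`, which has order
`≥ 2^17 · 2^17 / 2^21 > 2^9`. -/
theorem h3 {t : G} (ht : t ∈ 𝐍[Sig ψ κ j]) (t3 : t ^ 3 = 1)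
    (c : 2 ^ 17 ≤ Nat.card ↥(Sig ψ κ j ⊓ centralizer {t})) : t = 1 := by
  obtain ⟨n, hn, h1⟩ := h.exists_P1 hU ht t3
  rw [← card_cj n, card_cj_fix hn] at c
  rw [← conj_eq_one_iff (a := n)]
  generalize n * t * n⁻¹ = t at h1 c
  by_contra t1
  by_cases c1 : ∀ q ∈ Q12 ψ, Commute t q
  · obtain ⟨k, k0, rfl⟩ := h.io_of_zp (h.cent12 h1 c1) t1
    have := c.trans (h.card_fix hU (by simp [sc, ez]) (by simpa [ez] using k0))
    norm_num at this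
  · push Not at c1
    obtain ⟨q, hq, c1⟩ := c1
    obtain ⟨y, y0, hy⟩ := h.mem_TT.1 (h.comm_P1 h1 hq)
    have y1 : y ≠ 0 := fun e => c1 (by
      rw [e, h.io_zero, eq_comm, mul_inv_eq_one] at hy
      exact comm_of_conj hy)
    have hq' := (h.sylN hU).le (h.PP_le (mem_sup_left hq))
    have h2 := Grp.card_mul_card_le_of_le (H := Sig ψ κ j ⊓ centralizer {t})
      (K := Sig ψ κ j ⊓ centralizer {q * t * q⁻¹}) inf_le_left inf_le_left
    have h3 : Sig ψ κ j ⊓ centralizer {t} ⊓ (Sig ψ κ j ⊓ centralizer {q * t * q⁻¹}) ≤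
        Sig ψ κ j ⊓ centralizer {io ψ j y} := fun s hs => ⟨hs.1.1, mem_cent.2 (by
      rw [hy, show t * q * t⁻¹ * q⁻¹ = t * (q * t * q⁻¹)⁻¹ by group]
      exact (mem_cent.1 hs.1.2).mul_right (mem_cent.1 hs.2.2).inv_right)⟩
    have h4 := (card_le_of_le h3).trans (h.card_fix hU y0 y1)
    have h5 := (Nat.mul_le_mul c (c.trans_eq (by rw [← card_cj q, card_cj_fix hq']))).trans
      (h2.trans (Nat.mul_le_mul h4 (h.xs_Sig hU).2.le))
    norm_num at h5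

/-- `le_of_RY`. -/
theorem mx {M : Subgroup G} (h1 : M ≤ centralizer {rr κ 0}) (h2 : centralizer {rr κ 0} ≤ 𝐍[M])
    (c : (Nat.card M).Coprime 3) : M ≤ 𝐍[Sig ψ κ j] :=
  h.le_of_RY (fun _ hd => mem_cent.1 (h1 hd)) (((h.TT_le.trans h.PP_le).trans h.syl.le).trans h2) c
    fun _ hy => inf_le_right.trans ((RY_le_Sig hy).trans le_normalizer)

end Fr

end Cfsg.Agent.E63
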